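import Cfsg.Agent.Lib.Fi24Pres.Tab
import Cfsg.Agent.Lib.Compute.CosetData.Fi23ATab

/-!
The maps of `306936` points: the base point `0`, the `31671` points of the certified table of Fi23,
and a double cover of `137632` points, numbered by `31672 + 2 * p + sheet`.
-/

set_option autoImplicit false

namespace Cfsg.Agent.Fi24Pres

open Cfsg.Agent.CosetCert
open Cfsg.Agent.CosetData

noncomputable section

/-- A map of the double cover commuting with the exchange of the sheets. -/
def act2 (t : T20) (q : ℕ) : ℕ := Nat.xor (t.get (Nat.shiftRight q 1)) (Nat.land q 1)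

/-- A generator other than k and l, on all points, from its table on the double cover. -/
def actH (t : T20) (j c : ℕ) : ℕ :=
  Bool.rec (Bool.rec (Nat.add 31672 (act2 t (Nat.sub c 31672)))
      (Nat.add 1 (Fi23A.P.T.get (Nat.add (Nat.mul (Nat.sub c 1) 10) j))) (Nat.blt c 31672))
    0 (Nat.beq c 0)

/-- The generator l. -/
def actL (c : ℕ) : ℕ := Bool.rec (Nat.add 31672 (Nat.xor (Nat.sub c 31672) 1)) c (Nat.blt c 31672)

/-- The composition of maps, the first one first. -/
def comp : List (ℕ → ℕ) → ℕ → ℕ :=
  fun fs x => List.rec (fun y => y) (fun f _ r y => r (f y)) fs x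

theorem comp_nil (x : ℕ) : comp [] x = x := rfl

theorem comp_cons (f : ℕ → ℕ) (fs : List (ℕ → ℕ)) (x : ℕ) : comp (f :: fs) x = comp fs (f x) := rfl

end

end Cfsg.Agent.Fi24Pres
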