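import Cfsg.Agent.Lib.Fi24Pres.Rels2

/-!
Words of maps: the long relations on the double cover.
-/

set_option autoImplicit false
set_option maxRecDepth 100000

namespace Cfsg.Agent.Fi24Pres

open Cfsg.Agent.CosetCert

noncomputable section

theorem comp_append (fs gs : List (ℕ → ℕ)) (x : ℕ) : comp (fs ++ gs) x = comp gs (comp fs x) := by
  induction fs generalizing x with
  | nil => rfl
  | cons f fs ih => simp only [List.cons_append, comp_cons, ih]

theorem comp_lt {N : ℕ} {fs : List (ℕ → ℕ)} (h : ∀ f ∈ fs, Inv f N) : ∀ x < N, comp fs x < N := by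
  induction fs with
  | nil => exact fun x hx => hx
  | cons f fs ih =>
    intro x hx
    exact ih (fun g hg => h g (List.mem_cons_of_mem _ hg)) _ ((h f List.mem_cons_self).lt x hx)

theorem comp_inj {N : ℕ} {fs : List (ℕ → ℕ)} (h : ∀ f ∈ fs, Inv f N) :
    ∀ x < N, ∀ y < N, comp fs x = comp fs y → x = y := by
  induction fs with
  | nil => exact fun x _ y _ e => e
  | cons f fs ih =>
    intro x hx y hy e
    have hf := h f List.mem_cons_self
    exact hf.inj hx hy (ih (fun g hg => h g (List.mem_cons_of_mem _ hg)) _ (hf.lt x hx) _ (hf.lt y hy) e)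

theorem comp_even2 {fs : List (ℕ → ℕ)} (h : ∀ f ∈ fs, Even2 f) : Even2 (comp fs) := by
  induction fs with
  | nil => exact fun _ => rfl
  | cons f fs ih =>
    intro q
    rw [comp_cons, comp_cons, h f List.mem_cons_self, ih fun g hg => h g (List.mem_cons_of_mem _ hg)]

theorem comp_rep {fs : List (ℕ → ℕ)} : ∀ (e x : ℕ), comp (List.flatten (List.replicate e fs)) x = (comp fs)^[e] x
  | 0, _ => rfl
  | e + 1, x => by
    rw [List.replicate_succ, List.flatten_cons, comp_append, comp_rep e, Function.iterate_succ_apply]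

theorem comp_reverse {N : ℕ} {fs : List (ℕ → ℕ)} (h : ∀ f ∈ fs, Inv f N) :
    ∀ x < N, comp fs.reverse (comp fs x) = x := by
  induction fs with
  | nil => exact fun _ _ => rfl
  | cons f fs ih =>
    intro x hx
    have hf := h f List.mem_cons_self
    rw [List.reverse_cons, comp_append, comp_cons f fs x, ih (fun g hg => h g (List.mem_cons_of_mem _ hg)) _ (hf.lt x hx),
      comp_cons, comp_nil, hf.inv x hx]

/-- A power of a word, from a table of the word checked on sheet zero. -/
theorem pow_word {t : T20} {fs : List (ℕ → ℕ)} {σ : ℕ → ℕ} {e : ℕ}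
    (hfs : ∀ f ∈ fs, Inv f (2 * 137632)) (hev : ∀ f ∈ fs, Even2 f) (hσ : ∀ x < 2 * 137632, σ x < 2 * 137632)
    (hσ2 : ∀ g, Even2 g → ∀ x, σ (g x) = g (σ x)) (hσe : Even2 σ)
    (hdef : ∀ c < 137632, Nat.beq (act2 t (lift2 c)) (comp fs (lift2 c)) = true)
    (hpow : ∀ c < 137632, powAt key2 lift2 (act2 t) σ e c = true) :
    ∀ x < 2 * 137632, (comp fs)^[e] x = σ x := by
  have heq : ∀ x < 2 * 137632, act2 t x = comp fs x := by
    refine by_key (KeyLift.double 137632) (keyProp_eq (even2_act2 t) (comp_even2 hev)) fun c hc _ => ?_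
    exact Nat.eq_of_beq_eq_true (hdef c hc)
  have hlt : ∀ x < 2 * 137632, act2 t x < 2 * 137632 := fun x hx => by
    rw [heq x hx]; exact comp_lt hfs x hx
  have h := pow_of_checks (KeyLift.double 137632) hlt
    (fun x hx y hy e => comp_inj hfs x hx y hy (by rw [← heq x hx, ← heq y hy, e])) hσ
    (fun x _ => hσ2 _ (even2_act2 t) x) (keyProp_eq ((even2_act2 t).iterate e) hσe) hpow
  have hit : ∀ i, ∀ x < 2 * 137632, (act2 t)^[i] x = (comp fs)^[i] x ∧ (comp fs)^[i] x < 2 * 137632 := by
    intro i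
    induction i with
    | zero => exact fun x hx => ⟨rfl, hx⟩
    | succ i ih =>
      intro x hx
      obtain ⟨e1, e2⟩ := ih x hx
      rw [Function.iterate_succ_apply', Function.iterate_succ_apply', e1, heq _ e2]
      exact ⟨rfl, comp_lt hfs _ e2⟩
  exact fun x hx => by rw [← (hit e x hx).1, h x hx]

/-- The maps of a word on the double cover. -/
def maps2 (w : List ℕ) : List (ℕ → ℕ) := w.map fun j => act2 (dT j)

theorem maps2_inv {w : List ℕ} (hw : ∀ j ∈ w, j < 10) : ∀ f ∈ maps2 w, Inv f (2 * 137632) := by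
  intro f hf
  obtain ⟨j, hj, rfl⟩ := List.mem_map.1 hf
  exact invT2 j (hw j hj)

theorem maps2_even {w : List ℕ} : ∀ f ∈ maps2 w, Even2 f := by
  intro f hf
  obtain ⟨j, _, rfl⟩ := List.mem_map.1 hf
  exact even2_act2 _

theorem e2_word : ∀ x < 2 * 137632, (comp (maps2 [0, 1, 2, 3, 4, 5, 7]))^[9] x = flip1 x :=
  pow_word (t := qe) (σ := flip1) (maps2_inv (by decide)) maps2_even (fun _ h => flip1_lt h)
    (fun g hg x => (hg x).symm) (fun _ => rfl) qe_def qe_pow

end

end Cfsg.Agent.Fi24Pres
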