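import Cfsg.Agent.Lib.Fi24Pres.Basic
import Cfsg.Agent.Lib.Fi24Pres.Long
import Cfsg.Agent.Lib.Compute.CosetData.Fi23ASetup

/-!
The generators other than k on all 306936 points.
-/

set_option autoImplicit false
set_option maxRecDepth 100000

namespace Cfsg.Agent.Fi24Pres

open Cfsg.Agent.CosetCert
open Cfsg.Agent.CosetData

noncomputable section

/-- A generator among a, ..., j on all points. -/
def hAct (j : ℕ) : ℕ → ℕ := actH (dT j) j

/-- The map of a generator of Fi23 on the certified table. -/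
def t1 (j c : ℕ) : ℕ := Fi23A.P.T.get (Nat.add (Nat.mul c 10) j)

theorem tact_eq (w : List ℕ) (c : ℕ) : tact Fi23A.P w c = comp (w.map t1) c := by
  induction w generalizing c with
  | nil => rfl
  | cons x w ih => rw [tact_cons, List.map_cons, comp_cons, ih]; rfl

theorem invT1 : ∀ j < 10, Inv (t1 j) 31671 := by
  intro j hj
  have h := Fi23A.tab_ok
  simp only [tableOK, Bool.and_eq_true] at h
  have h2 := fun {x : ℕ} (hx : x < 31671) => allBelow_spec (allBelow_spec h.2 (show j < Fi23A.P.k from hj)) (i := x) hx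
  exact ⟨fun x hx => by have := h2 hx; simp only [Bool.and_eq_true, Nat.blt_eq] at this; exact this.1,
    fun x hx => by
      have := h2 hx
      simp only [Bool.and_eq_true, Nat.blt_eq] at this
      exact Nat.eq_of_beq_eq_true this.2⟩

theorem fix1 {w : List ℕ} (hw : w ∈ Fi23A.base) : ∀ x < 31671, comp (w.map t1) x = x := fun x hx => by
  rw [← tact_eq]; exact (Fi23A.base_ok w hw).2 x hx

theorem rel_mem : ∀ j : Fin 10, ∀ i : Fin 10, i < j →
    (if adj i.val j.val then [i.val, j.val, i.val, j.val, i.val, j.val] else [i.val, j.val, i.val, j.val])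
      ∈ Fi23A.base := by
  decide +kernel

theorem comm1 {i j : ℕ} (hij : i < j) (hj : j < 10) (h : adj i j = false) :
    ∀ x < 31671, t1 i (t1 j x) = t1 j (t1 i x) := by
  intro x hx
  have m := rel_mem ⟨j, hj⟩ ⟨i, by omega⟩ hij
  simp only [h, Bool.false_eq_true, if_false] at m
  have Ii := invT1 i (by omega)
  have Ij := invT1 j hj
  have e := fix1 m x hx
  simp only [List.map_cons, List.map_nil, comp_cons, comp_nil] at e
  have e1 := congrArg (t1 j) e
  rw [Ij.inv _ (Ii.lt _ (Ij.lt _ (Ii.lt _ hx)))] at e1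
  have e2 := congrArg (t1 i) e1
  rw [Ii.inv _ (Ij.lt _ (Ii.lt _ hx))] at e2
  exact e2.symm

theorem braid1 {i j : ℕ} (hij : i < j) (hj : j < 10) (h : adj i j = true) :
    ∀ x < 31671, t1 i (t1 j (t1 i x)) = t1 j (t1 i (t1 j x)) := by
  intro x hx
  have m := rel_mem ⟨j, hj⟩ ⟨i, by omega⟩ hij
  simp only [h, if_true] at m
  have Ii := invT1 i (by omega)
  have Ij := invT1 j hj
  have e := fix1 m x hx
  simp only [List.map_cons, List.map_nil, comp_cons, comp_nil] at e
  have l1 := Ii.lt _ hx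
  have l2 := Ij.lt _ l1
  have l3 := Ii.lt _ l2
  have l4 := Ij.lt _ l3
  have e1 := congrArg (t1 j) e
  rw [Ij.inv _ (Ii.lt _ l4)] at e1
  have e2 := congrArg (t1 i) e1
  rw [Ii.inv _ l4] at e2
  have e3 := congrArg (t1 j) e2
  rw [Ij.inv _ l3] at e3
  exact e3

theorem eW1 : ∀ x < 31671, comp (eW.map t1) x = x := fix1 (by decide +kernel)

/-- Points split into the base point, the table and the double cover. -/
theorem point_cases {c : ℕ} (hc : c < 306936) :
    c = 0 ∨ (∃ x < 31671, c = 1 + x) ∨ ∃ q < 2 * 137632, c = 31672 + q := by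
  by_cases h0 : c = 0
  · exact Or.inl h0
  by_cases h1 : c < 31672
  · exact Or.inr (Or.inl ⟨c - 1, by omega, by omega⟩)
  · exact Or.inr (Or.inr ⟨c - 31672, by omega, by omega⟩)

theorem hAct_zero (j : ℕ) : hAct j 0 = 0 := rfl

theorem hAct_one (j : ℕ) {x : ℕ} (hx : x < 31671) : hAct j (1 + x) = 1 + t1 j x := by
  have h0 : Nat.beq (1 + x) 0 = false := by
    cases h : Nat.beq (1 + x) 0 with
    | false => rfl
    | true => have := Nat.eq_of_beq_eq_true h; omega
  have h1 : Nat.blt (1 + x) 31672 = true := by rw [Nat.blt_eq]; omega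
  simp only [hAct, actH, h0, h1, t1]
  rw [show Nat.sub (1 + x) 1 = x from by show 1 + x - 1 = x; omega]
  rfl

theorem hAct_two (j q : ℕ) : hAct j (31672 + q) = 31672 + act2 (dT j) q := by
  have h0 : Nat.beq (31672 + q) 0 = false := by
    cases h : Nat.beq (31672 + q) 0 with
    | false => rfl
    | true => have := Nat.eq_of_beq_eq_true h; omega
  have h1 : Nat.blt (31672 + q) 31672 = false := by
    cases h : Nat.blt (31672 + q) 31672 with
    | false => rfl
    | true => rw [Nat.blt_eq] at h; omega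
  simp only [hAct, actH, h0, h1]
  rw [show Nat.sub (31672 + q) 31672 = q from by show 31672 + q - 31672 = q; omega]
  rfl

theorem actL_low {c : ℕ} (h : c < 31672) : actL c = c := by
  have : Nat.blt c 31672 = true := by rw [Nat.blt_eq]; exact h
  simp only [actL, this]

theorem actL_two (q : ℕ) : actL (31672 + q) = 31672 + flip1 q := by
  have h1 : Nat.blt (31672 + q) 31672 = false := by
    cases h : Nat.blt (31672 + q) 31672 with
    | false => rfl
    | true => rw [Nat.blt_eq] at h; omega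
  simp only [actL, h1]
  rw [show Nat.sub (31672 + q) 31672 = q from by show 31672 + q - 31672 = q; omega]
  rfl

theorem invH {j : ℕ} (hj : j < 10) : Inv (hAct j) 306936 := by
  have I1 := invT1 j hj
  have I2 := invT2 j hj
  refine ⟨fun c hc => ?_, fun c hc => ?_⟩
  · rcases point_cases hc with rfl | ⟨x, hx, rfl⟩ | ⟨q, hq, rfl⟩
    · rw [hAct_zero]; omega
    · rw [hAct_one j hx]; have := I1.lt x hx; omega
    · rw [hAct_two]; have := I2.lt q hq; omega
  · rcases point_cases hc with rfl | ⟨x, hx, rfl⟩ | ⟨q, hq, rfl⟩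
    · rfl
    · rw [hAct_one j hx, hAct_one j (I1.lt x hx), I1.inv x hx]
    · rw [hAct_two, hAct_two, I2.inv q hq]

theorem invL : Inv actL 306936 := by
  refine ⟨fun c hc => ?_, fun c hc => ?_⟩
  · rcases point_cases hc with rfl | ⟨x, hx, rfl⟩ | ⟨q, hq, rfl⟩
    · rw [actL_low (c := 0) (by omega)]; omega
    · rw [actL_low (c := 1 + x) (by omega)]; omega
    · rw [actL_two]; have := flip1_lt hq; omega
  · rcases point_cases hc with rfl | ⟨x, hx, rfl⟩ | ⟨q, hq, rfl⟩
    · rw [actL_low (c := 0) (by omega), actL_low (c := 0) (by omega)]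
    · rw [actL_low (c := 1 + x) (by omega), actL_low (c := 1 + x) (by omega)]
    · rw [actL_two, actL_two, flip1_flip1]

theorem commH {i j : ℕ} (hij : i < j) (hj : j < 10) (h : adj i j = false) :
    ∀ c < 306936, hAct i (hAct j c) = hAct j (hAct i c) := by
  intro c hc
  rcases point_cases hc with rfl | ⟨x, hx, rfl⟩ | ⟨q, hq, rfl⟩
  · rfl
  · rw [hAct_one j hx, hAct_one i ((invT1 j hj).lt x hx), hAct_one i hx,
      hAct_one j ((invT1 i (by omega)).lt x hx), comm1 hij hj h x hx]
  · simp only [hAct_two, comm2 i j hij hj h q hq]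

theorem braidH {i j : ℕ} (hij : i < j) (hj : j < 10) (h : adj i j = true) :
    ∀ c < 306936, hAct i (hAct j (hAct i c)) = hAct j (hAct i (hAct j c)) := by
  intro c hc
  have Ii := invT1 i (by omega)
  have Ij := invT1 j hj
  rcases point_cases hc with rfl | ⟨x, hx, rfl⟩ | ⟨q, hq, rfl⟩
  · rfl
  · rw [hAct_one i hx, hAct_one j (Ii.lt x hx), hAct_one i (Ij.lt _ (Ii.lt x hx)), hAct_one j hx,
      hAct_one i (Ij.lt x hx), hAct_one j (Ii.lt _ (Ij.lt x hx)), braid1 hij hj h x hx]
  · simp only [hAct_two, braid2 i j hij hj h q hq]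

theorem commL {j : ℕ} (hj : j < 10) : ∀ c < 306936, hAct j (actL c) = actL (hAct j c) := by
  intro c hc
  rcases point_cases hc with rfl | ⟨x, hx, rfl⟩ | ⟨q, hq, rfl⟩
  · rfl
  · rw [actL_low (c := 1 + x) (by omega), hAct_one j hx, actL_low (by have := (invT1 j hj).lt x hx; omega)]
  · rw [actL_two, hAct_two, hAct_two, actL_two, even2_act2 (dT j) q]

theorem comp_hAct {w : List ℕ} (hw : ∀ j ∈ w, j < 10) :
    comp (w.map hAct) 0 = 0 ∧ (∀ x < 31671, comp (w.map hAct) (1 + x) = 1 + comp (w.map t1) x) ∧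
      ∀ q, comp (w.map hAct) (31672 + q) = 31672 + comp (maps2 w) q := by
  induction w with
  | nil => exact ⟨rfl, fun _ _ => rfl, fun _ => rfl⟩
  | cons j w ih =>
    obtain ⟨h0, h1, h2⟩ := ih fun i hi => hw i (List.mem_cons_of_mem _ hi)
    refine ⟨?_, fun x hx => ?_, fun q => ?_⟩
    · rw [List.map_cons, comp_cons, hAct_zero, h0]
    · rw [List.map_cons, comp_cons, hAct_one j hx, h1 _ ((invT1 j (hw j List.mem_cons_self)).lt x hx),
        List.map_cons, comp_cons]
    · rw [List.map_cons, comp_cons, hAct_two, h2]; rfl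

theorem eWH : ∀ c < 306936, comp (eW.map hAct) c = actL c := by
  obtain ⟨h0, h1, h2⟩ := comp_hAct (w := eW) (by decide)
  intro c hc
  rcases point_cases hc with rfl | ⟨x, hx, rfl⟩ | ⟨q, hq, rfl⟩
  · rw [h0, actL_low (by norm_num)]
  · rw [h1 x hx, eW1 x hx, actL_low (by omega)]
  · rw [h2, actL_two, ← e2_word q hq, ← comp_rep]
    rfl

end

end Cfsg.Agent.Fi24Pres
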