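import Cfsg.Agent.Lib.Fi24Pres.Act

/-!
Maps of a double cover commuting with the exchange of sheets: relations at one sheet give all.
-/

set_option autoImplicit false

namespace Cfsg.Agent.Fi24Pres

noncomputable section

/-- The exchange of the sheets. -/
def flip1 (q : ℕ) : ℕ := Nat.xor q 1

theorem flip1_eq (q : ℕ) : flip1 q = q ^^^ 1 := rfl

theorem flip1_flip1 (q : ℕ) : flip1 (flip1 q) = q := by
  rw [flip1_eq, flip1_eq, Nat.xor_assoc, Nat.xor_self, Nat.xor_zero]

theorem flip1_div (q : ℕ) : flip1 q >>> 1 = q >>> 1 := by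
  rw [flip1_eq, Nat.shiftRight_xor_distrib]; simp

theorem flip1_lt {n q : ℕ} (h : q < 2 * n) : flip1 q < 2 * n := by
  have := flip1_div q
  rw [Nat.shiftRight_eq_div_pow, Nat.shiftRight_eq_div_pow, pow_one] at this
  omega

/-- A map commuting with the exchange of sheets. -/
def Even2 (f : ℕ → ℕ) : Prop := ∀ q, f (flip1 q) = flip1 (f q)

theorem even2_act2 (t : T20) : Even2 (act2 t) := by
  intro q
  change t.get (flip1 q >>> 1) ^^^ (flip1 q &&& 1) = flip1 (t.get (q >>> 1) ^^^ (q &&& 1))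
  rw [flip1_div]
  generalize t.get (q >>> 1) = u
  rw [flip1_eq, flip1_eq, Nat.xor_assoc u, Nat.and_xor_distrib_right]
  rfl

theorem Even2.comp {f g : ℕ → ℕ} (hf : Even2 f) (hg : Even2 g) : Even2 (fun x => f (g x)) := fun q => by
  show f (g (flip1 q)) = flip1 (f (g q))
  rw [hg, hf]

theorem Even2.iterate {f : ℕ → ℕ} (hf : Even2 f) : ∀ e, Even2 (f^[e])
  | 0 => fun _ => rfl
  | e + 1 => fun q => by
    rw [Function.iterate_succ_apply', Function.iterate_succ_apply', Even2.iterate hf e q, hf]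

/-- The sheet-zero point with the same key. -/
theorem lift_key_cases (x : ℕ) :
    x = Nat.mul 2 (Nat.shiftRight x 1) ∨ x = flip1 (Nat.mul 2 (Nat.shiftRight x 1)) := by
  change x = 2 * (x >>> 1) ∨ x = flip1 (2 * (x >>> 1))
  rw [flip1_eq]
  rcases Nat.mod_two_eq_zero_or_one x with h | h
  · left; rw [Nat.shiftRight_eq_div_pow, pow_one]; omega
  · right
    have : (2 * (x >>> 1)) ^^^ 1 = 2 * (x >>> 1) + 1 := by
      rw [Nat.shiftRight_eq_div_pow, pow_one]
      exact Nat.xor_one_of_even (by simp)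
    rw [this, Nat.shiftRight_eq_div_pow, pow_one]; omega

theorem keyProp_double {N : ℕ} {P : ℕ → Prop} (h : ∀ x, P x ↔ P (flip1 x)) :
    KeyProp (fun x => Nat.shiftRight x 1) (fun c => Nat.mul 2 c) N P := by
  intro x _
  rcases lift_key_cases x with e | e
  · exact iff_of_eq (congrArg P e)
  · exact (iff_of_eq (congrArg P e)).trans (h _).symm

theorem flip1_inj {a b : ℕ} : flip1 a = flip1 b ↔ a = b :=
  ⟨fun e => by rw [← flip1_flip1 a, e, flip1_flip1], fun e => e ▸ rfl⟩

theorem keyProp_inv {f : ℕ → ℕ} {n : ℕ} (hf : Even2 f) :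
    KeyProp (fun x => Nat.shiftRight x 1) (fun c => Nat.mul 2 c) (2 * n)
      fun x => f x < 2 * n ∧ f (f x) = x :=
  keyProp_double fun x => by
    rw [hf, hf, flip1_inj]
    exact ⟨fun h => ⟨flip1_lt h.1, h.2⟩, fun h => ⟨by have := flip1_lt h.1; rwa [flip1_flip1] at this, h.2⟩⟩

theorem keyProp_eq {N : ℕ} {f g : ℕ → ℕ} (hf : Even2 f) (hg : Even2 g) :
    KeyProp (fun x => Nat.shiftRight x 1) (fun c => Nat.mul 2 c) N fun x => f x = g x :=
  keyProp_double fun x => by rw [hf, hg, flip1_inj]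

/-- The key of a point of the double cover. -/
abbrev key2 : ℕ → ℕ := fun x => Nat.shiftRight x 1

/-- The point on sheet zero. -/
abbrev lift2 : ℕ → ℕ := fun c => Nat.mul 2 c

theorem inv2_of_checks {f : ℕ → ℕ} {n : ℕ} (hf : Even2 f)
    (hc : ∀ c < n, invAt lift2 f (2 * n) c = true) : Inv f (2 * n) :=
  inv_of_checks (KeyLift.double n) (keyProp_inv hf) hc

theorem comm2_of_checks {f g : ℕ → ℕ} {n : ℕ} (hf : Even2 f) (hg : Even2 g) (If : Inv f (2 * n))
    (Ig : Inv g (2 * n)) (hc : ∀ c < n, commAt key2 lift2 f g c = true) :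
    ∀ x < 2 * n, f (g x) = g (f x) :=
  comm_of_checks (KeyLift.double n) If Ig (keyProp_eq (hf.comp hg) (hg.comp hf)) hc

theorem braid2_of_checks {f g : ℕ → ℕ} {n : ℕ} (hf : Even2 f) (hg : Even2 g) (If : Inv f (2 * n))
    (Ig : Inv g (2 * n)) (hc : ∀ c < n, braidAt key2 lift2 f g c = true) :
    ∀ x < 2 * n, f (g (f x)) = g (f (g x)) :=
  braid_of_checks (KeyLift.double n) If Ig (keyProp_eq (hf.comp (hg.comp hf)) (hg.comp (hf.comp hg))) hc

end

end Cfsg.Agent.Fi24Pres
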