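import Cfsg.Prelude.Def_Spor_Fi24
import Cfsg.Agent.Lib.Compute.CosetPres

/-!
The presented group Fi24 by numbered generators: `0, …, 9` are a, b, c, d, e, f, g, h, i, j (numbered as
for Fi23), `10` is l and `11` is k.
-/

set_option autoImplicit false

namespace Cfsg.Agent.Fi24Pres

open Cfsg.Agent.CosetCert
open Cfsg.Spor.Fi24 (Gen)

set_option linter.constructorNameAsVariable false

noncomputable section

/-- The generator with a given number. -/
def gi : ℕ → Gen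
  | 0 => .a | 1 => .b | 2 => .c | 3 => .d | 4 => .e | 5 => .f | 6 => .g | 7 => .h | 8 => .i | 9 => .j
  | 10 => .l | _ => .k

/-- The number of a generator. -/
def ix : Gen → ℕ
  | .a => 0 | .b => 1 | .c => 2 | .d => 3 | .e => 4 | .f => 5 | .g => 6 | .h => 7 | .i => 8 | .j => 9
  | .l => 10 | .k => 11

theorem gi_ix (x : Gen) : gi (ix x) = x := by cases x <;> rfl

/-- The braid edges. -/
def edgesN : List (ℕ × ℕ) :=
  [(10, 11), (11, 0), (0, 1), (1, 2), (2, 3), (3, 4), (3, 7), (4, 5), (5, 6), (6, 9), (7, 8)]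

/-- The word of the central involution of the E₇ subgroup on a, b, c, d, e, f, h. -/
def eW : List ℕ := rep 9 [0, 1, 2, 3, 4, 5, 7]

/-- The spider word. -/
def spiderW : List ℕ := rep 10 [3, 2, 1, 3, 4, 5, 3, 7, 8]

/-- The long relator. -/
def zW : List ℕ := rep 17 [3, 2, 1, 0, 11, 10, 3, 4, 5, 6, 9, 3, 7, 8]

/-- The word of the Coxeter relator of two distinct generators. -/
def pairW (x y : ℕ) : List ℕ :=
  if (x, y) ∈ edgesN ∨ (y, x) ∈ edgesN then rep 3 [x, y] else rep 2 [x, y]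

/-- Twelve involutions satisfying the relations of Fi24. -/
structure Gens {G : Type*} [Group G] (g : ℕ → G) : Prop where
  sq : ∀ x, g x * g x = 1
  braid : ∀ p ∈ edgesN, g p.1 * g p.2 * g p.1 = g p.2 * g p.1 * g p.2
  comm : ∀ x < 12, ∀ y < 12, (x, y) ∉ edgesN → (y, x) ∉ edgesN → g x * g y = g y * g x
  l_eq : g 10 = wprod g eW
  z_one : wprod g zW = 1

/-- The generators of the presented group. -/
def gen (x : ℕ) : Cfsg.Spor.Fi24 := PresentedGroup.of (gi x)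

theorem of_pow (a b : Gen) :
    ((PresentedGroup.of a : Cfsg.Spor.Fi24) * PresentedGroup.of b) ^
      Cfsg.Spor.coxLabel Cfsg.Spor.Fi24.edges a b = 1 := by
  have hm : ∀ x : Gen, x ∈ Cfsg.Spor.coxNodes Cfsg.Spor.Fi24.edges := fun x => by cases x <;> decide
  have := PresentedGroup.one_of_mem
    (rels := Cfsg.Spor.coxRelators Cfsg.Spor.Fi24.edges ∪ {r | r ∈ Cfsg.Spor.Fi24.extra})
    (x := (FreeGroup.of a * FreeGroup.of b) ^ Cfsg.Spor.coxLabel Cfsg.Spor.Fi24.edges a b)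
    (Or.inl ⟨a, hm a, b, hm b, rfl⟩)
  rw [map_pow, map_mul] at this
  exact this

theorem gen_sq (x : ℕ) : gen x * gen x = 1 := by
  have := of_pow (gi x) (gi x)
  rwa [coxLabel_self, pow_one] at this

theorem edge_label : ∀ p ∈ edgesN, Cfsg.Spor.coxLabel Cfsg.Spor.Fi24.edges (gi p.1) (gi p.2) = 3 := by
  decide +kernel

theorem comm_label_fin : ∀ x y : Fin 12, (x.val, y.val) ∈ edgesN ∨ (y.val, x.val) ∈ edgesN ∨ x = y ∨
    Cfsg.Spor.coxLabel Cfsg.Spor.Fi24.edges (gi x.val) (gi y.val) = 2 := by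
  decide +kernel

theorem comm_label {x : ℕ} (hx : x < 12) {y : ℕ} (hy : y < 12) (h1 : (x, y) ∉ edgesN) (h2 : (y, x) ∉ edgesN) :
    x = y ∨ Cfsg.Spor.coxLabel Cfsg.Spor.Fi24.edges (gi x) (gi y) = 2 := by
  rcases comm_label_fin ⟨x, hx⟩ ⟨y, hy⟩ with h | h | h | h
  exacts [absurd h h1, absurd h h2, Or.inl (congrArg Fin.val h), Or.inr h]

theorem extra_one {r : FreeGroup Gen} (hr : r ∈ Cfsg.Spor.Fi24.extra) :
    (PresentedGroup.mk (Cfsg.Spor.coxRelators Cfsg.Spor.Fi24.edges ∪ {r | r ∈ Cfsg.Spor.Fi24.extra}) r :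
      Cfsg.Spor.Fi24) = 1 :=
  PresentedGroup.one_of_mem (Or.inr hr)

theorem gens : Gens gen := by
  have inv : ∀ x, (gen x)⁻¹ = gen x := fun x => inv_eq_of_mul_eq_one_right (gen_sq x)
  refine ⟨gen_sq, fun p hp => ?_, fun x hx y hy h1 h2 => ?_, ?_, ?_⟩
  · have h := of_pow (gi p.1) (gi p.2)
    rw [edge_label p hp] at h
    change (gen p.1 * gen p.2) ^ 3 = 1 at h
    rw [pow_succ, pow_two] at h
    have h' : gen p.1 * gen p.2 * gen p.1 * (gen p.2 * gen p.1 * gen p.2) = 1 := by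
      rw [← h]; simp only [mul_assoc]
    rw [eq_inv_of_mul_eq_one_left h', mul_inv_rev, mul_inv_rev, inv, inv, mul_assoc]
  · rcases comm_label hx hy h1 h2 with rfl | hl
    · rfl
    · have h := of_pow (gi x) (gi y)
      rw [hl] at h
      change (gen x * gen y) ^ 2 = 1 at h
      rw [pow_two] at h
      rw [eq_inv_of_mul_eq_one_left h, mul_inv_rev, inv, inv]
  · have h := extra_one (r := Cfsg.Spor.Fi24.l * (((Cfsg.Spor.Fi24.a * Cfsg.Spor.Fi24.b * Cfsg.Spor.Fi24.c *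
      Cfsg.Spor.Fi24.d * Cfsg.Spor.Fi24.e * Cfsg.Spor.Fi24.f * Cfsg.Spor.Fi24.h) ^ 9)⁻¹))
      (by simp [Cfsg.Spor.Fi24.extra])
    rw [map_mul, map_inv, map_pow] at h
    simp only [map_mul] at h
    rw [mul_inv_eq_one] at h
    rw [eW, wprod_rep]
    simp only [wprod_cons, wprod_nil, mul_one]
    change gen 10 = _ at h
    rw [h]
    simp only [mul_assoc]
    rfl
  · have h := extra_one (r := (Cfsg.Spor.Fi24.d * Cfsg.Spor.Fi24.c * Cfsg.Spor.Fi24.b * Cfsg.Spor.Fi24.a *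
      Cfsg.Spor.Fi24.k * Cfsg.Spor.Fi24.l * Cfsg.Spor.Fi24.d * Cfsg.Spor.Fi24.e * Cfsg.Spor.Fi24.f *
      Cfsg.Spor.Fi24.g * Cfsg.Spor.Fi24.j * Cfsg.Spor.Fi24.d * Cfsg.Spor.Fi24.h * Cfsg.Spor.Fi24.i) ^ 17)
      (by simp [Cfsg.Spor.Fi24.extra])
    rw [map_pow] at h
    simp only [map_mul] at h
    rw [zW, wprod_rep]
    simp only [wprod_cons, wprod_nil, mul_one]
    exact (by simp only [mul_assoc] at h ⊢; exact h)

end

end Cfsg.Agent.Fi24Pres
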