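import Cfsg.Agent.Lib.Fi23Plus.Triple

/-!
Order bound for the subgroup on b, ..., j of the presented Fi23.
-/

set_option autoImplicit false
set_option maxRecDepth 100000

namespace Cfsg.Agent.Fi24Pres

open Cfsg.Agent.CosetCert
open Cfsg.Agent.CosetData
open Cfsg.Agent.FischerPresented

theorem cardK_ok : 9904359628800 ≤
    Nat.card ↥(Subgroup.closure (Setup.gen Fi23A.setup '' {x | 1 ≤ x ∧ x ≤ 9})) := by
  have := Fi23.order_facts.1
  have hW : Fi23Plus.W = Subgroup.closure (Setup.gen Fi23A.setup '' {x | 1 ≤ x ∧ x ≤ 9}) := by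
    rw [Fi23Plus.W]
    exact congrArg Subgroup.closure (Set.image_congr fun x _ => Fi23Plus.gg_eq x)
  have hne : Fi23Plus.gg 1 ∉ Fi23Plus.J := fun h => by
    have := (Fi23Plus.moves_gg le_rfl (by norm_num : (1 : ℕ) ≤ 9)).unique (Fi23Plus.J_moves h)
    exact absurd this (by decide)
  have hJ : Nat.card ↥Fi23Plus.J = 4952179814400 := by
    have h := Subgroup.card_mul_index Fi23Plus.psi.ker
    rw [Subgroup.index_ker, MonoidHom.range_eq_top.2 Fi23Plus.psi_surj, Subgroup.card_top, Fi23Plus.psi_ker,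
      Nat.card_congr (Subgroup.subgroupOfEquivOfLe Fi23Plus.J_le_II).toEquiv, Nat.card_perm, Nat.card_fin,
      Fi23Plus.card_II, show Nat.factorial 3 = 6 by decide] at h
    omega
  have hlt : Nat.card ↥Fi23Plus.J < Nat.card ↥Fi23Plus.W := by
    refine lt_of_le_of_ne (Subgroup.card_le_of_le Fi23Plus.J_le_W) fun e => hne ?_
    rw [Subgroup.eq_of_le_of_card_ge Fi23Plus.J_le_W e.ge]
    exact Fi23Plus.gg_mem_W le_rfl (by norm_num)
  obtain ⟨c, hc⟩ := Subgroup.card_dvd_of_le Fi23Plus.J_le_W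
  rw [hJ] at hlt hc
  have h2 : 2 ≤ c := by omega
  rw [← hW]
  exact le_trans (show 9904359628800 ≤ 4952179814400 * c by omega) hc.ge

end Cfsg.Agent.Fi24Pres
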