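import Cfsg.Agent.Lib.Fi24Pres.Closed

/-!
Order bound for the stabiliser of the transposition a in the presented Fi23: it contains a conjugate of the
double cover of Fi22.
-/

set_option autoImplicit false
set_option maxRecDepth 100000

namespace Cfsg.Agent.Fi24Pres

open Cfsg.Agent.CosetCert
open Cfsg.Agent.CosetData
open Cfsg.Agent.FischerPresented

noncomputable section

/-- The generators of the double cover, carried over, as products of the ten generators. -/
def cIdx : List (List ℕ) :=
  [[7, 6, 2, 3, 1, 2, 6, 7, 4, 3, 2, 6, 5, 4, 3, 2, 1, 2, 3, 4, 5, 6, 2, 3, 4, 7, 6, 2, 1, 3, 2, 6, 7],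
    [8],
    [5],
    [4],
    [3],
    [2],
    [6],
    [9],
    [7, 9, 4, 5, 3, 4, 9, 8, 5, 4, 3, 2, 3, 4, 5, 8, 9, 4, 3, 5, 4, 9, 7]]

/-- The word of such a product. -/
def cW (x : ℕ) : List ℕ := (cIdx.getD x []).flatMap fun i => mWords.getD i []

theorem cW_ok : ((List.range 9).all fun x => (cIdx.getD x []).all (fun i => Nat.blt i 10) &&
    wordFixPts Fi23A.P 31671 Fi23.pts (Fi23.uW ++ cW x ++ Fi23.uW.reverse ++ [x])) = true := by
  decide +kernel

theorem cW_mem {l : List ℕ} (hl : ∀ i ∈ l, i < 10) :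
    wprod (Setup.gen Fi23A.setup) (l.flatMap fun i => mWords.getD i []) ∈
      Subgroup.closure {v | ∃ w ∈ mWords, v = wprod (Setup.gen Fi23A.setup) w} := by
  induction l with
  | nil => simp [wprod_nil]
  | cons i l ih =>
    rw [List.flatMap_cons, wprod_append]
    refine mul_mem (Subgroup.subset_closure ⟨_, ?_, rfl⟩) (ih fun j hj => hl j (List.mem_cons_of_mem i hj))
    have hi : i < mWords.length := hl i List.mem_cons_self
    rw [List.getD_eq_getElem _ _ hi]
    exact List.getElem_mem hi

theorem cardM_ok : 129123503308800 ≤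
    Nat.card ↥(Subgroup.closure {v | ∃ w ∈ mWords, v = wprod (Setup.gen Fi23A.setup) w}) := by
  have := Fi23.order_facts.1
  set M := Subgroup.closure {v | ∃ w ∈ mWords, v = wprod (Setup.gen Fi23A.setup) w}
  have hK : Fi23.K ≤ M.map (MulAut.conj Fi23.U).toMonoidHom := by
    rw [Fi23.K, Subgroup.closure_le]
    rintro _ ⟨x, hx, rfl⟩
    have hx9 : x < 9 := hx
    have h := List.all_eq_true.1 cW_ok x (List.mem_range.2 hx9)
    simp only [Bool.and_eq_true] at h
    refine ⟨wprod (Setup.gen Fi23A.setup) (cW x),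
      cW_mem (fun i hi => Nat.blt_eq.mp (List.all_eq_true.1 h.1 i hi)), ?_⟩
    have h1 := Fi23.word_one h.2
    rw [wprod_append, wprod_append, wprod_append, wprod_reverse (Setup.gen_invol _), wprod_cons, wprod_nil,
      mul_one, mul_eq_one_iff_eq_inv, inv_eq_of_mul_eq_one_right (Setup.gen_invol Fi23A.setup x)] at h1
    simpa [Fi23.U] using h1
  have h := Subgroup.card_le_of_le hK
  rw [Fi23.card_K, Subgroup.card_map_of_injective (MulAut.conj Fi23.U).injective] at h
  exact le_trans (le_of_eq (by norm_num)) h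

end

end Cfsg.Agent.Fi24Pres
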