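import Cfsg.Agent.Lib.Fi24Pres.Stab

/-!
The right cosets of the subgroup on a, ..., j, l are exactly the 306936 points, given three certificates.
-/

set_option autoImplicit false
set_option maxRecDepth 100000

namespace Cfsg.Agent.Fi24Pres

open Cfsg.Agent.CosetCert
open Cfsg.Agent.CosetData
open Cfsg.Agent.FischerPresented

noncomputable section

/-- The word of the extra generator of the stabiliser of the transposition a. -/
def piW : List ℕ := [1, 0, 2, 1, 3, 2, 4, 3, 7, 3, 4, 2, 3, 1, 2, 0, 1]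

/-- Generators of the stabiliser of the transposition a in Fi23. -/
def mWords : List (List ℕ) := [[0], [2], [3], [4], [5], [6], [7], [8], [9], piW]

/-- The three certificates. -/
structure Certs : Prop where
  trace : ∀ i < 8, Eqv (bw (row i).1 ++ (row i).2.1 ++ [11]) (bw (row i).2.2.1 ++ (row i).2.2.2)
  fix_a : ∀ w ∈ [[0], [2], [3], [4], [5], [7], [8], [10], piW], Eqv (bw 1 ++ w) (bw 1)
  cardK : 9904359628800 ≤
    Nat.card ↥(Subgroup.closure (Setup.gen Fi23A.setup '' {x | 1 ≤ x ∧ x ≤ 9}))
  cardM : 129123503308800 ≤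
    Nat.card ↥(Subgroup.closure {v | ∃ w ∈ mWords, v = wprod (Setup.gen Fi23A.setup) w})

theorem inH_append {u v : List ℕ} (hu : inH u = true) (hv : inH v = true) : inH (u ++ v) = true := by
  rw [inH, List.all_append, ← inH, ← inH, hu, hv]; rfl

theorem inH_reverse {u : List ℕ} (hu : inH u = true) : inH u.reverse = true :=
  List.all_eq_true.2 fun x hx => List.all_eq_true.1 hu x (List.mem_reverse.1 hx)

theorem inH_of_inK {κ : List ℕ} (h : inK κ = true) : inH κ = true :=
  List.all_eq_true.2 fun x hx => by have := inK_spec h x hx; simp; omega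

theorem wprod_inK_mem {S : Subgroup W2} (h : ∀ x, 1 ≤ x → x ≤ 9 → gW x ∈ S) :
    Subgroup.closure (gW '' {x | 1 ≤ x ∧ x ≤ 9}) ≤ S :=
  (Subgroup.closure_le S).2 (by rintro _ ⟨x, ⟨h1, h2⟩, rfl⟩; exact h x h1 h2)

theorem gW_fst {w : List ℕ} (hw : ∀ x ∈ w, x < 10) : (wprod gW w).1 = wprod (Setup.gen Fi23A.setup) w := by
  rw [← MonoidHom.coe_fst, map_wprod]
  exact wprod_congr fun x hx => by rw [MonoidHom.coe_fst, gW, if_pos (hw x hx)]

theorem gW_single (x : ℕ) : wprod gW [x] = gW x := by rw [wprod_cons, wprod_nil, mul_one]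

theorem theta_stab_word {w : List ℕ} (hw : inH w = true) {c : ℕ} (hc : c < NP)
    (h : Nat.beq (comp (mapsW w) c) c = true) : wprod gW w ∈ stab (pt c hc) := by
  rw [mem_stab]
  refine Fin.ext ?_
  rw [pA_theta_word hw]
  exact Nat.eq_of_beq_eq_true h

namespace Certs

variable (C : Certs)
include C

/-- The subgroup of b, ..., j in Fi23 × 2. -/
theorem card_K2 : 9904359628800 ≤ Nat.card ↥(Subgroup.closure (gW '' {x | 1 ≤ x ∧ x ≤ 9})) := by
  refine C.cardK.trans ?_
  have hm : (Subgroup.closure (gW '' {x | 1 ≤ x ∧ x ≤ 9})).map (MonoidHom.fst _ _) =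
      Subgroup.closure (Setup.gen Fi23A.setup '' {x | 1 ≤ x ∧ x ≤ 9}) := by
    rw [MonoidHom.map_closure, ← Set.image_comp]
    refine congrArg Subgroup.closure (Set.image_congr fun x hx => ?_)
    show (gW x).1 = _
    rw [gW, if_pos (by have := hx.2; omega)]
  rw [← hm]
  exact Nat.card_le_card_of_surjective
    ⇑((MonoidHom.fst (Setup.G Fi23A.setup) (Multiplicative (ZMod 2))).subgroupMap
      (Subgroup.closure (gW '' {x | 1 ≤ x ∧ x ≤ 9})))
    (MonoidHom.subgroupMap_surjective _ _)

theorem fix_a_mem : ∀ w ∈ [[0], [2], [3], [4], [5], [6], [7], [8], [9], [10], piW], wprod gW w ∈ fixer 1 := by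
  intro w hw
  have hl : ∀ w ∈ [[0], [2], [3], [4], [5], [6], [7], [8], [9], [10], piW], inH w = true := by decide +kernel
  rw [mem_fixer (inH_spec (hl w hw))]
  have comm : ∀ x < 12, (∀ y ∈ bw 1, (x, y) ∉ edgesN ∧ (y, x) ∉ edgesN) → x < 11 → Eqv (bw 1 ++ [x]) (bw 1) := by
    intro x hx hy hx11
    have hc : Commute (gen x) (wprod gen (bw 1)) := by
      refine Commute.list_prod_right _ _ fun g hg => ?_
      obtain ⟨y, hy', rfl⟩ := List.mem_map.1 hg
      have : y < 12 := by simp [bw] at hy'; omega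
      exact gen_comm x y hx this (hy y hy').1 (hy y hy').2
    unfold Eqv
    rw [wprod_append, wprod_cons, wprod_nil, mul_one, hc.symm.eq, mul_inv_cancel_right]
    exact gen_mem hx11
  by_cases h6 : w = [6]
  · subst h6; exact comm 6 (by norm_num) (by decide +kernel) (by norm_num)
  by_cases h9 : w = [9]
  · subst h9; exact comm 9 (by norm_num) (by decide +kernel) (by norm_num)
  refine C.fix_a w ?_
  simp only [List.mem_cons, List.not_mem_nil, or_false] at hw ⊢
  tauto

theorem stab_p : stab (pt 26626) ≤ fixer 1 := by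
  set B : Subgroup W2 := Subgroup.closure {v | ∃ w ∈ [[0], [2], [3], [4], [5], [6], [7], [8], [9], [10], piW],
    v = wprod gW w}
  have hBf : B ≤ fixer 1 := (Subgroup.closure_le _).2 (by rintro _ ⟨w, hw, rfl⟩; exact C.fix_a_mem w hw)
  have hok : ∀ w ∈ [[0], [2], [3], [4], [5], [6], [7], [8], [9], [10], piW],
      inH w = true ∧ Nat.beq (comp (mapsW w) 26626) 26626 = true := by decide +kernel
  have hBS : B ≤ stab (pt 26626) := (Subgroup.closure_le _).2 (by
    rintro _ ⟨w, hw, rfl⟩; exact theta_stab_word (hok w hw).1 _ (hok w hw).2)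
  have hl : ((1 : Setup.G Fi23A.setup), Multiplicative.ofAdd (1 : ZMod 2)) ∈ B := by
    have h : wprod gW [10] ∈ B := Subgroup.subset_closure ⟨[10], by simp, rfl⟩
    rwa [gW_single, gW, if_neg (by norm_num)] at h
  have hall : ∀ m : Multiplicative (ZMod 2), ((1 : Setup.G Fi23A.setup), m) ∈ B := fun m => by
    rcases (show ∀ m : Multiplicative (ZMod 2), m = 1 ∨ m = Multiplicative.ofAdd 1 by decide) m with rfl | rfl
    exacts [one_mem B, hl]
  have hM : (Subgroup.closure {v | ∃ w ∈ mWords, v = wprod (Setup.gen Fi23A.setup) w}).prod ⊤ ≤ B := by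
    have hfst : Subgroup.closure {v | ∃ w ∈ mWords, v = wprod (Setup.gen Fi23A.setup) w} ≤
        B.comap (MonoidHom.inl _ _) := by
      refine (Subgroup.closure_le _).2 ?_
      rintro _ ⟨w, hw, rfl⟩
      have hin : ∀ w ∈ mWords, (∀ x ∈ w, x < 10) ∧
          w ∈ [[0], [2], [3], [4], [5], [6], [7], [8], [9], [10], piW] := by decide +kernel
      obtain ⟨hlt, hmem⟩ := hin w hw
      show ((wprod (Setup.gen Fi23A.setup) w, (1 : Multiplicative (ZMod 2))) : W2) ∈ B
      have h : wprod gW w ∈ B := Subgroup.subset_closure ⟨w, hmem, rfl⟩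
      have h2 := mul_mem h (hall (wprod gW w).2⁻¹)
      rw [show (wprod gW w) * ((1 : Setup.G Fi23A.setup), (wprod gW w).2⁻¹) =
        (wprod (Setup.gen Fi23A.setup) w, 1) from Prod.ext (by simp [gW_fst hlt]) (by simp)] at h2
      exact h2
    rintro ⟨u, m⟩ hu
    have h1 : ((u, (1 : Multiplicative (ZMod 2))) : W2) ∈ B := hfst (Subgroup.mem_prod.1 hu).1
    have := mul_mem h1 (hall m)
    simpa using this
  have hc := Subgroup.card_le_of_le hM
  rw [Nat.card_congr (Subgroup.prodEquiv _ _).toEquiv, Nat.card_prod, Subgroup.card_top] at hc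
  have h2 : Nat.card (Multiplicative (ZMod 2)) = 2 := by simp
  rw [h2] at hc
  have hS := card_stab_p
  have := C.cardM
  have hS' : Nat.card (stab (pt 26626)) = 258247006617600 := by omega
  rw [← Subgroup.eq_of_le_of_card_ge hBS
    (hS'.le.trans (le_trans (show 258247006617600 ≤ _ from Nat.mul_le_mul_right 2 C.cardM) hc))]
  exact hBf

/-- The subgroup on b, ..., j is the block stabiliser, and it fixes the second coset. -/
theorem block_stab_le (σ : List ℕ) (hσ : inH σ = true) (hσ0 : Nat.beq (comp (mapsW σ) 31672) 31672 = true)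
    (hσb : ∃ c < 31672, bit blockBits c = true ∧ bit blockBits (comp (mapsW σ) c) = false)
    (hblk : ∀ x, 1 ≤ x → x ≤ 9 → ∀ c < 31672, bit blockBits c = true → bit blockBits (act x c) = true) :
    blockStab ≤ fixer 2 ∧ wprod gW σ ∈ stab (pt 31672) ∧ wprod gW σ ∉ blockStab ∧
      Subgroup.closure (gW '' {x | 1 ≤ x ∧ x ≤ 9}) = blockStab := by
  set K := Subgroup.closure (gW '' {x | 1 ≤ x ∧ x ≤ 9})
  have hfix : ∀ x : Fin 10, 1 ≤ x.val → Nat.beq (comp (mapsW [x.val]) 31672) 31672 = true := by decide +kernel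
  have hbl : ∀ c : Pt, c ∈ block → (c : ℕ) < 31672 := by
    intro c hc
    by_contra hge
    have : bit blockBits c = false := by
      rw [bit_eq_testBit]
      refine Nat.testBit_lt_two_pow ((show blockBits < 2 ^ 31672 by decide +kernel).trans_le ?_)
      exact Nat.pow_le_pow_right (by norm_num) (by omega)
    rw [show bit blockBits c = true from hc] at this
    exact Bool.noConfusion this
  have hKB : K ≤ blockStab := wprod_inK_mem fun x h1 h2 => by
    have hin : inH [x] = true := by simp [inH]; omega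
    rw [← gW_single]
    refine mem_blockStab (theta_stab_word hin _ (hfix ⟨x, by omega⟩ h1)) fun c hc => ?_
    show bit blockBits _ = true
    rw [pA_theta_word hin]
    exact hblk x h1 h2 c (hbl c hc) hc
  have hσS := theta_stab_word hσ (c := 31672) (by norm_num) hσ0
  have hσn : wprod gW σ ∉ blockStab := fun h => by
    obtain ⟨c, hc, hb, hf⟩ := hσb
    have hlt' : c < NP := by simp only [NP]; omega
    have hm : bit blockBits (pA (theta (wprod gW σ)) (pt c hlt') : ℕ) = true := blockStab_spec h (pt c hlt') hb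
    rw [pA_theta_word hσ] at hm
    rw [show bit blockBits (comp (mapsW σ) ((pt c hlt' : Pt) : ℕ)) = false from hf] at hm
    exact Bool.noConfusion hm
  have hlt : Nat.card blockStab < Nat.card (stab (pt 31672)) := by
    refine lt_of_le_of_ne (Subgroup.card_le_of_le inf_le_left) fun e => hσn ?_
    exact (Subgroup.eq_of_le_of_card_ge inf_le_left e.ge).ge hσS
  have h2 := half_or_third (Subgroup.card_dvd_of_le (show blockStab ≤ stab (pt 31672) from inf_le_left))
    Nat.card_pos hlt
  have hS := card_stab_q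
  have hK := C.card_K2
  have heq : K = blockStab := by
    by_contra hne
    have := half_or_third (Subgroup.card_dvd_of_le hKB) Nat.card_pos
      (lt_of_le_of_ne (Subgroup.card_le_of_le hKB) fun e => hne (Subgroup.eq_of_le_of_card_ge hKB e.ge))
    change 9904359628800 ≤ Nat.card K at hK
    omega
  refine ⟨heq ▸ wprod_inK_mem fun x h1 h2 => ?_, hσS, hσn, heq⟩
  rw [← gW_single, mem_fixer (by simp; omega)]
  unfold Eqv
  rw [show bw 2 = [11] from rfl, wprod_append, wprod_cons, wprod_nil, mul_one, wprod_cons, wprod_nil, mul_one,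
    (k_comm x h1 (by omega)).eq, mul_inv_cancel_right]
  exact gen_mem (by omega)

end Certs

/-- The check before the second stabiliser is known. -/
def chkX (k : ℕ) (u : List ℕ) : Bool :=
  inH u && ((k == 1 && Nat.beq (comp (mapsW u) 26626) 26626) ||
    (k == 2 && Nat.beq (comp (mapsW u) 31672) 31672 &&
      allIn (fun c => !bit blockBits c || bit blockBits (comp (mapsW u) c)) 0 31672))

/-- The check when both stabilisers are known. -/
def chkS (k : ℕ) (u : List ℕ) : Bool :=
  inH u && ((k == 1 && Nat.beq (comp (mapsW u) 26626) 26626) ||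
    (k == 2 && Nat.beq (comp (mapsW u) 31672) 31672))

theorem walkA_ok : walk 8 chkX (zW.take cut) stepsA 0 [] = some (2, endA) := by decide +kernel

theorem walkB_ok : walk 8 chkX (zW.drop cut).reverse stepsB 0 [] = some (2, endB) := by decide +kernel

theorem sigma_ok : inH (endA ++ endB.reverse) = true ∧
    Nat.beq (comp (mapsW (endA ++ endB.reverse)) 31672) 31672 = true ∧
    ((List.range 31672).any fun c => bit blockBits c && !bit blockBits (comp (mapsW (endA ++ endB.reverse)) c)) = true := by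
  decide +kernel

theorem block_ok : ((List.range 9).all fun x => allIn (fun c => !bit blockBits c || bit blockBits (act (x + 1) c)) 0 31672) = true := by
  decide +kernel

/-- The result of the short walk. -/
def walk8 : Option (ℕ × List ℕ) := walk 8 chkS [0, 11, 0, 11, 0] steps8 1 ((row 8).2.1 ++ start8)

theorem walk8_ok : (match walk8 with
    | some (k, h) => k == 1 && chkS 1 (h ++ ((row 8).2.1 ++ start8).reverse)
    | none => false) = true ∧ inK start8 = true ∧ (row 8).1 = 1 ∧ (row 8).2.2.1 = 1 ∧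
      (row 8).2.2.2 = (row 8).2.1 := by
  decide +kernel

namespace Certs

variable (C : Certs)
include C

theorem stab_q : stab (pt 31672) ≤ fixer 2 := by
  obtain ⟨hs1, hs2, hs3⟩ := sigma_ok
  obtain ⟨c, hc, hcb⟩ := List.any_eq_true.1 hs3
  simp only [Bool.and_eq_true, Bool.not_eq_true'] at hcb
  obtain ⟨hle, hσS, hσn, heq⟩ := C.block_stab_le _ hs1 hs2 ⟨c, List.mem_range.1 hc, hcb⟩ (fun x h1 h2 c hc hb => by
    have h := List.all_eq_true.1 block_ok (x - 1) (List.mem_range.2 (by omega))
    have := allIn_spec h c (Nat.zero_le c) (by omega)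
    rw [show x - 1 + 1 = x by omega, hb] at this
    simpa using this)
  have hchk : ∀ k u, 1 ≤ k → (∀ x ∈ u, x < 11) → chkX k u = true → Eqv (bw k ++ u) (bw k) := by
    intro k u _ hu h
    simp only [chkX, Bool.and_eq_true, Bool.or_eq_true, beq_iff_eq] at h
    obtain ⟨hin, ⟨rfl, h1⟩ | ⟨⟨rfl, h1⟩, h2⟩⟩ := h
    · exact (mem_fixer hu).1 (C.stab_p (theta_stab_word hin _ h1))
    · refine (mem_fixer hu).1 (hle (mem_blockStab (theta_stab_word hin _ h1) fun c hc => ?_))
      have hc' : bit blockBits c = true := hc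
      have hlt : (c : ℕ) < 31672 := by
        by_contra hge
        have : bit blockBits c = false := by
          rw [bit_eq_testBit]
          refine Nat.testBit_lt_two_pow ((show blockBits < 2 ^ 31672 by decide +kernel).trans_le ?_)
          exact Nat.pow_le_pow_right (by norm_num) (by omega)
        rw [hc'] at this
        exact Bool.noConfusion this
      have := allIn_spec h2 c (Nat.zero_le _) (by omega)
      rw [hc'] at this
      show bit blockBits _ = true
      rw [pA_theta_word hin]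
      simpa using this
  have hrow : ∀ i < 9, i < 8 → Eqv (bw (row i).1 ++ (row i).2.1 ++ [11]) (bw (row i).2.2.1 ++ (row i).2.2.2) :=
    fun i _ h => C.trace i h
  have hA := walk_sound hchk hrow _ _ 0 [] _ (fun _ => rfl) (fun _ h => absurd h (List.not_mem_nil)) walkA_ok
  have hB := walk_sound hchk hrow _ _ 0 [] _ (fun _ => rfl) (fun _ h => absurd h (List.not_mem_nil)) walkB_ok
  simp only [bw, List.nil_append] at hA hB
  have hz : Eqv (zW.take cut) (zW.drop cut).reverse := eqv_congr (by
    rw [wprod_reverse gens.sq, eq_inv_iff_mul_eq_one, ← wprod_append, List.take_append_drop]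
    exact gens.z_one)
  have hs : Eqv (bw 2 ++ (endA ++ endB.reverse)) (bw 2) := by
    have h := ((hA.symm.trans hz).trans hB).append endB.reverse
    rw [List.append_assoc] at h
    refine h.trans (eqv_congr ?_)
    simp only [bw, wprod_append]
    rw [wprod_reverse gens.sq, mul_inv_cancel_right]
  have hσf : wprod gW (endA ++ endB.reverse) ∈ fixer 2 := (mem_fixer (inH_spec hs1)).2 hs
  have h3 : Nat.card (stab (pt 31672)) ≤ 3 * Nat.card ↥(Subgroup.closure (gW '' {x | 1 ≤ x ∧ x ≤ 9})) := by
    have := C.card_K2; have := card_stab_q; omega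
  have hKS : blockStab ≤ stab (pt 31672) := inf_le_left
  rw [← fill (K := Subgroup.closure (gW '' {x | 1 ≤ x ∧ x ≤ 9})) (B := stab (pt 31672) ⊓ fixer 2)
    (le_inf (heq ▸ hKS) (heq ▸ hle)) inf_le_left ⟨hσS, hσf⟩ (heq ▸ hσn) h3]
  exact inf_le_right

theorem chkS_sound : ∀ k u, 1 ≤ k → (∀ x ∈ u, x < 11) → chkS k u = true → Eqv (bw k ++ u) (bw k) := by
  intro k u _ hu h
  simp only [chkS, Bool.and_eq_true, Bool.or_eq_true, beq_iff_eq] at h
  obtain ⟨hin, ⟨rfl, h1⟩ | ⟨rfl, h1⟩⟩ := h
  · exact (mem_fixer hu).1 (C.stab_p (theta_stab_word hin _ h1))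
  · exact (mem_fixer hu).1 (C.stab_q (theta_stab_word hin _ h1))

theorem rows : ∀ i < 9, Eqv (bw (row i).1 ++ (row i).2.1 ++ [11]) (bw (row i).2.2.1 ++ (row i).2.2.2) := by
  intro i hi
  rcases Nat.lt_succ_iff_lt_or_eq.1 hi with h | rfl
  · exact C.trace i h
  obtain ⟨hw, hκ, hk, hk', hu'⟩ := walk8_ok
  obtain ⟨hu, -⟩ := table_letters 8 (by norm_num)
  cases hr : walk8 with
  | none => rw [hr] at hw; exact absurd hw Bool.false_ne_true
  | some r =>
    obtain ⟨k', h'⟩ := r
    rw [hr] at hw
    simp only [Bool.and_eq_true, beq_iff_eq] at hw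
    obtain ⟨rfl, hchk⟩ := hw
    have hst : inH ((row 8).2.1 ++ start8) = true := inH_append hu (inH_of_inK hκ)
    have h1 := walk_sound C.chkS_sound (fun i _ h => C.trace i h) [0, 11, 0, 11, 0] steps8 1 _ (1, h')
      (fun e => absurd e one_ne_zero) (inH_spec hst) hr
    have hin : inH (h' ++ ((row 8).2.1 ++ start8).reverse) = true := by
      simp only [chkS, Bool.and_eq_true] at hchk
      exact hchk.1
    have h2 : Eqv (bw 1 ++ ((row 8).2.1 ++ start8) ++ [0, 11, 0, 11, 0]) (bw 1 ++ ((row 8).2.1 ++ start8)) :=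
      h1.trans (eqv_strip (C.chkS_sound 1 _ le_rfl (inH_spec hin) hchk))
    have hb : wprod gen [0, 11, 0, 11, 0] = wprod gen [11] := by
      simp only [wprod_cons, wprod_nil, mul_one]
      have hb := gens.braid (11, 0) (by decide)
      calc gen 0 * (gen 11 * (gen 0 * (gen 11 * gen 0)))
          = gen 0 * (gen 11 * gen 0 * gen 11) * gen 0 := by simp [mul_assoc]
        _ = gen 0 * (gen 0 * gen 11 * gen 0) * gen 0 := by rw [hb]
        _ = gen 11 := by simp only [mul_assoc, gens.sq, mul_one]; rw [← mul_assoc, gens.sq, one_mul]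
    have h3 : Eqv (bw 1 ++ (row 8).2.1 ++ [11] ++ start8) (bw 1 ++ (row 8).2.1 ++ start8) := by
      refine (eqv_k_past hκ).symm.trans ?_
      rw [List.append_assoc (bw 1) (row 8).2.1 start8]
      exact (eqv_congr (by simp only [wprod_append, hb, mul_assoc])).trans h2
    rw [hk, hk', hu']
    exact h3.cancel

/-- Every element lies in one of the named cosets moved by b, ..., j. -/
theorem covered (x : G24) : ∃ k, k < 3 ∧ ∃ h : List ℕ, inH h = true ∧
    x * (wprod gen (bw k ++ h))⁻¹ ∈ HH := by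
  have hfix : ∀ k, 1 ≤ k → k < 3 → ∀ u, inH u = true → Nat.beq (comp (mapsW u) (bp k)) (bp k) = true →
      Eqv (bw k ++ u) (bw k) := by
    intro k h1 h3 u hu hb
    refine C.chkS_sound k u h1 (inH_spec hu) ?_
    interval_cases k <;> simp [chkS, hu, show bp 1 = 26626 from rfl, show bp 2 = 31672 from rfl] at hb ⊢ <;>
      exact hb
  have hnorm : ∀ k, k < 3 → ∀ h, inH h = true → ∃ i < 9, ∃ κ, inK κ = true ∧
      Eqv (bw k ++ h) (bw (row i).1 ++ ((row i).2.1 ++ κ)) := by
    intro k hk h hh
    have hlt : comp (mapsW h) (bp k) < NP := comp_lt (fun f hf => by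
      obtain ⟨x, -, rfl⟩ := List.mem_map.1 hf
      exact inv_act x) _ (bp_lt k)
    obtain ⟨i, hi, κ, hκ, e⟩ := cover ⟨_, hlt⟩
    obtain ⟨hu, hp⟩ := named_spec i hi
    have huκ := inH_append hu (inH_of_inK hκ)
    have hki : (row i).1 < 3 := (show ∀ i < 9, (row i).1 < 3 by decide +kernel) i hi
    have e' : comp (mapsW ((row i).2.1 ++ κ)) (bp (row i).1) = comp (mapsW h) (bp k) := by
      rw [comp_mapsW_append, hp, e]
    have hke : (row i).1 = k := by
      have r1 := pA_H_region (theta_mem (wprod gW h)) (pt (bp k) (bp_lt k))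
      have r2 := pA_H_region (theta_mem (wprod gW ((row i).2.1 ++ κ))) (pt (bp (row i).1) (bp_lt _))
      rw [pA_theta_word hh] at r1
      rw [pA_theta_word huκ, show ((pt (bp (row i).1) (bp_lt _) : Pt) : ℕ) = bp (row i).1 from rfl, e'] at r2
      simp only [pt] at r1
      have a1 := (bp_region hk).1; have a2 := (bp_region hk).2.1
      have b1 := (bp_region hki).1; have b2 := (bp_region hki).2.1
      omega
    refine ⟨i, hi, κ, hκ, ?_⟩
    rw [hke]
    rcases Nat.eq_zero_or_pos k with rfl | hpos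
    · exact (eqv_zero (inH_spec hh)).trans (eqv_zero (inH_spec huκ)).symm
    · refine eqv_strip (hfix k hpos hk _ (inH_append hh (inH_reverse huκ)) ?_)
      rw [Nat.beq_eq, mapsW, List.map_append, comp_append, List.map_reverse, ← mapsW, ← mapsW, ← e', hke]
      have hI : ∀ f ∈ mapsW ((row i).2.1 ++ κ), Inv f NP := fun f hf => by
        obtain ⟨x, -, rfl⟩ := List.mem_map.1 hf
        exact inv_act x
      exact comp_reverse hI _ (bp_lt k)
  have hclos : ∀ x : G24, x ∈ Subgroup.closure (gen '' {x | x < 12}) := by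
    intro x
    have : x ∈ Subgroup.closure (Set.range (PresentedGroup.of (rels :=
        Cfsg.Spor.coxRelators Cfsg.Spor.Fi24.edges ∪ {r | r ∈ Cfsg.Spor.Fi24.extra}))) := by
      rw [PresentedGroup.closure_range_of]; exact Subgroup.mem_top x
    refine Subgroup.closure_mono ?_ this
    rintro _ ⟨a, rfl⟩
    exact ⟨ix a, by cases a <;> decide, by rw [gen, gi_ix]⟩
  have step : ∀ y, y < 12 → ∀ x : G24, (∃ k, k < 3 ∧ ∃ h : List ℕ, inH h = true ∧
      x * (wprod gen (bw k ++ h))⁻¹ ∈ HH) → ∃ k, k < 3 ∧ ∃ h : List ℕ, inH h = true ∧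
      x * gen y * (wprod gen (bw k ++ h))⁻¹ ∈ HH := by
    rintro y hy x ⟨k, hk, h, hh, hx⟩
    obtain ⟨i, hi, κ, hκ, e⟩ := hnorm k hk h hh
    obtain ⟨hu, hu'⟩ := table_letters i hi
    have mk : ∀ k' h', Eqv (bw (row i).1 ++ ((row i).2.1 ++ κ) ++ [y]) (bw k' ++ h') →
        x * gen y * (wprod gen (bw k' ++ h'))⁻¹ ∈ HH := fun k' h' e' => by
      have := mul_mem hx ((e.append [y]).trans e')
      convert this using 1
      simp [wprod_append, wprod_cons, wprod_nil, mul_assoc]
    have hki : (row i).1 < 3 ∧ (row i).2.2.1 < 3 :=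
      (show ∀ i < 9, (row i).1 < 3 ∧ (row i).2.2.1 < 3 by decide +kernel) i hi
    rcases (show y < 11 ∨ y = 11 by omega) with hy' | rfl
    · exact ⟨(row i).1, hki.1, (row i).2.1 ++ κ ++ [y],
        inH_append (inH_append hu (inH_of_inK hκ)) (by simpa [inH] using hy'),
        mk _ _ (by simp only [List.append_assoc]; exact Eqv.refl _)⟩
    · refine ⟨(row i).2.2.1, hki.2, (row i).2.2.2 ++ κ, inH_append hu' (inH_of_inK hκ), mk _ _ ?_⟩
      rw [← List.append_assoc]
      refine (eqv_k_past hκ).trans ?_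
      rw [← List.append_assoc (bw (row i).2.2.1)]
      exact (C.rows i hi).append κ
  induction hclos x using Subgroup.closure_induction_right with
  | one => exact ⟨0, by norm_num, [], rfl, by simp [bw, wprod_nil]⟩
  | mul_right x hx g hg ih => obtain ⟨y, hy, rfl⟩ := hg; exact step y hy x ih
  | mul_inv_cancel x hx g hg ih =>
    obtain ⟨y, hy, rfl⟩ := hg
    rw [inv_eq_of_mul_eq_one_right (gens.sq y)]
    exact step y hy x ih

theorem mem_HH {x : G24} (hx : pA x (pt 0) = pt 0) : x ∈ HH := by
  obtain ⟨k, hk, h, hh, hxH⟩ := C.covered x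
  set w := wprod gen (bw k ++ h) with hw
  have e : pA (x * w⁻¹) (pt 0) = pt 0 := HH_fix hxH
  rw [pA_mul, hx] at e
  have e2 := pA_inv e
  rw [inv_inv] at e2
  have e3 : (pA w (pt 0) : ℕ) = comp (mapsW h) (bp k) := by
    have hb : ∀ k : Fin 3, comp (mapsW (bw k.val)) 0 = bp k.val := by decide +kernel
    rw [hw, pA_word (by
      intro y hy
      rcases List.mem_append.1 hy with h' | h'
      · have : ∀ k : Fin 3, ∀ y ∈ bw k.val, y < 12 := by decide +kernel
        exact this ⟨k, hk⟩ y h'
      · have := inH_spec hh y h'; omega), mapsW, List.map_append, comp_append]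
    show comp (mapsW h) (comp (mapsW (bw k)) 0) = _
    rw [hb ⟨k, hk⟩]
  rw [e2] at e3
  have r := pA_H_region (theta_mem (wprod gW h)) (pt (bp k) (bp_lt k))
  rw [pA_theta_word hh, show ((pt (bp k) (bp_lt k) : Pt) : ℕ) = bp k from rfl, ← e3] at r
  have hk0 : k = 0 := (bp_region hk).1.1 (r.1.2 rfl)
  subst hk0
  have hwH : w ∈ HH := by rw [hw]; exact wprod_mem (inH_spec hh)
  simpa [mul_assoc] using mul_mem hxH hwH

theorem index_HH : HH.index = 306936 := by
  let φ : G24 →* Equiv.Perm Pt :=
    { toFun := fun x => ((eta x).unop)⁻¹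
      map_one' := by simp
      map_mul' := fun u v => by simp [map_mul, mul_inv_rev] }
  letI : MulAction G24 Pt := MulAction.compHom Pt φ
  have happ : ∀ (x : G24) (c : Pt), x • c = pA x⁻¹ c := fun x c => by
    show ((eta x).unop)⁻¹ c = (eta x⁻¹).unop c
    rw [map_inv, MulOpposite.unop_inv]
  have hs : MulAction.stabilizer G24 (pt 0) = HH := by
    ext x
    rw [MulAction.mem_stabilizer_iff, happ]
    exact ⟨fun h => by simpa using inv_mem (C.mem_HH h), fun h => HH_fix (inv_mem h)⟩
  have ho : MulAction.orbit G24 (pt 0) = Set.univ := by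
    refine Set.eq_univ_of_forall fun c => ?_
    obtain ⟨i, hi, κ, hκ, e⟩ := cover c
    obtain ⟨hu, hp⟩ := named_spec i hi
    have hb : ∀ k : Fin 3, comp (mapsW (bw k.val)) 0 = bp k.val ∧ ∀ y ∈ bw k.val, y < 12 := by decide +kernel
    have hki : (row i).1 < 3 := (show ∀ i < 9, (row i).1 < 3 by decide +kernel) i hi
    refine ⟨(wprod gen (bw (row i).1 ++ ((row i).2.1 ++ κ)))⁻¹, ?_⟩
    show _ • pt 0 = c
    rw [happ, inv_inv]
    refine Fin.ext ?_
    rw [pA_word (by
      intro y hy
      rcases List.mem_append.1 hy with h' | h'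
      · exact (hb ⟨_, hki⟩).2 y h'
      · have := inH_spec (inH_append hu (inH_of_inK hκ)) y h'; omega)]
    rw [mapsW, List.map_append, List.map_append, comp_append, comp_append]
    show comp (mapsW κ) (comp (mapsW (row i).2.1) (comp (mapsW (bw (row i).1)) 0)) = _
    rw [(hb ⟨_, hki⟩).1, hp, e]
  rw [← hs, MulAction.index_stabilizer, ho, Set.ncard_univ, Nat.card_fin]

/-- The three double cosets. -/
theorem double_cosets (x : G24) : x ∈ HH ∨ ∃ h₁ ∈ HH, ∃ h₂ ∈ HH,
    x = h₁ * gen 11 * h₂ ∨ x = h₁ * (gen 11 * gen 10 * gen 0 * gen 11) * h₂ := by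
  obtain ⟨k, hk, h, hh, hxH⟩ := C.covered x
  have hm := wprod_mem (inH_spec hh)
  interval_cases k
  · left
    have := mul_mem hxH (show wprod gen (bw 0 ++ h) ∈ HH from hm)
    simpa using this
  · right
    refine ⟨_, hxH, _, hm, Or.inr ?_⟩
    have hla : gen 11 * gen 10 * gen 0 * gen 11 = wprod gen (bw 1) := by
      simp only [bw, wprod_cons, wprod_nil, mul_one]
      rw [mul_assoc (gen 11), (l_comm 0 (by norm_num)).eq]
      simp [mul_assoc]
    rw [hla, mul_assoc, ← wprod_append, inv_mul_cancel_right]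
  · right
    refine ⟨_, hxH, _, hm, Or.inl ?_⟩
    rw [show gen 11 = wprod gen (bw 2) by simp [bw, wprod_cons, wprod_nil], mul_assoc, ← wprod_append,
      inv_mul_cancel_right]

end Certs

end

end Cfsg.Agent.Fi24Pres
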