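import Cfsg.Agent.Lib.Fi24Pres.Edge
import Cfsg.Agent.Lib.Fi24Pres.BoundM
import Cfsg.Agent.Lib.Fi24Pres.BoundK

/-!
The subgroup on a, ..., j, l has index 306936 in the presented Fi24, with three double cosets.
-/

set_option autoImplicit false
set_option maxRecDepth 100000

namespace Cfsg.Agent.Fi24Pres

noncomputable section

/-- The three certificates hold. -/
theorem certs : Certs where
  trace i hi := eqv_of_subSame (trace_ok i hi)
  fix_a w hw := eqv_of_subSame (fix_a_ok w hw)
  cardK := cardK_ok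
  cardM := cardM_ok

/-- The index is 306936. -/
theorem index_HH : HH.index = 306936 := certs.index_HH

/-- The three double cosets. -/
theorem double_cosets (x : G24) : x ∈ HH ∨ ∃ h₁ ∈ HH, ∃ h₂ ∈ HH,
    x = h₁ * gen 11 * h₂ ∨ x = h₁ * (gen 11 * gen 10 * gen 0 * gen 11) * h₂ :=
  certs.double_cosets x

/-- The twelve generators generate. -/
theorem closure_gen : Subgroup.closure (gen '' {x | x < 12}) = ⊤ := by
  rw [eq_top_iff, ← PresentedGroup.closure_range_of
    (Cfsg.Spor.coxRelators Cfsg.Spor.Fi24.edges ∪ {r | r ∈ Cfsg.Spor.Fi24.extra})]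
  refine Subgroup.closure_mono ?_
  rintro _ ⟨a, rfl⟩
  exact ⟨ix a, by cases a <;> decide, by rw [gen, gi_ix]⟩

end

end Cfsg.Agent.Fi24Pres
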