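import Cfsg.Agent.Lib.Fi24Pres.ActLemmas
import Cfsg.Agent.Lib.Fi24Pres.Check.B01
import Cfsg.Agent.Lib.Fi24Pres.Check.C02
import Cfsg.Agent.Lib.Fi24Pres.Check.C03
import Cfsg.Agent.Lib.Fi24Pres.Check.C04
import Cfsg.Agent.Lib.Fi24Pres.Check.C05
import Cfsg.Agent.Lib.Fi24Pres.Check.C06
import Cfsg.Agent.Lib.Fi24Pres.Check.C07
import Cfsg.Agent.Lib.Fi24Pres.Check.C08
import Cfsg.Agent.Lib.Fi24Pres.Check.C09
import Cfsg.Agent.Lib.Fi24Pres.Check.B12
import Cfsg.Agent.Lib.Fi24Pres.Check.C13
import Cfsg.Agent.Lib.Fi24Pres.Check.C14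
import Cfsg.Agent.Lib.Fi24Pres.Check.C15
import Cfsg.Agent.Lib.Fi24Pres.Check.C16
import Cfsg.Agent.Lib.Fi24Pres.Check.C17
import Cfsg.Agent.Lib.Fi24Pres.Check.C18
import Cfsg.Agent.Lib.Fi24Pres.Check.C19
import Cfsg.Agent.Lib.Fi24Pres.Check.B23
import Cfsg.Agent.Lib.Fi24Pres.Check.C24
import Cfsg.Agent.Lib.Fi24Pres.Check.C25
import Cfsg.Agent.Lib.Fi24Pres.Check.C26
import Cfsg.Agent.Lib.Fi24Pres.Check.C27
import Cfsg.Agent.Lib.Fi24Pres.Check.C28
import Cfsg.Agent.Lib.Fi24Pres.Check.C29
import Cfsg.Agent.Lib.Fi24Pres.Check.B34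
import Cfsg.Agent.Lib.Fi24Pres.Check.C35
import Cfsg.Agent.Lib.Fi24Pres.Check.C36
import Cfsg.Agent.Lib.Fi24Pres.Check.B37
import Cfsg.Agent.Lib.Fi24Pres.Check.C38
import Cfsg.Agent.Lib.Fi24Pres.Check.C39
import Cfsg.Agent.Lib.Fi24Pres.Check.B45
import Cfsg.Agent.Lib.Fi24Pres.Check.C46
import Cfsg.Agent.Lib.Fi24Pres.Check.C47
import Cfsg.Agent.Lib.Fi24Pres.Check.C48
import Cfsg.Agent.Lib.Fi24Pres.Check.C49
import Cfsg.Agent.Lib.Fi24Pres.Check.B56
import Cfsg.Agent.Lib.Fi24Pres.Check.C57
import Cfsg.Agent.Lib.Fi24Pres.Check.C58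
import Cfsg.Agent.Lib.Fi24Pres.Check.C59
import Cfsg.Agent.Lib.Fi24Pres.Check.C67
import Cfsg.Agent.Lib.Fi24Pres.Check.C68
import Cfsg.Agent.Lib.Fi24Pres.Check.B69
import Cfsg.Agent.Lib.Fi24Pres.Check.B78
import Cfsg.Agent.Lib.Fi24Pres.Check.C79
import Cfsg.Agent.Lib.Fi24Pres.Check.C89
import Cfsg.Agent.Lib.Fi24Pres.Check.Qqe

/-! The ten maps of the double cover and their relations, gathered. -/

set_option autoImplicit false
set_option maxRecDepth 100000

namespace Cfsg.Agent.Fi24Pres

noncomputable section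

/-- The table of a generator. -/
def dT : ℕ → T20
  | 0 => d0
  | 1 => d1
  | 2 => d2
  | 3 => d3
  | 4 => d4
  | 5 => d5
  | 6 => d6
  | 7 => d7
  | 8 => d8
  | _ => d9

theorem invT2 : ∀ j < 10, Inv (act2 (dT j)) (2 * 137632) := by
  intro j hj
  interval_cases j
  · exact inv0
  · exact inv1
  · exact inv2
  · exact inv3
  · exact inv4
  · exact inv5
  · exact inv6
  · exact inv7
  · exact inv8
  · exact inv9

/-- Adjacency among the ten generators. -/
def adj (i j : ℕ) : Bool := decide ((i, j) ∈ [(0, 1), (1, 2), (2, 3), (3, 4), (3, 7), (4, 5), (5, 6), (6, 9), (7, 8)] ∨ (j, i) ∈ [(0, 1), (1, 2), (2, 3), (3, 4), (3, 7), (4, 5), (5, 6), (6, 9), (7, 8)])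

theorem comm2 : ∀ i j, i < j → j < 10 → adj i j = false →
    ∀ x < 2 * 137632, act2 (dT i) (act2 (dT j) x) = act2 (dT j) (act2 (dT i) x) := by
  intro i j hij hj h
  interval_cases j <;> interval_cases i
  · exact absurd h (by decide)
  · exact cm0_2
  · exact absurd h (by decide)
  · exact cm0_3
  · exact cm1_3
  · exact absurd h (by decide)
  · exact cm0_4
  · exact cm1_4
  · exact cm2_4
  · exact absurd h (by decide)
  · exact cm0_5
  · exact cm1_5
  · exact cm2_5
  · exact cm3_5
  · exact absurd h (by decide)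
  · exact cm0_6
  · exact cm1_6
  · exact cm2_6
  · exact cm3_6
  · exact cm4_6
  · exact absurd h (by decide)
  · exact cm0_7
  · exact cm1_7
  · exact cm2_7
  · exact absurd h (by decide)
  · exact cm4_7
  · exact cm5_7
  · exact cm6_7
  · exact cm0_8
  · exact cm1_8
  · exact cm2_8
  · exact cm3_8
  · exact cm4_8
  · exact cm5_8
  · exact cm6_8
  · exact absurd h (by decide)
  · exact cm0_9
  · exact cm1_9
  · exact cm2_9
  · exact cm3_9
  · exact cm4_9
  · exact cm5_9
  · exact absurd h (by decide)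
  · exact cm7_9
  · exact cm8_9

theorem braid2 : ∀ i j, i < j → j < 10 → adj i j = true →
    ∀ x < 2 * 137632, act2 (dT i) (act2 (dT j) (act2 (dT i) x)) = act2 (dT j) (act2 (dT i) (act2 (dT j) x)) := by
  intro i j hij hj h
  interval_cases j <;> interval_cases i
  · exact br0_1
  · exact absurd h (by decide)
  · exact br1_2
  · exact absurd h (by decide)
  · exact absurd h (by decide)
  · exact br2_3
  · exact absurd h (by decide)
  · exact absurd h (by decide)
  · exact absurd h (by decide)
  · exact br3_4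
  · exact absurd h (by decide)
  · exact absurd h (by decide)
  · exact absurd h (by decide)
  · exact absurd h (by decide)
  · exact br4_5
  · exact absurd h (by decide)
  · exact absurd h (by decide)
  · exact absurd h (by decide)
  · exact absurd h (by decide)
  · exact absurd h (by decide)
  · exact br5_6
  · exact absurd h (by decide)
  · exact absurd h (by decide)
  · exact absurd h (by decide)
  · exact br3_7
  · exact absurd h (by decide)
  · exact absurd h (by decide)
  · exact absurd h (by decide)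
  · exact absurd h (by decide)
  · exact absurd h (by decide)
  · exact absurd h (by decide)
  · exact absurd h (by decide)
  · exact absurd h (by decide)
  · exact absurd h (by decide)
  · exact absurd h (by decide)
  · exact br7_8
  · exact absurd h (by decide)
  · exact absurd h (by decide)
  · exact absurd h (by decide)
  · exact absurd h (by decide)
  · exact absurd h (by decide)
  · exact absurd h (by decide)
  · exact br6_9
  · exact absurd h (by decide)
  · exact absurd h (by decide)

end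

end Cfsg.Agent.Fi24Pres
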