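import Cfsg.Agent.Lib.Fi24Pres.Basic
import Mathlib.GroupTheory.Abelianization.Defs
import Mathlib.Data.Fintype.Units

/-!
The sign of the presented Fi24: the commutator subgroup has index two and misses every generator.
-/

set_option autoImplicit false
set_option linter.constructorNameAsVariable false

namespace Cfsg.Agent.Fi24Pres

open Cfsg.Agent.CosetCert
open Cfsg.Spor.Fi24 (Gen)

noncomputable section


/-- The sign character: every generator goes to minus one. -/
def sgnHom : Cfsg.Spor.Fi24 →* ℤˣ :=
  PresentedGroup.toGroup (f := fun _ => (-1 : ℤˣ)) (by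
    rintro r (⟨a, -, b, -, rfl⟩ | hr)
    · rw [map_pow, map_mul, FreeGroup.lift_apply_of, FreeGroup.lift_apply_of, neg_one_mul, neg_neg, one_pow]
    · change r ∈ Cfsg.Spor.Fi24.extra at hr
      simp only [Cfsg.Spor.Fi24.extra, List.mem_cons, List.not_mem_nil, or_false] at hr
      rcases hr with rfl | rfl <;>
        simp only [map_mul, map_inv, map_pow, FreeGroup.lift_apply_of] <;> decide)

theorem sgnHom_of (x : Gen) : sgnHom (PresentedGroup.of x) = -1 := PresentedGroup.toGroup.of _

theorem sgnHom_gen (x : ℕ) : sgnHom (gen x) = -1 := sgnHom_of _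

theorem abel_gen {x : ℕ} (hx : x < 12) : Abelianization.of (gen x) = Abelianization.of (gen 0) := by
  have hsq : ∀ y, Abelianization.of (gen y) * Abelianization.of (gen y) = 1 := fun y => by
    rw [← map_mul, gen_sq, map_one]
  have step : ∀ p ∈ edgesN, Abelianization.of (gen p.1) = Abelianization.of (gen p.2) := fun p hp => by
    have h := congrArg Abelianization.of (gens.braid p hp)
    simp only [map_mul] at h
    rw [mul_comm (Abelianization.of (gen p.1)) (Abelianization.of (gen p.2)), mul_assoc, hsq, mul_one,
      mul_assoc, mul_comm (Abelianization.of (gen p.1)), ← mul_assoc, hsq, one_mul] at h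
    exact h.symm
  have h11 := step (11, 0) (by decide)
  have h1 := step (0, 1) (by decide)
  have h2 := step (1, 2) (by decide)
  have h3 := step (2, 3) (by decide)
  have h4 := step (3, 4) (by decide)
  have h7 := step (3, 7) (by decide)
  have h5 := step (4, 5) (by decide)
  have h6 := step (5, 6) (by decide)
  have h9 := step (6, 9) (by decide)
  have h8 := step (7, 8) (by decide)
  have h10 := step (10, 11) (by decide)
  simp only at h1 h2 h3 h4 h5 h6 h7 h8 h9 h10 h11
  interval_cases x
  · rfl
  · exact h1.symm
  · exact (h1.trans h2).symm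
  · exact ((h1.trans h2).trans h3).symm
  · exact (((h1.trans h2).trans h3).trans h4).symm
  · exact ((((h1.trans h2).trans h3).trans h4).trans h5).symm
  · exact (((((h1.trans h2).trans h3).trans h4).trans h5).trans h6).symm
  · exact (((h1.trans h2).trans h3).trans h7).symm
  · exact ((((h1.trans h2).trans h3).trans h7).trans h8).symm
  · exact ((((((h1.trans h2).trans h3).trans h4).trans h5).trans h6).trans h9).symm
  · exact h10.trans h11
  · exact h11

theorem commutator_eq : commutator Cfsg.Spor.Fi24 = sgnHom.ker := by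
  refine le_antisymm (Abelianization.commutator_subset_ker sgnHom) fun q hq => ?_
  rw [← Abelianization.ker_of, MonoidHom.mem_ker]
  set α := Abelianization.of (gen 0) with hα
  have hall : ∀ q : Cfsg.Spor.Fi24, (Abelianization.of q = 1 ∧ sgnHom q = 1) ∨
      (Abelianization.of q = α ∧ sgnHom q = -1) := by
    intro q
    have hsq : α * α = 1 := by rw [hα, ← map_mul, gen_sq, map_one]
    have hinv : α⁻¹ = α := inv_eq_of_mul_eq_one_right hsq
    have hq : q ∈ Subgroup.closure (Set.range (PresentedGroup.of : Gen → Cfsg.Spor.Fi24)) := by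
      rw [PresentedGroup.closure_range_of]; exact Subgroup.mem_top q
    induction hq using Subgroup.closure_induction with
    | mem q hq =>
      obtain ⟨x, rfl⟩ := hq
      refine Or.inr ⟨?_, sgnHom_of x⟩
      rw [← gi_ix x]
      exact abel_gen (by cases x <;> decide)
    | one => exact Or.inl ⟨map_one _, map_one _⟩
    | mul a b _ _ ha hb =>
      rcases ha with ⟨ha, ha'⟩ | ⟨ha, ha'⟩ <;> rcases hb with ⟨hb, hb'⟩ | ⟨hb, hb'⟩ <;>
        simp [map_mul, ha, hb, ha', hb', hsq]
    | inv a _ ha => rcases ha with ⟨ha, ha'⟩ | ⟨ha, ha'⟩ <;> simp [map_inv, ha, ha', hinv]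
  rcases hall q with ⟨h, -⟩ | ⟨-, h⟩
  · exact h
  · rw [MonoidHom.mem_ker] at hq
    rw [hq] at h
    exact absurd h (by decide)

theorem commutator_index : (commutator Cfsg.Spor.Fi24).index = 2 := by
  rw [commutator_eq, Subgroup.index_ker, MonoidHom.range_eq_top.2, Subgroup.card_top, Nat.card_eq_fintype_card]
  · decide
  · intro s
    rcases Int.units_eq_one_or s with rfl | rfl
    · exact ⟨1, map_one _⟩
    · exact ⟨gen 0, sgnHom_gen 0⟩

theorem gen_not_mem (x : ℕ) : gen x ∉ commutator Cfsg.Spor.Fi24 := fun h => by
  rw [commutator_eq, MonoidHom.mem_ker, sgnHom_gen] at h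
  exact absurd h (by decide)

theorem mem_commutator_iff {q : Cfsg.Spor.Fi24} : q ∈ commutator Cfsg.Spor.Fi24 ↔ sgnHom q = 1 := by
  rw [commutator_eq, MonoidHom.mem_ker]

end

end Cfsg.Agent.Fi24Pres
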