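import Cfsg.Agent.Lib.Fi24Pres.Sub1080
import Cfsg.Agent.Lib.Fi24Pres.Closed

/-!
The facts about named cosets that follow from the enumeration of 1080 cosets.
-/

set_option autoImplicit false
set_option maxRecDepth 100000

namespace Cfsg.Agent.Fi24Pres

open Cfsg.Agent.CosetCert

noncomputable section

/-- Two words give the same coset in the enumeration of 1080 cosets. -/
def subSame (a b : List ℕ) : Bool := subOK a && subOK b && Nat.beq (subTrace a) (subTrace b)

theorem eqv_of_subSame {a b : List ℕ} (h : subSame a b = true) : Eqv a b := by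
  simp only [subSame, Bool.and_eq_true] at h
  exact sub_trace gens h.1.1 h.1.2 h.2

theorem trace_ok : ∀ i < 8,
    subSame (bw (row i).1 ++ (row i).2.1 ++ [11]) (bw (row i).2.2.1 ++ (row i).2.2.2) = true := by
  decide +kernel

theorem fix_a_ok : ∀ w ∈ [[0], [2], [3], [4], [5], [7], [8], [10], piW],
    subSame (bw 1 ++ w) (bw 1) = true := by
  decide +kernel

end

end Cfsg.Agent.Fi24Pres
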