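import Cfsg.Agent.Lib.Fi24Pres.Transp

/-!
The cores of the subgroup generated by the neighbours of l are central.
-/

set_option autoImplicit false
set_option maxRecDepth 100000
set_option linter.style.haveILetI false

namespace Cfsg.Agent.Fi24Pres.Transp

open Cfsg.Agent.CosetCert
open Cfsg.Agent.CosetData
open Cfsg.Agent.FischerPresented
open Cfsg.Agent.Fischer.Factor

local notation "FT" => Setup.G Fi23A.setup

noncomputable section

variable {G : Type} [Group G] {g : ℕ → G}

/-- A normal 2-core or 3-core of the neighbour subgroup is central. -/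
theorem Core.pCore_nb_le_center (C : Core g) {p : ℕ} [Fact p.Prime] :
    Cfsg.pCore p ↥(Subgroup.closure (Nb C.D (g 10))) ≤ Subgroup.center ↥(Subgroup.closure (Nb C.D (g 10))) := by
  rw [C.closure_nb]
  refine sSup_le ?_
  rintro M ⟨hMn, hMp⟩ m hm
  haveI := C.finite
  haveI := Fi23.isSimpleGroup
  haveI := hMn
  let ι : FT →* ↥(HH g) := C.psi.codRestrict (HH g) C.psi_mem
  have hι : Function.Injective ι := fun a b h => C.psi_inj (congrArg Subtype.val h)
  have hbot : M.comap ι = ⊥ := by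
    refine (hMn.comap ι).eq_bot_or_eq_top.resolve_right fun h => ?_
    have hFT : IsPGroup p FT := by
      refine (hMp.to_le ?_).of_injective (ι.rangeRestrict) fun a b e => hι (congrArg Subtype.val e)
      rintro _ ⟨q, rfl⟩
      exact (h ▸ Subgroup.mem_top q : q ∈ M.comap ι)
    haveI := Fi23.order_facts.1
    obtain ⟨n, hn⟩ := hFT.exists_card_eq
    rw [Fi23.order_facts.2.1] at hn
    have e2 := (Nat.prime_dvd_prime_iff_eq Nat.prime_two Fact.out).1
      (Nat.prime_two.dvd_of_dvd_pow (hn ▸ (by norm_num : 2 ∣ 4089470473293004800)))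
    have e3 := (Nat.prime_dvd_prime_iff_eq Nat.prime_three Fact.out).1
      (Nat.prime_three.dvd_of_dvd_pow (hn ▸ (by norm_num : 3 ∣ 4089470473293004800)))
    omega
  let Z : ↥(HH g) := ⟨g 10, C.gen_mem (by norm_num)⟩
  have hZ : ∀ x, Commute Z x := fun x => Subtype.ext (C.l_comm_H x.2).eq
  have hdec : ∀ x : ↥(HH g), ∃ q, x = ι q ∨ x = ι q * Z := fun x => by
    obtain ⟨q, h | h⟩ := C.mem_H_iff.1 x.2
    · exact ⟨q, Or.inl (Subtype.ext h)⟩
    · exact ⟨q, Or.inr (Subtype.ext h)⟩
  -- the commutators of m with the range of iota are trivial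
  have key : ∀ r, Commute (ι r) m := fun r => by
    obtain ⟨q, hq⟩ := hdec m
    have e : ι r * m * (ι r)⁻¹ * m⁻¹ = ι (r * q * r⁻¹ * q⁻¹) := by
      rcases hq with rfl | rfl
      · simp only [map_mul, map_inv]
      · simp only [map_mul, map_inv, mul_inv_rev]
        calc ι r * (ι q * Z) * (ι r)⁻¹ * (Z⁻¹ * (ι q)⁻¹) = ι r * ι q * (Z * (ι r)⁻¹) * Z⁻¹ * (ι q)⁻¹ := by group
          _ = _ := by rw [(hZ (ι r)⁻¹).eq]; group
    have h1 : r * q * r⁻¹ * q⁻¹ ∈ M.comap ι := by
      show ι _ ∈ M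
      rw [← e]
      exact mul_mem (hMn.conj_mem m hm _) (inv_mem hm)
    rw [hbot, Subgroup.mem_bot] at h1
    rw [h1, map_one] at e
    exact mul_inv_eq_iff_eq_mul.1 (mul_inv_eq_one.1 e)
  refine Subgroup.mem_center_iff.2 fun x => ?_
  obtain ⟨r, rfl | rfl⟩ := hdec x
  · exact (key r).eq
  · exact ((key r).mul_left (hZ m)).eq

end

end Cfsg.Agent.Fi24Pres.Transp
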