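import Cfsg.Agent.Lib.Fi24Pres.Core
import Cfsg.Agent.Lib.Fi24Pres.NbCore

/-!
The presented Fi24 with the class of l satisfies the hypotheses for groups of type M(24).
-/

set_option autoImplicit false
set_option maxRecDepth 100000

namespace Cfsg.Agent.Fi24Pres.GenType

/-- The hypotheses on the twelve generators. -/
theorem core : Transp.Core gen where
  gens := gens
  closure_gen := closure_gen
  spider := spider gens
  index := index_HH
  cover x := by
    rcases double_cosets x with h | ⟨h₁, a, h₂, b, e | e⟩
    · exact Or.inl h
    · exact Or.inr (Or.inl ⟨h₁, a, h₂, b, e⟩)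
    · exact Or.inr (Or.inr ⟨h₁, a, h₂, b, e⟩)

end Cfsg.Agent.Fi24Pres.GenType
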