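import Cfsg.Agent.Lib.Fi24Pres.Basic
import Cfsg.Agent.Lib.Compute.CosetBound
import Cfsg.Agent.Lib.Compute.CosetData.SpiderY
import Cfsg.Agent.Lib.Compute.CosetData.Fi23ASetup
import Cfsg.Agent.Lib.FischerPresented.Mult23

/-!
The spider relation holds in Fi24.

In the subgroup on a, …, i and l the conjugates of a form a certified orbit of at most 3510 points, all of
which the spider word fixes; so the spider word is central in the subgroup on a, …, j. The generators times
l then satisfy the relations of Fi23 with the spider relator made central, and the multiplier of Fi23 is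
trivial.
-/

set_option autoImplicit false

namespace Cfsg.Agent.Fi24Pres

open Cfsg.Agent.CosetCert
open Cfsg.Agent.CosetData

namespace Spider

variable {G : Type*} [Group G] {g : ℕ → G}

/-- Conjugation by a generator. -/
def cj (g : ℕ → G) (x : ℕ) (q : G) : G := g x * q * g x

theorem cj_cj (hg : Gens g) (x : ℕ) (q : G) : cj g x (cj g x q) = q := by
  show g x * (g x * q * g x) * g x = q
  calc g x * (g x * q * g x) * g x = g x * g x * q * (g x * g x) := by group
    _ = q := by rw [hg.sq, one_mul, mul_one]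

theorem cj_mul (hg : Gens g) (x : ℕ) (p q : G) : cj g x (p * q) = cj g x p * cj g x q := by
  show g x * (p * q) * g x = g x * p * g x * (g x * q * g x)
  calc g x * (p * q) * g x = g x * p * 1 * q * g x := by group
    _ = _ := by rw [← hg.sq x]; group

theorem cj_eq_self (hg : Gens g) {x : ℕ} {q : G} (h : g x * q = q * g x) : cj g x q = q := by
  rw [cj, h, mul_assoc, hg.sq, mul_one]

theorem cj_braid (hg : Gens g) {x y : ℕ} (h : g x * g y * g x = g y * g x * g y) :
    cj g x (g y) = cj g y (g x) := h

theorem cj_comm (hg : Gens g) {x y : ℕ} (h : g x * g y = g y * g x) (q : G) :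
    cj g x (cj g y q) = cj g y (cj g x q) := by
  show g x * (g y * q * g y) * g x = g y * (g x * q * g x) * g y
  calc g x * (g y * q * g y) * g x = (g x * g y) * q * (g y * g x) := by group
    _ = (g y * g x) * q * (g x * g y) := by rw [h]
    _ = _ := by group

theorem cj_braid3 (hg : Gens g) {x y : ℕ} (h : g x * g y * g x = g y * g x * g y) (q : G) :
    cj g x (cj g y (cj g x q)) = cj g y (cj g x (cj g y q)) := by
  show g x * (g y * (g x * q * g x) * g y) * g x = g y * (g x * (g y * q * g y) * g x) * g y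
  calc g x * (g y * (g x * q * g x) * g y) * g x = (g x * g y * g x) * q * (g x * g y * g x) := by group
    _ = (g y * g x * g y) * q * (g y * g x * g y) := by rw [h]
    _ = _ := by group

theorem cj_two (hg : Gens g) {x y : ℕ} (h : g x * g y * g x = g y * g x * g y) :
    cj g x (cj g y (g x)) = g y := by
  rw [← cj_braid hg h, cj_cj hg]

/-- The root word commuting with the first generator. -/
def rW : List ℕ := [1, 2, 3, 7, 4, 3, 2, 1, 0, 1, 2, 3, 4, 7, 3, 2, 1]

theorem root_comm (hg : Gens g) : g 0 * wprod g rW = wprod g rW * g 0 := by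
  have br : ∀ p ∈ edgesN, g p.1 * g p.2 * g p.1 = g p.2 * g p.1 * g p.2 := hg.braid
  have b01 := br (0, 1) (by decide)
  have b12 := br (1, 2) (by decide)
  have b23 := br (2, 3) (by decide)
  have b34 := br (3, 4) (by decide)
  have b37 := br (3, 7) (by decide)
  have nc : ∀ x y, x < 12 → y < 12 → (x, y) ∉ edgesN → (y, x) ∉ edgesN → g x * g y = g y * g x :=
    fun x y hx hy h1 h2 => hg.comm x hx y hy h1 h2
  have c : ∀ x y, x < 12 → y < 12 → (x, y) ∉ edgesN → (y, x) ∉ edgesN → cj g x (g y) = g y :=
    fun x y hx hy h1 h2 => cj_eq_self hg (nc x y hx hy h1 h2)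
  have cc : ∀ x y, x < 12 → y < 12 → (x, y) ∉ edgesN → (y, x) ∉ edgesN → ∀ q,
      cj g x (cj g y q) = cj g y (cj g x q) := fun x y hx hy h1 h2 => cj_comm hg (nc x y hx hy h1 h2)
  -- the root as a product of conjugations
  set X := cj g 4 (cj g 3 (g 7)) with hX
  have hr : wprod g rW = cj g 1 (cj g 0 (cj g 2 (cj g 1 (cj g 3 (cj g 2 X))))) := by
    have e0 : wprod g rW =
        cj g 1 (cj g 2 (cj g 3 (cj g 7 (cj g 4 (cj g 3 (cj g 2 (cj g 1 (g 0)))))))) := by
      simp only [rW, wprod_cons, wprod_nil, cj, mul_one, mul_assoc]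
    have e1 : cj g 1 (g 0) = cj g 0 (g 1) := cj_braid hg b01.symm
    have e2 : cj g 2 (cj g 1 (g 0)) = cj g 0 (cj g 1 (g 2)) := by
      rw [e1, cc 2 0 (by decide) (by decide) (by decide) (by decide), cj_braid hg b12.symm]
    have e3 : cj g 3 (cj g 2 (cj g 1 (g 0))) = cj g 0 (cj g 1 (cj g 2 (g 3))) := by
      rw [e2, cc 3 0 (by decide) (by decide) (by decide) (by decide),
        cc 3 1 (by decide) (by decide) (by decide) (by decide), cj_braid hg b23.symm]
    have e4 : cj g 4 (cj g 3 (cj g 2 (cj g 1 (g 0)))) = cj g 0 (cj g 1 (cj g 2 (cj g 3 (g 4)))) := by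
      rw [e3, cc 4 0 (by decide) (by decide) (by decide) (by decide),
        cc 4 1 (by decide) (by decide) (by decide) (by decide),
        cc 4 2 (by decide) (by decide) (by decide) (by decide), cj_braid hg b34.symm]
    have e5 : cj g 7 (cj g 4 (cj g 3 (cj g 2 (cj g 1 (g 0))))) =
        cj g 0 (cj g 1 (cj g 2 X)) := by
      rw [e4, cc 7 0 (by decide) (by decide) (by decide) (by decide),
        cc 7 1 (by decide) (by decide) (by decide) (by decide),
        cc 7 2 (by decide) (by decide) (by decide) (by decide), hX,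
        show cj g 3 (g 4) = cj g 4 (g 3) from cj_braid hg b34,
        cc 7 4 (by decide) (by decide) (by decide) (by decide), cj_braid hg b37.symm]
    rw [e0, e5, cc 3 0 (by decide) (by decide) (by decide) (by decide),
      cc 2 0 (by decide) (by decide) (by decide) (by decide),
      cc 3 1 (by decide) (by decide) (by decide) (by decide),
      ← show ∀ q, cj g 1 (cj g 0 (cj g 2 q)) = cj g 1 (cj g 0 (cj g 2 q)) from fun q => rfl]
  have key : cj g 0 (wprod g rW) = wprod g rW := by
    -- transport through the conjugations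
    have hh : ∀ x p q, cj g x p = p → cj g x q = q → cj g x (p * q) = p * q := fun x p q h1 h2 => by
      rw [cj_mul hg, h1, h2]
    have inj : ∀ x p q, cj g x p = cj g x q → p = q := fun x p q h => by
      have := congrArg (cj g x) h; rwa [cj_cj hg, cj_cj hg] at this
    have comm_of : ∀ x p q, p * q = q * p → cj g x p * cj g x q = cj g x q * cj g x p := fun x p q h => by
      rw [← cj_mul hg, h, cj_mul hg]
    have h47 : g 4 * g 7 = g 7 * g 4 := nc 4 7 (by decide) (by decide) (by decide) (by decide)
    -- d commutes with the image of h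
    have h3 : g 3 * X = X * g 3 := by
      have h := comm_of 4 _ _ (comm_of 3 _ _ h47)
      rw [cj_braid hg b34, cj_cj hg, ← hX] at h
      exact h
    have h2 : g 2 * cj g 3 (cj g 2 X) = cj g 3 (cj g 2 X) * g 2 := by
      have h := comm_of 3 _ _ (comm_of 2 _ _ h3)
      rw [cj_two hg b23.symm] at h
      exact h
    have h1 : g 1 * cj g 2 (cj g 1 (cj g 3 (cj g 2 X))) = cj g 2 (cj g 1 (cj g 3 (cj g 2 X))) * g 1 := by
      have h := comm_of 2 _ _ (comm_of 1 _ _ h2)
      rw [cj_two hg b12.symm] at h
      exact h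
    have h0 : g 0 * wprod g rW = wprod g rW * g 0 := by
      have h := comm_of 1 _ _ (comm_of 0 _ _ h1)
      rw [cj_two hg b01.symm, ← hr] at h
      exact h
    exact cj_eq_self hg h0
  calc g 0 * wprod g rW = g 0 * wprod g rW * (g 0 * g 0) := by rw [hg.sq, mul_one]
    _ = cj g 0 (wprod g rW) * g 0 := by rw [cj]; group
    _ = _ := by rw [key]

/-- The generators numbered as in the certificate. -/
def mg (g : ℕ → G) (x : ℕ) : G := if x = 9 then g 10 else g x

/-- The braid edges among a, …, i. -/
def edgesY : List (ℕ × ℕ) := [(0, 1), (1, 2), (2, 3), (3, 4), (3, 7), (4, 5), (5, 6), (7, 8)]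

/-- The Coxeter relator word. -/
def pairY (i j : ℕ) : List ℕ := if (i, j) ∈ edgesY ∨ (j, i) ∈ edgesY then rep 3 [i, j] else rep 2 [i, j]

theorem base_kind : (SpiderY.base.all fun w => wordEq w (eW ++ [9]) ||
    (List.range 10).any fun i => (List.range 10).any fun j => !Nat.beq i j && wordEq w (pairY i j)) = true := by
  decide +kernel

theorem edgesY_fin : ∀ i j : Fin 10,
    (((i : ℕ), (j : ℕ)) ∈ edgesY ∨ ((j : ℕ), (i : ℕ)) ∈ edgesY) ↔
      (((if (i : ℕ) = 9 then 10 else (i : ℕ)), (if (j : ℕ) = 9 then 10 else (j : ℕ))) ∈ edgesN ∨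
        ((if (j : ℕ) = 9 then 10 else (j : ℕ)), (if (i : ℕ) = 9 then 10 else (i : ℕ))) ∈ edgesN) := by
  decide +kernel

theorem mg_eq (g : ℕ → G) (x : ℕ) : mg g x = g (if x = 9 then 10 else x) := by
  unfold mg; split_ifs <;> rfl

theorem pow_three_of_braid {a b : G} (ha : a * a = 1) (hb : b * b = 1) (h : a * b * a = b * a * b) :
    (a * b) ^ 3 = 1 := by
  calc (a * b) ^ 3 = (a * b * a) * (b * a * b) := by rw [pow_succ, pow_two]; group
    _ = b * a * (b * b) * a * b := by rw [h]; group
    _ = 1 := by rw [hb, mul_one, show b * a * a * b = b * (a * a) * b by group, ha, mul_one, hb]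

theorem mg_base (hg : Gens g) : ∀ w ∈ SpiderY.base, wprod (mg g) w = 1 := by
  intro w hw
  have h := List.all_eq_true.1 base_kind w hw
  simp only [Bool.or_eq_true, List.any_eq_true, List.mem_range, Bool.and_eq_true, Bool.not_eq_true',
    Nat.beq_eq] at h
  rcases h with h | ⟨i, hi, j, hj, -, he⟩
  · have hl : wprod g eW = g 10 := hg.l_eq.symm
    have he : wprod (mg g) eW = wprod g eW := by
      unfold wprod
      refine congrArg List.prod (List.map_congr_left fun x hx => ?_)
      rw [mg, if_neg]
      rintro rfl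
      exact absurd hx (by decide)
    rw [eq_of_wordEq h, wprod_append, he, hl, wprod_cons, wprod_nil, mul_one]
    exact hg.sq 10
  · rw [eq_of_wordEq he, pairY]
    have hiff := edgesY_fin ⟨i, hi⟩ ⟨j, hj⟩
    by_cases hedge : (i, j) ∈ edgesY ∨ (j, i) ∈ edgesY
    · rw [if_pos hedge, wprod_rep, wprod_cons, wprod_cons, wprod_nil, mul_one, mg_eq, mg_eq]
      rcases hiff.1 hedge with h | h
      · exact pow_three_of_braid (hg.sq _) (hg.sq _) (hg.braid _ h)
      · exact pow_three_of_braid (hg.sq _) (hg.sq _) (hg.braid _ h).symm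
    · rw [if_neg hedge, wprod_rep, wprod_cons, wprod_cons, wprod_nil, mul_one, mg_eq, mg_eq]
      have hn := fun h => hedge (hiff.2 h)
      have hc := hg.comm (if i = 9 then 10 else i) (by split_ifs <;> omega) (if j = 9 then 10 else j)
        (by split_ifs <;> omega) (fun h => hn (Or.inl h)) (fun h => hn (Or.inr h))
      rw [(show Commute _ _ from hc).mul_pow, pow_two, pow_two, hg.sq, hg.sq, one_mul]

theorem act_cj {m : ℕ → G} (hm : ∀ x, m x * m x = 1) (w : List ℕ) (q : G) :
    act (fun x q => m x * q * m x) w q = (wprod m w)⁻¹ * q * wprod m w := by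
  induction w generalizing q with
  | nil => simp [act_nil, wprod_nil]
  | cons x w ih =>
    rw [act_cons, ih, wprod_cons, mul_inv_rev, inv_eq_of_mul_eq_one_right (hm x)]
    group

/-- Paths from the first generator to the others. -/
def paths : List (List ℕ) :=
  [[], [1, 0], [1, 0, 2, 1], [1, 0, 2, 1, 3, 2], [1, 0, 2, 1, 3, 2, 4, 3], [1, 0, 2, 1, 3, 2, 4, 3, 5, 4],
    [1, 0, 2, 1, 3, 2, 4, 3, 5, 4, 6, 5], [1, 0, 2, 1, 3, 2, 7, 3], [1, 0, 2, 1, 3, 2, 7, 3, 8, 7]]

theorem fix_ok : (List.range 9).all (fun x =>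
    ((paths.getD x []).all fun y => Nat.blt y 10) &&
      Nat.beq (tact SpiderY.P spiderW (tact SpiderY.P (paths.getD x []) 0))
        (tact SpiderY.P (paths.getD x []) 0)) = true := by
  decide +kernel

theorem path_eq (hg : Gens g) {x : ℕ} (hx : x < 9) :
    act (fun x q => mg g x * q * mg g x) (paths.getD x []) (g 0) = g x := by
  have br : ∀ p ∈ edgesN, g p.1 * g p.2 * g p.1 = g p.2 * g p.1 * g p.2 := hg.braid
  have hstep : ∀ (a b : ℕ), a ≠ 9 → b ≠ 9 → g a * g b * g a = g b * g a * g b →
      mg g a * (mg g b * g a * mg g b) * mg g a = g b := by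
    intro a b ha hb h
    rw [mg, if_neg ha, mg, if_neg hb]
    exact cj_two hg h
  have s10 := hstep 0 1 (by decide) (by decide) (br (0, 1) (by decide))
  have s21 := hstep 1 2 (by decide) (by decide) (br (1, 2) (by decide))
  have s32 := hstep 2 3 (by decide) (by decide) (br (2, 3) (by decide))
  have s43 := hstep 3 4 (by decide) (by decide) (br (3, 4) (by decide))
  have s54 := hstep 4 5 (by decide) (by decide) (br (4, 5) (by decide))
  have s65 := hstep 5 6 (by decide) (by decide) (br (5, 6) (by decide))
  have s73 := hstep 3 7 (by decide) (by decide) (br (3, 7) (by decide))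
  have s87 := hstep 7 8 (by decide) (by decide) (br (7, 8) (by decide))
  interval_cases x <;>
    simp only [paths, List.getD_cons_zero, List.getD_cons_succ, act_cons, act_nil, s10, s21, s32, s43, s54,
      s65, s73, s87]

theorem wprod_mg (g : ℕ → G) {w : List ℕ} (h : (w.all fun x => Nat.blt x 9) = true) :
    wprod (mg g) w = wprod g w := by
  unfold wprod
  refine congrArg List.prod (List.map_congr_left fun x hx => ?_)
  have := List.all_eq_true.1 h x hx
  rw [Nat.blt_eq] at this
  rw [mg, if_neg (by omega)]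

/-- The spider word commutes with the generators a, …, j. -/
theorem central (hg : Gens g) {x : ℕ} (hx : x < 10) : wprod g spiderW * g x = g x * wprod g spiderW := by
  have nc : ∀ x y, x < 12 → y < 12 → (x, y) ∉ edgesN → (y, x) ∉ edgesN → g x * g y = g y * g x :=
    fun x y hx hy h1 h2 => hg.comm x hx y hy h1 h2
  rcases Nat.lt_succ_iff_lt_or_eq.1 hx with hx | rfl
  · set s : ℕ → G → G := fun x q => mg g x * q * mg g x with hs
    have hm : ∀ x, mg g x * mg g x = 1 := fun x => by rw [mg_eq]; exact hg.sq _
    have hinv : ∀ x q, s x (s x q) = q := fun x q => by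
      show mg g x * (mg g x * q * mg g x) * mg g x = q
      calc mg g x * (mg g x * q * mg g x) * mg g x = mg g x * mg g x * q * (mg g x * mg g x) := by group
        _ = q := by rw [hm, one_mul, mul_one]
    obtain ⟨q, hq0, hq⟩ := checkCert_sound (P := SpiderY.P) (s := s) (q₀ := g 0)
      (fun w hw q => by
        rw [act_cj hm, rotsOK_spec hm (mg_base hg) _ _ SpiderY.rots_ok w hw, inv_one, one_mul, mul_one])
      (fun w hw => by
        rw [act_cj hm]
        have hc : g 0 * wprod (mg g) w = wprod (mg g) w * g 0 := by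
          change w ∈ SpiderY.subs at hw
          simp only [SpiderY.subs, List.mem_cons, List.not_mem_nil, or_false] at hw
          rcases hw with rfl | rfl | rfl | rfl | rfl | rfl | rfl | rfl | rfl
          all_goals first
            | exact (wprod_mg g (w := rW) (by decide)).symm ▸ root_comm hg
            | (rw [wprod_cons, wprod_nil, mul_one, mg, if_neg (by decide)] <;>
               exact nc _ _ (by decide) (by decide) (by decide) (by decide))
        rw [mul_assoc, hc, inv_mul_cancel_left])
      hinv SpiderY.cert_ok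
    have hget : ∀ i < 3510 * 10, SpiderY.P.T.get i < 3510 := fun i hi => by
      have := tableOK_spec SpiderY.P SpiderY.tab_ok (n := 3510) (i := i) hi
      simp only [Bool.and_eq_true, Nat.blt_eq] at this
      exact this.1
    have hwalk : ∀ (w : List ℕ), (w.all fun y => Nat.blt y 10) = true → ∀ c < 3510,
        tact SpiderY.P w c < 3510 ∧ act s w (q c) = q (tact SpiderY.P w c) := by
      intro w
      induction w with
      | nil => intro _ c hc; exact ⟨hc, rfl⟩
      | cons y w ih =>
        intro hall c hc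
        rw [List.all_cons, Bool.and_eq_true, Nat.blt_eq] at hall
        have h1 : c * 10 + y < 3510 * 10 := by omega
        have h2 := hq (c * 10 + y) h1
        rw [show (c * 10 + y) % SpiderY.P.k = y from by show (c * 10 + y) % 10 = y; omega,
          show (c * 10 + y) / SpiderY.P.k = c from by show (c * 10 + y) / 10 = c; omega] at h2
        rw [tact_cons, act_cons, h2]
        exact ih hall.2 _ (hget _ h1)
    have hf := List.all_eq_true.1 fix_ok x (List.mem_range.2 hx)
    rw [Bool.and_eq_true, Nat.beq_eq] at hf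
    obtain ⟨hlt, hp⟩ := hwalk _ hf.1 0 (by norm_num)
    obtain ⟨-, hS⟩ := hwalk spiderW (by decide) _ hlt
    rw [hf.2, ← hp, hq0, path_eq hg hx, act_cj hm, wprod_mg g (by decide)] at hS
    calc wprod g spiderW * g x = wprod g spiderW * ((wprod g spiderW)⁻¹ * g x * wprod g spiderW) := by rw [hS]
      _ = g x * wprod g spiderW := by group
  · refine (show Commute (wprod g spiderW) (g 9) from Commute.list_prod_left _ _ fun y hy => ?_).eq
    obtain ⟨u, hu, rfl⟩ := List.mem_map.1 hy
    have hu' : u ∈ [1, 2, 3, 4, 5, 7, 8] := by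
      have hall : (spiderW.all fun u => decide (u ∈ [1, 2, 3, 4, 5, 7, 8])) = true := by decide
      exact of_decide_eq_true (List.all_eq_true.1 hall u hu)
    simp only [List.mem_cons, List.not_mem_nil, or_false] at hu'
    rcases hu' with rfl | rfl | rfl | rfl | rfl | rfl | rfl <;>
      exact nc _ _ (by decide) (by decide) (by decide) (by decide)

/-! ### The central extension of Fi23 -/

theorem mk_lift {α H : Type*} [Group H] {rels : Set (FreeGroup α)} (φ : PresentedGroup rels →* H)
    (r : FreeGroup α) : φ (PresentedGroup.mk rels r) = FreeGroup.lift (fun a => φ (PresentedGroup.of a)) r :=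
  DFunLike.congr_fun (FreeGroup.ext_hom (f := φ.comp (PresentedGroup.mk rels))
    (g := FreeGroup.lift fun a => φ (PresentedGroup.of a)) fun a => by
      rw [MonoidHom.comp_apply, FreeGroup.lift_apply_of]; rfl) r

open Cfsg.Spor.Fi23 (Gen)

local notation "FS" => Fi23A.setup

/-- The spider word of the free group. -/
def fS : FreeGroup Gen :=
  (Cfsg.Spor.Fi23.d * Cfsg.Spor.Fi23.c * Cfsg.Spor.Fi23.b * Cfsg.Spor.Fi23.d * Cfsg.Spor.Fi23.e *
    Cfsg.Spor.Fi23.f * Cfsg.Spor.Fi23.d * Cfsg.Spor.Fi23.h * Cfsg.Spor.Fi23.i) ^ 10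

/-- The E₇ word of the free group. -/
def fE : FreeGroup Gen :=
  (Cfsg.Spor.Fi23.a * Cfsg.Spor.Fi23.b * Cfsg.Spor.Fi23.c * Cfsg.Spor.Fi23.d * Cfsg.Spor.Fi23.e *
    Cfsg.Spor.Fi23.f * Cfsg.Spor.Fi23.h) ^ 9

theorem lift_words {H : Type} [Group H] (f : Gen → H) (hf : ∀ a, f a * f a = 1) :
    FreeGroup.lift f fS = wprod (fun x => f (Fi23A.gi x)) spiderW ∧
      FreeGroup.lift f fE = wprod (fun x => f (Fi23A.gi x)) eW := by
  have h := (FS).spec f hf
  change List.Forall₂ _ [fS, fE] [spiderW, eW] at h
  simp only [List.forall₂_cons] at h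
  exact ⟨h.1, h.2.1⟩

/-- The relators of the extension. -/
def erels : Set (FreeGroup Gen) :=
  Cfsg.Spor.coxRelators Cfsg.Spor.Fi23.edges ∪
    (insert fE (Set.range fun a => fS * FreeGroup.of a * fS⁻¹ * (FreeGroup.of a)⁻¹))

/-- Fi23 with the spider relator made central. -/
abbrev E : Type := PresentedGroup erels

/-- The spider element. -/
noncomputable def eS : E := PresentedGroup.mk erels fS

theorem eS_central (q : E) : eS * q = q * eS := by
  have h : q ∈ Subgroup.centralizer ({eS} : Set E) := by
    suffices hh : (⊤ : Subgroup E) ≤ Subgroup.centralizer ({eS} : Set E) from hh (Subgroup.mem_top q)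
    rw [← PresentedGroup.closure_range_of, Subgroup.closure_le]
    rintro _ ⟨a, rfl⟩
    rw [SetLike.mem_coe, Subgroup.mem_centralizer_singleton_iff]
    have := PresentedGroup.one_of_mem (rels := erels) (x := fS * FreeGroup.of a * fS⁻¹ * (FreeGroup.of a)⁻¹)
      (Or.inr (Or.inr ⟨a, rfl⟩))
    rw [map_mul, map_mul, map_mul, map_inv, map_inv, mul_inv_eq_one, mul_inv_eq_iff_eq_mul] at this
    exact this.symm
  exact (Subgroup.mem_centralizer_singleton_iff.1 h).symm

theorem eS_one : eS = 1 := by
  -- the map onto Fi23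
  let σ : E →* Setup.G FS := PresentedGroup.toGroup (f := fun a => (PresentedGroup.of a : Setup.G FS)) (by
    intro r hr
    have hspec := lift_words (fun a => (PresentedGroup.of a : Setup.G FS)) (Setup.of_invol FS)
    have hone : ∀ r ∈ Cfsg.Spor.coxRelators Cfsg.Spor.Fi23.edges ∪ {r | r ∈ Cfsg.Spor.Fi23.extra},
        FreeGroup.lift (fun a => (PresentedGroup.of a : Setup.G FS)) r = 1 := fun r hr => by
      refine Eq.trans ?_ (PresentedGroup.one_of_mem (rels := Cfsg.Spor.coxRelators Cfsg.Spor.Fi23.edges ∪
        {r | r ∈ Cfsg.Spor.Fi23.extra}) hr)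
      exact (mk_lift (MonoidHom.id _) r).symm
    have hS : FreeGroup.lift (fun a => (PresentedGroup.of a : Setup.G FS)) fS = 1 :=
      hone _ (Or.inr (by simp [Cfsg.Spor.Fi23.extra, fS]))
    rcases hr with hr | rfl | ⟨a, rfl⟩
    · exact hone r (Or.inl hr)
    · exact hone _ (Or.inr (by simp [Cfsg.Spor.Fi23.extra, fE]))
    · rw [map_mul, map_mul, map_mul, map_inv, map_inv, hS]
      group)
  have hσof : ∀ a, σ (PresentedGroup.of a) = PresentedGroup.of a := fun a => PresentedGroup.toGroup.of _
  have hσmk : ∀ r, σ (PresentedGroup.mk erels r) = PresentedGroup.mk _ r := by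
    intro r
    exact DFunLike.congr_fun (FreeGroup.ext_hom (f := σ.comp (PresentedGroup.mk erels))
      (g := PresentedGroup.mk _) fun a => hσof a) r
  have hσS : σ eS = 1 := by
    rw [eS, hσmk]
    exact PresentedGroup.one_of_mem (Or.inr (by simp [Cfsg.Spor.Fi23.extra, Fi23A.setup, fS]))
  have hsurj : Function.Surjective σ := by
    rw [← MonoidHom.range_eq_top, eq_top_iff, ← PresentedGroup.closure_range_of, Subgroup.closure_le]
    rintro _ ⟨a, rfl⟩
    exact ⟨_, hσof a⟩
  haveI hN : (Subgroup.zpowers eS).Normal := ⟨fun n hn q => by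
    obtain ⟨i, rfl⟩ := Subgroup.mem_zpowers_iff.1 hn
    rw [← ((show Commute eS q from eS_central q).zpow_left i).eq, mul_inv_cancel_right]
    exact hn⟩
  have hker : σ.ker ≤ Subgroup.zpowers eS := by
    let τ : Setup.G FS →* E ⧸ Subgroup.zpowers eS :=
      PresentedGroup.toGroup (f := fun a => QuotientGroup.mk' _ (PresentedGroup.of a)) (by
        intro r hr
        have he : ∀ r, FreeGroup.lift (fun a => QuotientGroup.mk' (Subgroup.zpowers eS) (PresentedGroup.of a)) r =
            QuotientGroup.mk' _ (PresentedGroup.mk erels r) := fun r =>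
          (mk_lift (QuotientGroup.mk' (Subgroup.zpowers eS)) r).symm
        rw [he]
        rcases hr with hr | hr
        · rw [PresentedGroup.one_of_mem (rels := erels) (Or.inl hr), map_one]
        · change r ∈ [fS, fE] at hr
          simp only [List.mem_cons, List.not_mem_nil, or_false] at hr
          rcases hr with rfl | rfl
          · exact (QuotientGroup.eq_one_iff _).2 (Subgroup.mem_zpowers _)
          · rw [PresentedGroup.one_of_mem (rels := erels) (Or.inr (Or.inl rfl)), map_one])
    have hτ : τ.comp σ = QuotientGroup.mk' (Subgroup.zpowers eS) := PresentedGroup.ext fun a => by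
      rw [MonoidHom.comp_apply, hσof]
      exact PresentedGroup.toGroup.of _
    intro q hq
    have := DFunLike.congr_fun hτ q
    rw [MonoidHom.comp_apply, MonoidHom.mem_ker.1 hq, map_one] at this
    exact (QuotientGroup.eq_one_iff q).1 this.symm
  have hcen : σ.ker ≤ Subgroup.center E := fun q hq => by
    obtain ⟨i, rfl⟩ := Subgroup.mem_zpowers_iff.1 (hker hq)
    exact Subgroup.mem_center_iff.2 fun w => ((show Commute eS w from eS_central w).zpow_left i).eq.symm
  have hcomm : σ.ker ≤ commutator E := by
    refine hker.trans (Subgroup.zpowers_le.2 ?_)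
    rw [← Abelianization.ker_of, MonoidHom.mem_ker]
    let α : Gen → Abelianization E := fun a => Abelianization.of (PresentedGroup.of a)
    have hrel : ∀ a b, (α a * α b) ^ Cfsg.Spor.coxLabel Cfsg.Spor.Fi23.edges a b = 1 := fun a b => by
      have := congrArg Abelianization.of (PresentedGroup.one_of_mem (rels := erels)
        (x := (FreeGroup.of a * FreeGroup.of b) ^ Cfsg.Spor.coxLabel Cfsg.Spor.Fi23.edges a b)
        (Or.inl ⟨a, Setup.node FS a, b, Setup.node FS b, rfl⟩))
      rwa [map_pow, map_mul, map_one, map_pow, map_mul] at this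
    have hsq : ∀ a, α a * α a = 1 := fun a => by
      have := hrel a a
      rwa [coxLabel_self, pow_one] at this
    have hedge : ∀ {a b}, Cfsg.Spor.coxLabel Cfsg.Spor.Fi23.edges a b = 3 → α b = α a := fun {a b} h => by
      have h3 := hrel a b
      rw [h, pow_succ, pow_two] at h3
      have pp : α a * α b * (α a * α b) = 1 := by rw [mul_mul_mul_comm, hsq, hsq, one_mul]
      rw [pp, one_mul] at h3
      rw [← mul_right_inj (α a), h3, hsq]
    have hb := hedge (a := Gen.a) (b := Gen.b) (by decide)
    have hc := (hedge (a := Gen.b) (b := Gen.c) (by decide)).trans hb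
    have hd := (hedge (a := Gen.c) (b := Gen.d) (by decide)).trans hc
    have he := (hedge (a := Gen.d) (b := Gen.e) (by decide)).trans hd
    have hf := (hedge (a := Gen.e) (b := Gen.f) (by decide)).trans he
    have hh := (hedge (a := Gen.d) (b := Gen.h) (by decide)).trans hd
    have hi := (hedge (a := Gen.h) (b := Gen.i) (by decide)).trans hh
    have e : Abelianization.of eS = (α .d * α .c * α .b * α .d * α .e * α .f * α .d * α .h * α .i) ^ 10 := by
      simp only [eS, fS, map_pow, map_mul]
      rfl
    rw [e, hb, hc, hd, he, hf, hh, hi]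
    simp only [hsq, one_mul]
    rw [show (10 : ℕ) = 2 * 5 from rfl, pow_mul, pow_two, hsq, one_pow]
  have hbot := FischerPresented.Mult23.ker_eq_bot hcen hsurj hcomm
  have : eS ∈ σ.ker := MonoidHom.mem_ker.2 hσS
  rwa [hbot, Subgroup.mem_bot] at this

theorem label_fin : ∀ a b : Fin 10,
    (a = b ∧ Cfsg.Spor.coxLabel Cfsg.Spor.Fi23.edges (Fi23A.gi a) (Fi23A.gi b) = 1) ∨
    (((a.val, b.val) ∈ edgesN ∨ (b.val, a.val) ∈ edgesN) ∧
      Cfsg.Spor.coxLabel Cfsg.Spor.Fi23.edges (Fi23A.gi a) (Fi23A.gi b) = 3) ∨
    ((a.val, b.val) ∉ edgesN ∧ (b.val, a.val) ∉ edgesN ∧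
      Cfsg.Spor.coxLabel Cfsg.Spor.Fi23.edges (Fi23A.gi a) (Fi23A.gi b) = 2) := by
  decide +kernel

theorem wprod_times_l (hg : Gens g) : ∀ w : List ℕ, (w.all fun x => Nat.blt x 10) = true →
    wprod (fun x => g x * g 10) w = wprod g w * g 10 ^ w.length
  | [], _ => by simp [wprod_nil]
  | x :: w, h => by
    rw [List.all_cons, Bool.and_eq_true, Nat.blt_eq] at h
    have hc : Commute (g 10) (wprod g w) := Commute.list_prod_right _ _ fun y hy => by
      obtain ⟨u, hu, rfl⟩ := List.mem_map.1 hy
      have hu' : u < 10 := Nat.blt_eq.mp (List.all_eq_true.1 h.2 u hu)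
      refine hg.comm 10 (by omega) u (by omega) ?_ ?_ <;>
        (revert hu'; simp [edgesN] <;> omega)
    rw [wprod_cons, wprod_times_l hg w h.2, wprod_cons, List.length_cons, pow_succ']
    calc g x * g 10 * (wprod g w * g 10 ^ w.length) = g x * (g 10 * wprod g w) * g 10 ^ w.length := by group
      _ = _ := by rw [hc.eq]; group

end Spider

open Spider in
/-- **The spider relation holds in Fi24.** -/
theorem spider {G : Type*} [Group G] {g : ℕ → G} (hg : Gens g) : wprod g spiderW = 1 := by
  let f : Cfsg.Spor.Fi23.Gen → G := fun a => g (Fi23A.ix a) * g 10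
  have hlc : ∀ x < 10, g 10 * g x = g x * g 10 := fun x hx => by
    refine hg.comm 10 (by omega) x (by omega) ?_ ?_ <;> (revert hx; simp [edgesN] <;> omega)
  have hix : ∀ a, Fi23A.ix a < 10 := fun a => by cases a <;> decide
  have hf2 : ∀ a, f a * f a = 1 := fun a => by
    show g _ * g 10 * (g _ * g 10) = 1
    rw [(show Commute (g 10) (g (Fi23A.ix a)) from hlc _ (hix a)).mul_mul_mul_comm, hg.sq, hg.sq, one_mul]
  have hl10 : g 10 ^ 2 = 1 := by rw [pow_two]; exact hg.sq 10
  have hword : ∀ w : List ℕ, (w.all fun x => Nat.blt x 10) = true →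
      wprod (fun x => f (Fi23A.gi x)) w = wprod g w * g 10 ^ w.length := fun w hw => by
    rw [← wprod_times_l hg w hw]
    unfold wprod
    refine congrArg List.prod (List.map_congr_left fun x hx => ?_)
    have hxl : x < 10 := Nat.blt_eq.mp (List.all_eq_true.1 hw x hx)
    show g (Fi23A.ix (Fi23A.gi x)) * g 10 = g x * g 10
    rw [show Fi23A.ix (Fi23A.gi x) = x by interval_cases x <;> rfl]
  have hlw : FreeGroup.lift f fS = wprod g spiderW ∧ FreeGroup.lift f fE = 1 := by
    have hS : FreeGroup.lift f fS = wprod (fun x => f (Fi23A.gi x)) spiderW := by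
      simp [fS, spiderW, wprod_rep, wprod_cons, wprod_nil, Fi23A.gi, map_mul, map_pow, mul_assoc]
    have hE : FreeGroup.lift f fE = wprod (fun x => f (Fi23A.gi x)) eW := by
      simp [fE, eW, wprod_rep, wprod_cons, wprod_nil, Fi23A.gi, map_mul, map_pow, mul_assoc]
    rw [hS, hE, hword _ (by decide), hword _ (by decide), show spiderW.length = 2 * 45 by rfl,
      show eW.length = 1 + 2 * 31 by rfl, pow_mul, hl10, one_pow, mul_one, pow_add, pow_one, pow_mul, hl10,
      one_pow, mul_one, ← hg.l_eq]
    exact ⟨rfl, hg.sq 10⟩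
  have hrels : ∀ r ∈ erels, FreeGroup.lift f r = 1 := by
    intro r hr
    rcases hr with ⟨a, -, b, -, rfl⟩ | rfl | ⟨a, rfl⟩
    · rw [map_pow, map_mul, FreeGroup.lift_apply_of, FreeGroup.lift_apply_of]
      have e : f a * f b = g (Fi23A.ix a) * g (Fi23A.ix b) := by
        show g _ * g 10 * (g _ * g 10) = _
        rw [(show Commute (g 10) (g (Fi23A.ix b)) from hlc _ (hix b)).mul_mul_mul_comm, hg.sq, mul_one]
      have h := label_fin ⟨_, hix a⟩ ⟨_, hix b⟩
      simp only [Fi23A.setup.gi_ix a, show Fi23A.gi (Fi23A.ix a) = a from Fi23A.setup.gi_ix a,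
        show Fi23A.gi (Fi23A.ix b) = b from Fi23A.setup.gi_ix b] at h
      rw [e]
      rcases h with ⟨hab, hl⟩ | ⟨hedge, hl⟩ | ⟨h1, h2, hl⟩ <;> rw [hl]
      · rw [pow_one, show Fi23A.ix a = Fi23A.ix b from congrArg Fin.val hab, hg.sq]
      · rcases hedge with h | h
        · exact pow_three_of_braid (hg.sq _) (hg.sq _) (hg.braid _ h)
        · exact pow_three_of_braid (hg.sq _) (hg.sq _) (hg.braid _ h).symm
      · rw [(show Commute _ _ from hg.comm _ (by have := hix a; omega) _ (by have := hix b; omega) h1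
          h2).mul_pow, pow_two, pow_two, hg.sq, hg.sq, one_mul]
    · exact hlw.2
    · rw [map_mul, map_mul, map_mul, map_inv, map_inv, hlw.1, FreeGroup.lift_apply_of]
      show wprod g spiderW * (g _ * g 10) * (wprod g spiderW)⁻¹ * (g _ * g 10)⁻¹ = 1
      have hl : Commute (wprod g spiderW) (g 10) := Commute.list_prod_left _ _ fun y hy => by
        obtain ⟨u, hu, rfl⟩ := List.mem_map.1 hy
        have hall : (spiderW.all fun u => Nat.blt u 10) = true := by decide
        exact (hlc u (Nat.blt_eq.mp (List.all_eq_true.1 hall u hu))).symm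
      have hc : Commute (wprod g spiderW) (g (Fi23A.ix a) * g 10) :=
        (show Commute (wprod g spiderW) (g (Fi23A.ix a)) from Spider.central hg (hix a)).mul_right hl
      rw [hc.eq]
      group
  have h := congrArg (PresentedGroup.toGroup hrels) eS_one
  rw [map_one] at h
  rw [← hlw.1, ← h, eS]
  rw [mk_lift]
  simp only [PresentedGroup.toGroup.of]

end Cfsg.Agent.Fi24Pres
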