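import Cfsg.Agent.Lib.Fi24Pres.Basic
import Cfsg.Agent.Lib.Fi24Pres.Spider
import Cfsg.Agent.Lib.FischerPresented.Fi23

/-!
The subgroup on a, ..., j, l as an image of Fi23 × 2, and equality of right cosets.
-/

set_option autoImplicit false
set_option maxRecDepth 100000

namespace Cfsg.Agent.Fi24Pres

open Cfsg.Agent.CosetCert
open Cfsg.Agent.CosetData

noncomputable section

/-- The presented group. -/
abbrev G24 : Type := Cfsg.Spor.Fi24

/-- The subgroup generated by a, ..., j and l. -/
def HH : Subgroup G24 := Subgroup.closure (gen '' {x | x < 11})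

theorem gen_mem {x : ℕ} (hx : x < 11) : gen x ∈ HH := Subgroup.subset_closure ⟨x, hx, rfl⟩

theorem wprod_mem {w : List ℕ} (hw : ∀ x ∈ w, x < 11) : wprod gen w ∈ HH := by
  refine Subgroup.list_prod_mem _ fun g hg => ?_
  obtain ⟨x, hx, rfl⟩ := List.mem_map.1 hg
  exact gen_mem (hw x hx)

theorem gen_comm (x y : ℕ) (hx : x < 12) (hy : y < 12) (h1 : (x, y) ∉ edgesN) (h2 : (y, x) ∉ edgesN) :
    Commute (gen x) (gen y) := gens.comm x hx y hy h1 h2

theorem l_comm : ∀ x < 11, Commute (gen 10) (gen x) := by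
  have h : ∀ x : Fin 11, (10, x.val) ∉ edgesN ∧ (x.val, 10) ∉ edgesN := by decide +kernel
  exact fun x hx => gen_comm 10 x (by norm_num) (by omega) (h ⟨x, hx⟩).1 (h ⟨x, hx⟩).2

theorem k_comm : ∀ x, 1 ≤ x → x < 10 → Commute (gen 11) (gen x) := by
  have h : ∀ x : Fin 10, 1 ≤ x.val → (11, x.val) ∉ edgesN ∧ (x.val, 11) ∉ edgesN := by decide +kernel
  exact fun x h1 hx => gen_comm 11 x (by norm_num) (by omega) (h ⟨x, hx⟩ h1).1 (h ⟨x, hx⟩ h1).2

/-- The twisted generators. -/
def tgen (x : ℕ) : G24 := if x < 10 then gen x * gen 10 else 1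

theorem tgen_sq (x : ℕ) : tgen x * tgen x = 1 := by
  unfold tgen
  split_ifs with h
  · rw [(l_comm x (by omega)).mul_mul_mul_comm, gens.sq, gens.sq, one_mul]
  · exact one_mul _

theorem wprod_tgen {w : List ℕ} (hw : ∀ x ∈ w, x < 10) :
    wprod tgen w = wprod gen w * gen 10 ^ w.length := by
  induction w with
  | nil => simp [wprod_nil]
  | cons x w ih =>
    have hx := hw x List.mem_cons_self
    have hc : Commute (gen 10) (wprod gen w) := by
      refine Commute.list_prod_right _ _ fun g hg => ?_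
      obtain ⟨y, hy, rfl⟩ := List.mem_map.1 hg
      exact l_comm y (by have := hw y (List.mem_cons_of_mem _ hy); omega)
    rw [wprod_cons, wprod_cons, ih fun y hy => hw y (List.mem_cons_of_mem _ hy), tgen, if_pos hx,
      List.length_cons, pow_succ']
    rw [mul_assoc (gen x) (gen 10), ← mul_assoc (gen 10) (wprod gen w), hc.eq]
    simp only [mul_assoc]

theorem base23_cases : ∀ w ∈ Fi23A.base, (∃ i : Fin 10, ∃ j : Fin 10, i.val ≠ j.val ∧ w = pairW i.val j.val) ∨
    w = eW ∨ w = spiderW := by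
  decide +kernel

theorem base23_len : ∀ w ∈ Fi23A.base, (∀ x ∈ w, x < 10) ∧ (w.length % 2 = 0 ∨ w = eW) := by
  decide +kernel

theorem pairW_one {i j : ℕ} (hi : i < 12) (hj : j < 12) : wprod gen (pairW i j) = 1 := by
  have inv : ∀ x, gen x * gen x = 1 := gens.sq
  have br : ∀ p ∈ edgesN, ((gen p.1 * gen p.2) ^ 3 = 1 ∧ (gen p.2 * gen p.1) ^ 3 = 1) := by
    intro p hp
    have hb := gens.braid p hp
    have e : ∀ a b : G24, a * a = 1 → b * b = 1 → a * b * a = b * a * b → (a * b) ^ 3 = 1 := by
      intro a b ha hb hab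
      calc (a * b) ^ 3 = (a * b * a) * (b * a * b) := by simp [pow_succ, mul_assoc]
        _ = (a * b * a) * (a * b * a) := by rw [hab]
        _ = a * b * (a * a) * (b * a) := by simp [mul_assoc]
        _ = 1 := by rw [ha, mul_one, mul_assoc, ← mul_assoc b, hb, one_mul, ha]
    exact ⟨e _ _ (inv _) (inv _) hb, e _ _ (inv _) (inv _) hb.symm⟩
  unfold pairW
  split_ifs with h
  · rw [wprod_rep, wprod_cons, wprod_cons, wprod_nil, mul_one]
    rcases h with h | h
    exacts [(br _ h).1, (br _ h).2]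
  · rw [not_or] at h
    rw [wprod_rep, wprod_cons, wprod_cons, wprod_nil, mul_one, pow_two,
      (gen_comm i j hi hj h.1 h.2).symm.mul_mul_mul_comm, inv, inv, one_mul]

theorem base23_one : ∀ w ∈ Fi23A.base, wprod tgen w = 1 := by
  intro w hw
  obtain ⟨hlt, hlen⟩ := base23_len w hw
  have hl : ∀ n, gen 10 ^ (2 * n) = 1 := fun n => by rw [pow_mul, pow_two, gens.sq, one_pow]
  rw [wprod_tgen hlt]
  rcases base23_cases w hw with ⟨i, j, -, rfl⟩ | rfl | rfl
  · rcases hlen with h | h
    · rw [pairW_one (by omega) (by omega), one_mul]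
      obtain ⟨n, hn⟩ := Nat.dvd_of_mod_eq_zero h
      rw [hn, hl]
    · exact absurd h ((show ∀ i j : Fin 10, pairW i.val j.val ≠ eW by decide +kernel) i j)
  · rw [← gens.l_eq, show eW.length = 2 * 31 + 1 from rfl, pow_succ, hl, one_mul, gens.sq]
  · rw [spider gens, show spiderW.length = 2 * 45 from rfl, hl, one_mul]

theorem exists_psi : ∃ ψ : Setup.G Fi23A.setup →* G24, ∀ x < 10, ψ (Setup.gen Fi23A.setup x) = tgen x :=
  Setup.exists_hom Fi23A.setup tgen tgen_sq base23_one

/-- Fi23 into the group, twisted by l. -/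
def psi : Setup.G Fi23A.setup →* G24 := exists_psi.choose

theorem psi_gen {x : ℕ} (hx : x < 10) : psi (Setup.gen Fi23A.setup x) = gen x * gen 10 := by
  rw [psi, exists_psi.choose_spec x hx, tgen, if_pos hx]

/-- The powers of l. -/
def lhom : Multiplicative (ZMod 2) →* G24 where
  toFun m := if m = 1 then 1 else gen 10
  map_one' := if_pos rfl
  map_mul' m n := by
    have h : ∀ m : Multiplicative (ZMod 2), m = 1 ∨ m = Multiplicative.ofAdd 1 := by decide
    have h2 : Multiplicative.ofAdd (1 : ZMod 2) * Multiplicative.ofAdd 1 = 1 := by decide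
    rcases h m with rfl | rfl <;> rcases h n with rfl | rfl <;> simp [h2, gens.sq]

theorem psi_comm (u : Setup.G Fi23A.setup) : Commute (gen 10) (psi u) := by
  have hu : u ∈ Subgroup.closure (Setup.gen Fi23A.setup '' {x | x < 10}) :=
    (Setup.closure_gen Fi23A.setup).ge (Subgroup.mem_top u)
  induction hu using Subgroup.closure_induction with
  | mem g hg =>
    obtain ⟨x, hx, rfl⟩ := hg
    rw [psi_gen hx]
    exact (l_comm x (by have : x < 10 := hx; omega)).mul_right (Commute.refl _)
  | one => simp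
  | mul a b _ _ ha hb => rw [map_mul]; exact ha.mul_right hb
  | inv a _ ha => rw [map_inv]; exact ha.inv_right

/-- Fi23 × 2. -/
abbrev W2 : Type := Setup.G Fi23A.setup × Multiplicative (ZMod 2)

/-- Fi23 × 2 onto the subgroup. -/
def theta : W2 →* G24 := psi.noncommCoprod lhom fun u m => by
  show Commute (psi u) (if m = 1 then 1 else gen 10)
  split_ifs
  exacts [Commute.one_right _, (psi_comm u).symm]

/-- The generators of Fi23 × 2. -/
def gW (x : ℕ) : W2 :=
  if x < 10 then (Setup.gen Fi23A.setup x, Multiplicative.ofAdd 1) else (1, Multiplicative.ofAdd 1)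

theorem lhom_ne : lhom (Multiplicative.ofAdd 1) = gen 10 :=
  show (if Multiplicative.ofAdd (1 : ZMod 2) = 1 then (1 : G24) else gen 10) = gen 10 from if_neg (by decide)

theorem theta_gW {x : ℕ} (hx : x < 11) : theta (gW x) = gen x := by
  unfold gW
  split_ifs with h
  · rw [theta, MonoidHom.noncommCoprod_apply, psi_gen h, lhom_ne, mul_assoc, gens.sq, mul_one]
  · obtain rfl : x = 10 := by omega
    rw [theta, MonoidHom.noncommCoprod_apply, map_one, one_mul, lhom_ne]

theorem theta_word {w : List ℕ} (hw : ∀ x ∈ w, x < 11) : theta (wprod gW w) = wprod gen w := by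
  rw [map_wprod]
  exact wprod_congr fun x hx => theta_gW (hw x hx)

theorem gW_sq (x : ℕ) : gW x * gW x = 1 := by
  unfold gW
  split_ifs
  · exact Prod.ext (Setup.gen_invol _ x) (show Multiplicative.ofAdd (1 : ZMod 2) * Multiplicative.ofAdd 1 = 1 by decide)
  · exact Prod.ext (one_mul _) (show Multiplicative.ofAdd (1 : ZMod 2) * Multiplicative.ofAdd 1 = 1 by decide)

theorem closure_gW : Subgroup.closure (gW '' {x | x < 11}) = ⊤ := by
  set C := Subgroup.closure (gW '' {x | x < 11})
  have hm : ∀ x < 11, gW x ∈ C := fun x hx => Subgroup.subset_closure ⟨x, hx, rfl⟩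
  have h10 : ((1 : Setup.G Fi23A.setup), Multiplicative.ofAdd (1 : ZMod 2)) ∈ C := hm 10 (by norm_num)
  have hfst : ∀ u : Setup.G Fi23A.setup, (u, 1) ∈ C := by
    intro u
    have hu : u ∈ Subgroup.closure (Setup.gen Fi23A.setup '' {x | x < 10}) :=
      (Setup.closure_gen Fi23A.setup).ge (Subgroup.mem_top u)
    induction hu using Subgroup.closure_induction with
    | mem g hg =>
      obtain ⟨x, hx, rfl⟩ := hg
      have := mul_mem (hm x (by have : x < 10 := hx; omega)) h10
      rwa [gW, if_pos (show x < 10 from hx), Prod.mk_mul_mk, mul_one,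
        show Multiplicative.ofAdd (1 : ZMod 2) * Multiplicative.ofAdd 1 = 1 by decide] at this
    | one => exact one_mem C
    | mul a b _ _ ha hb => simpa using mul_mem ha hb
    | inv a _ ha => simpa using inv_mem ha
  refine eq_top_iff.2 fun w _ => ?_
  obtain ⟨u, m⟩ := w
  rcases (show ∀ m : Multiplicative (ZMod 2), m = 1 ∨ m = Multiplicative.ofAdd 1 by decide) m with rfl | rfl
  · exact hfst u
  · simpa using mul_mem (hfst u) h10

theorem theta_mem (u : W2) : theta u ∈ HH := by
  have hu : u ∈ Subgroup.closure (gW '' {x | x < 11}) := closure_gW.ge (Subgroup.mem_top u)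
  induction hu using Subgroup.closure_induction with
  | mem g hg => obtain ⟨x, hx, rfl⟩ := hg; rw [theta_gW hx]; exact gen_mem hx
  | one => simp
  | mul a b _ _ ha hb => rw [map_mul]; exact mul_mem ha hb
  | inv a _ ha => rw [map_inv]; exact inv_mem ha

/-- Words giving the same right coset of the subgroup. -/
def Eqv (a b : List ℕ) : Prop := wprod gen a * (wprod gen b)⁻¹ ∈ HH

theorem Eqv.refl (a : List ℕ) : Eqv a a := by simp [Eqv]

theorem Eqv.symm {a b : List ℕ} (h : Eqv a b) : Eqv b a := by simpa [Eqv] using inv_mem h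

theorem Eqv.trans {a b c : List ℕ} (h : Eqv a b) (h' : Eqv b c) : Eqv a c := by
  simpa [Eqv, mul_assoc] using mul_mem h h'

theorem Eqv.append {a b : List ℕ} (h : Eqv a b) (w : List ℕ) : Eqv (a ++ w) (b ++ w) := by
  simpa [Eqv, wprod_append, mul_assoc] using h

theorem Eqv.cancel {a b : List ℕ} {w : List ℕ} (h : Eqv (a ++ w) (b ++ w)) : Eqv a b := by
  simpa [Eqv, wprod_append, mul_assoc] using h

theorem eqv_congr {a b : List ℕ} (h : wprod gen a = wprod gen b) : Eqv a b := by simp [Eqv, h]

theorem k_comm_word {κ : List ℕ} (hκ : ∀ x ∈ κ, 1 ≤ x ∧ x < 10) : Commute (gen 11) (wprod gen κ) := by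
  refine Commute.list_prod_right _ _ fun g hg => ?_
  obtain ⟨x, hx, rfl⟩ := List.mem_map.1 hg
  exact k_comm x (hκ x hx).1 (hκ x hx).2

end

end Cfsg.Agent.Fi24Pres
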