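import Cfsg.Agent.Lib.Fi24Pres.Basic
import Cfsg.Agent.Lib.Fi24Pres.ActH
import Cfsg.Agent.Lib.Fi24Pres.Check.KI
import Cfsg.Agent.Lib.Fi24Pres.Check.KC1
import Cfsg.Agent.Lib.Fi24Pres.Check.KC2
import Cfsg.Agent.Lib.Fi24Pres.Check.KC3
import Cfsg.Agent.Lib.Fi24Pres.Check.KC4
import Cfsg.Agent.Lib.Fi24Pres.Check.KC5
import Cfsg.Agent.Lib.Fi24Pres.Check.KC6
import Cfsg.Agent.Lib.Fi24Pres.Check.KC7
import Cfsg.Agent.Lib.Fi24Pres.Check.KC8
import Cfsg.Agent.Lib.Fi24Pres.Check.KC9
import Cfsg.Agent.Lib.Fi24Pres.Check.KBa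
import Cfsg.Agent.Lib.Fi24Pres.Check.KBl
import Cfsg.Agent.Lib.Fi24Pres.Check.KZdef
import Cfsg.Agent.Lib.Fi24Pres.Check.KZpow
import Mathlib.Algebra.Group.Opposite

/-!
The twelve maps are permutations of 306936 points satisfying the relations of Fi24.
-/

set_option autoImplicit false
set_option maxRecDepth 100000

namespace Cfsg.Agent.Fi24Pres

open Cfsg.Agent.CosetCert

noncomputable section

/-- The number of points. -/
abbrev NP : ℕ := 306936

/-- The map k. -/
def kAct (c : ℕ) : ℕ := T20.get dk c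

/-- The map of a generator. -/
def act (x : ℕ) : ℕ → ℕ := if x < 10 then hAct x else if x = 10 then actL else kAct

theorem act_h {x : ℕ} (hx : x < 10) : act x = hAct x := if_pos hx

theorem act_l : act 10 = actL := rfl

theorem act_k : act 11 = kAct := rfl

theorem inv_act (x : ℕ) : Inv (act x) NP := by
  unfold act
  split_ifs with h1 h2
  exacts [invH h1, invL, invk]

theorem comm_k {j : ℕ} (h1 : 1 ≤ j) (hj : j < 10) : ∀ c < NP, kAct (hAct j c) = hAct j (kAct c) := by
  have key : ∀ (f : ℕ → ℕ), Inv f NP →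
      (∀ c < 306936, commAt (fun x => x) (fun c => c) kAct f c = true) →
      ∀ c < NP, kAct (f c) = f (kAct c) :=
    fun f hf hc => comm_of_checks (KeyLift.id _) invk hf (fun _ _ => Iff.rfl) hc
  interval_cases j
  exacts [key _ (invH (by norm_num)) kcm1, key _ (invH (by norm_num)) kcm2, key _ (invH (by norm_num)) kcm3,
    key _ (invH (by norm_num)) kcm4, key _ (invH (by norm_num)) kcm5, key _ (invH (by norm_num)) kcm6,
    key _ (invH (by norm_num)) kcm7, key _ (invH (by norm_num)) kcm8, key _ (invH (by norm_num)) kcm9]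

theorem braid_ka : ∀ c < NP, kAct (hAct 0 (kAct c)) = hAct 0 (kAct (hAct 0 c)) :=
  braid_of_checks (f := kAct) (g := hAct 0) (KeyLift.id _) invk (invH (by norm_num)) (fun _ _ => Iff.rfl) kbr0

theorem braid_kl : ∀ c < NP, kAct (actL (kAct c)) = actL (kAct (actL c)) :=
  braid_of_checks (f := kAct) (g := actL) (KeyLift.id _) invk invL (fun _ _ => Iff.rfl) kbrl

/-- The maps of a word. -/
def mapsW (w : List ℕ) : List (ℕ → ℕ) := w.map act

theorem z_act : ∀ c < NP, comp (mapsW zW) c = c := by
  set fs := mapsW [3, 2, 1, 0, 11, 10, 3, 4, 5, 6, 9, 3, 7, 8] with hfs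
  have hI : ∀ f ∈ fs, Inv f NP := fun f hf => by
    obtain ⟨x, -, rfl⟩ := List.mem_map.1 hf
    exact inv_act x
  have hq : ∀ c < NP, qz.get c = comp fs c := fun c hc => Nat.eq_of_beq_eq_true (qz_def c hc)
  have hlt : ∀ c < NP, qz.get c < NP := fun c hc => by rw [hq c hc]; exact comp_lt hI c hc
  have hit : ∀ i, ∀ c < NP, (fun c => qz.get c)^[i] c = (comp fs)^[i] c ∧ (comp fs)^[i] c < NP := by
    intro i
    induction i with
    | zero => exact fun c hc => ⟨rfl, hc⟩
    | succ i ih =>
      intro c hc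
      obtain ⟨e1, e2⟩ := ih c hc
      rw [Function.iterate_succ_apply', Function.iterate_succ_apply', e1]
      exact ⟨hq _ e2, comp_lt hI _ e2⟩
  have h := pow_of_checks (f := fun c => qz.get c) (σ := fun c => c) (KeyLift.id _) hlt
    (fun x hx y hy e => comp_inj hI x hx y hy (by rw [← hq x hx, ← hq y hy]; exact e))
    (fun _ h => h) (fun _ _ => rfl) (fun _ _ => Iff.rfl) qz_pow
  intro c hc
  rw [show mapsW zW = List.flatten (List.replicate 17 fs) from rfl, comp_rep, ← (hit 17 c hc).1]
  exact h c hc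

/-- The permutation of a generator. -/
def perm (x : ℕ) : Equiv.Perm (Fin NP) where
  toFun c := ⟨act x c, (inv_act x).lt c c.2⟩
  invFun c := ⟨act x c, (inv_act x).lt c c.2⟩
  left_inv c := Fin.ext ((inv_act x).inv c c.2)
  right_inv c := Fin.ext ((inv_act x).inv c c.2)

theorem perm_val (x : ℕ) (c : Fin NP) : (perm x c : ℕ) = act x c := rfl

/-- The generators, composed with the first one first. -/
def pgen (x : ℕ) : (Equiv.Perm (Fin NP))ᵐᵒᵖ := MulOpposite.op (perm x)

theorem wprod_pgen (w : List ℕ) (c : Fin NP) :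
    (((wprod pgen w).unop c : Fin NP) : ℕ) = comp (mapsW w) c := by
  induction w generalizing c with
  | nil => rfl
  | cons x w ih =>
    rw [wprod_cons, MulOpposite.unop_mul, Equiv.Perm.mul_apply, ih]
    rfl

theorem op_ext {a b : (Equiv.Perm (Fin NP))ᵐᵒᵖ} (h : ∀ c : Fin NP, (a.unop c : ℕ) = (b.unop c : ℕ)) : a = b :=
  MulOpposite.unop_injective (Equiv.ext fun c => Fin.ext (h c))

theorem pgen_braid_lt {i j : ℕ} (hij : i < j) (hj : j < 10) (h : adj i j = true) :
    pgen i * pgen j * pgen i = pgen j * pgen i * pgen j := op_ext fun c => by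
  show act i (act j (act i c)) = act j (act i (act j c))
  rw [act_h hj, act_h (by omega)]
  exact braidH hij hj h c c.2

theorem pgen_comm_lt {i j : ℕ} (hij : i < j) (hj : j < 10) (h : adj i j = false) :
    pgen i * pgen j = pgen j * pgen i := op_ext fun c => by
  show act j (act i c) = act i (act j c)
  rw [act_h hj, act_h (by omega)]
  exact (commH hij hj h c c.2).symm

theorem adj_spec : ∀ i j : Fin 10, adj i.val j.val =
    decide ((i.val, j.val) ∈ edgesN ∨ (j.val, i.val) ∈ edgesN) := by
  decide +kernel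

theorem pgen_comm_gl {j : ℕ} (hj : j < 10) : pgen 10 * pgen j = pgen j * pgen 10 := op_ext fun c => by
  show act j (act 10 c) = act 10 (act j c)
  rw [act_h hj, act_l]
  exact commL hj c c.2

theorem pgen_comm_gk {j : ℕ} (h1 : 1 ≤ j) (hj : j < 10) : pgen 11 * pgen j = pgen j * pgen 11 :=
  op_ext fun c => by
  show act j (act 11 c) = act 11 (act j c)
  rw [act_h hj, act_k]
  exact (comm_k h1 hj c c.2).symm

theorem gens_perm : Gens pgen := by
  refine ⟨fun x => op_ext fun c => (inv_act x).inv c c.2, fun p hp => ?_, fun x hx y hy h1 h2 => ?_, ?_, ?_⟩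
  · have hk := @pgen_braid_lt
    obtain ⟨i, j⟩ := p
    simp only [edgesN, List.mem_cons, Prod.mk.injEq, List.not_mem_nil, or_false] at hp
    rcases hp with ⟨rfl, rfl⟩ | ⟨rfl, rfl⟩ | ⟨rfl, rfl⟩ | ⟨rfl, rfl⟩ | ⟨rfl, rfl⟩ | ⟨rfl, rfl⟩ | ⟨rfl, rfl⟩ |
      ⟨rfl, rfl⟩ | ⟨rfl, rfl⟩ | ⟨rfl, rfl⟩ | ⟨rfl, rfl⟩
    · exact op_ext fun c => (braid_kl c c.2).symm
    · exact op_ext fun c => braid_ka c c.2
    all_goals exact hk (by norm_num) (by norm_num) (by decide)
  · rcases lt_trichotomy x y with hlt | rfl | hlt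
    · rcases (show y < 10 ∨ y = 10 ∨ y = 11 by omega) with hy' | rfl | rfl
      · refine pgen_comm_lt hlt hy' ?_
        rw [adj_spec ⟨x, by omega⟩ ⟨y, hy'⟩]; simp [h1, h2]
      · exact (pgen_comm_gl hlt).symm
      · rcases (show x = 0 ∨ (1 ≤ x ∧ x < 10) ∨ x = 10 by omega) with rfl | ⟨a, b⟩ | rfl
        · exact absurd (by decide) h2
        · exact (pgen_comm_gk a b).symm
        · exact absurd (by decide) h1
    · rfl
    · rcases (show x < 10 ∨ x = 10 ∨ x = 11 by omega) with hx' | rfl | rfl
      · refine (pgen_comm_lt hlt hx' ?_).symm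
        rw [adj_spec ⟨y, by omega⟩ ⟨x, hx'⟩]; simp [h1, h2]
      · exact pgen_comm_gl hlt
      · rcases (show y = 0 ∨ (1 ≤ y ∧ y < 10) ∨ y = 10 by omega) with rfl | ⟨a, b⟩ | rfl
        · exact absurd (by decide) h1
        · exact pgen_comm_gk a b
        · exact absurd (by decide) h2
  · refine op_ext fun c => ?_
    rw [wprod_pgen, show mapsW eW = eW.map hAct from rfl]
    exact (eWH c c.2).symm
  · refine op_ext fun c => ?_
    rw [wprod_pgen, z_act c c.2]
    rfl

/-- The action of the presented group. -/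
theorem exists_action : ∃ η : Cfsg.Spor.Fi24 →* (Equiv.Perm (Fin NP))ᵐᵒᵖ, ∀ x < 12, η (gen x) = pgen x := by
  have hrel : ∀ r ∈ Cfsg.Spor.coxRelators Cfsg.Spor.Fi24.edges ∪ {r | r ∈ Cfsg.Spor.Fi24.extra},
      FreeGroup.lift (fun a => pgen (ix a)) r = 1 := by
    have sq := gens_perm.sq
    rintro r (⟨a, -, b, -, rfl⟩ | hr)
    · rw [map_pow, map_mul, FreeGroup.lift_apply_of, FreeGroup.lift_apply_of]
      by_cases hab : a = b
      · subst hab; rw [coxLabel_self, pow_one]; exact sq _
      · by_cases he : (ix a, ix b) ∈ edgesN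
        · have hl := edge_label _ he
          rw [gi_ix, gi_ix] at hl
          rw [hl, pow_succ, pow_two]
          have hb := gens_perm.braid _ he
          calc pgen (ix a) * pgen (ix b) * (pgen (ix a) * pgen (ix b)) * (pgen (ix a) * pgen (ix b))
              = pgen (ix a) * pgen (ix b) * pgen (ix a) * (pgen (ix b) * pgen (ix a) * pgen (ix b)) := by
                simp only [mul_assoc]
            _ = 1 := by rw [← hb]; simp only [mul_assoc]; rw [← mul_assoc (pgen (ix a)) (pgen (ix a)), sq, one_mul,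
                  ← mul_assoc (pgen (ix b)) (pgen (ix b)), sq, one_mul, sq]
        · by_cases he' : (ix b, ix a) ∈ edgesN
          · have hl := edge_label _ he'
            rw [gi_ix, gi_ix] at hl
            have hs : Cfsg.Spor.coxLabel Cfsg.Spor.Fi24.edges a b = 3 := by
              revert hl; cases a <;> cases b <;> decide
            rw [hs, pow_succ, pow_two]
            have hb := gens_perm.braid _ he'
            calc pgen (ix a) * pgen (ix b) * (pgen (ix a) * pgen (ix b)) * (pgen (ix a) * pgen (ix b))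
                = pgen (ix a) * pgen (ix b) * pgen (ix a) * (pgen (ix b) * pgen (ix a) * pgen (ix b)) := by
                  simp only [mul_assoc]
              _ = 1 := by rw [hb]; simp only [mul_assoc]; rw [← mul_assoc (pgen (ix a)) (pgen (ix a)), sq, one_mul,
                  ← mul_assoc (pgen (ix b)) (pgen (ix b)), sq, one_mul, sq]
          · rcases comm_label (show ix a < 12 by cases a <;> decide) (show ix b < 12 by cases b <;> decide) he he'
              with h | h
            · exact absurd (by rw [← gi_ix a, h, gi_ix]) hab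
            · rw [gi_ix, gi_ix] at h
              rw [h, pow_two, mul_assoc, ← mul_assoc (pgen (ix b)),
                gens_perm.comm _ (by cases b <;> decide) _ (by cases a <;> decide) he' he,
                mul_assoc (pgen (ix a)) (pgen (ix b)), sq, mul_one, sq]
    · simp only [Set.mem_ofPred_eq, Cfsg.Spor.Fi24.extra, List.mem_cons, List.not_mem_nil, or_false] at hr
      rcases hr with rfl | rfl
      · rw [map_mul, map_inv, map_pow]
        simp only [map_mul, FreeGroup.lift_apply_of, ix]
        rw [mul_inv_eq_one, gens_perm.l_eq, eW, wprod_rep]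
        simp only [wprod_cons, wprod_nil, mul_one, mul_assoc]
      · have hz := gens_perm.z_one
        rw [zW, wprod_rep] at hz
        rw [map_pow]
        simp only [map_mul, FreeGroup.lift_apply_of, ix]
        simp only [wprod_cons, wprod_nil, mul_one] at hz
        simpa only [mul_assoc] using hz
  refine ⟨PresentedGroup.toGroup hrel, fun x hx => ?_⟩
  rw [gen, PresentedGroup.toGroup.of]
  interval_cases x <;> rfl

end

end Cfsg.Agent.Fi24Pres
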