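import Cfsg.Agent.Lib.Fi24Pres.Hom
import Cfsg.Agent.Lib.Fi24Pres.Perms

/-! The action of the presented group on the points. -/

set_option autoImplicit false
set_option maxRecDepth 100000

namespace Cfsg.Agent.Fi24Pres

open Cfsg.Agent.CosetCert

noncomputable section

/-- Points. -/
abbrev Pt : Type := Fin NP

/-- The action of the presented group. -/
def eta : G24 →* (Equiv.Perm (Fin NP))ᵐᵒᵖ := exists_action.choose

/-- The image of a point under an element, on the right. -/
def pA (x : G24) (c : Pt) : Pt := (eta x).unop c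

theorem pA_mul (x y : G24) (c : Pt) : pA (x * y) c = pA y (pA x c) := by
  simp [pA, map_mul]

theorem pA_one (c : Pt) : pA 1 c = c := by simp [pA]

theorem pA_inv {x : G24} {c d : Pt} (h : pA x c = d) : pA x⁻¹ d = c := by
  rw [← h, ← pA_mul, mul_inv_cancel, pA_one]

theorem pA_word {w : List ℕ} (hw : ∀ x ∈ w, x < 12) (c : Pt) :
    (pA (wprod gen w) c : ℕ) = comp (mapsW w) c := by
  rw [pA, map_wprod, show wprod (fun x => eta (gen x)) w = wprod pgen w from
    wprod_congr fun x hx => exists_action.choose_spec x (hw x hx), wprod_pgen]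

theorem HH_fix {x : G24} (hx : x ∈ HH) : pA x ⟨0, by norm_num⟩ = ⟨0, by norm_num⟩ := by
  induction hx using Subgroup.closure_induction with
  | mem g hg =>
    obtain ⟨y, hy, rfl⟩ := hg
    have h := pA_word (w := [y]) (by intro z hz; rw [List.mem_singleton] at hz; have : y < 11 := hy; omega)
      ⟨0, by norm_num⟩
    rw [wprod_cons, wprod_nil, mul_one] at h
    refine Fin.ext (h.trans ?_)
    show act y 0 = 0
    rcases (show y < 10 ∨ y = 10 by have : y < 11 := hy; omega) with h' | rfl
    · rw [act_h h']; rfl
    · rw [act_l, actL_low (by norm_num)]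
  | one => exact pA_one _
  | mul a b _ _ ha hb => rw [pA_mul, ha, hb]
  | inv a _ ha => exact pA_inv ha

end

end Cfsg.Agent.Fi24Pres
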