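import Mathlib.GroupTheory.Coset.Card
import Mathlib.GroupTheory.IndexNormal
import Mathlib.GroupTheory.Perm.Cycle.Type
import Mathlib.GroupTheory.Subgroup.Simple
import Mathlib.Algebra.Group.Subgroup.Pointwise
import Mathlib.Tactic

/-!
Simplicity of the index two subgroup of a group having three double cosets of a maximal subgroup.

If the maximal subgroup `H` meets the index two subgroup `L` in a simple group and every double coset is
stabilised by an element outside `L`, then the double cosets do not split in `L`. A regular normal subgroup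
would have at most three element orders, which is impossible when three primes divide the index.
-/

set_option autoImplicit false

namespace Cfsg.Agent.Fi24Pres

open Subgroup

variable {G : Type*} [Group G]

theorem same_parity {L : Subgroup G} (hL : L.index = 2) {a g b : G} (hg : g ∈ L) (h : a * g * b ∈ L) :
    a ∈ L ↔ b ∈ L := by
  have h1 := (mul_mem_iff_of_index_two hL (a := a * g) (b := b)).1 h
  have h2 := mul_mem_iff_of_index_two hL (a := a) (b := g)
  tauto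

/-- Two elements of `L` in the same double coset of `H` are in the same double coset of `H ⊓ L`. -/
theorem refine_coset {H L : Subgroup G} (hL : L.index = 2) {x : G}
    (hu : ∃ u ∈ H, u ∉ L ∧ x⁻¹ * u * x ∈ H) {g₁ g₂ a₁ b₁ a₂ b₂ : G} (hg₁ : g₁ ∈ L) (hg₂ : g₂ ∈ L)
    (ha₁ : a₁ ∈ H) (hb₁ : b₁ ∈ H) (ha₂ : a₂ ∈ H) (hb₂ : b₂ ∈ H) (e₁ : g₁ = a₁ * x * b₁)
    (e₂ : g₂ = a₂ * x * b₂) : ∃ m₁ ∈ H ⊓ L, ∃ m₂ ∈ H ⊓ L, g₂ = m₁ * g₁ * m₂ := by
  obtain ⟨u, huH, huL, hux⟩ := hu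
  set h₁ := a₂ * a₁⁻¹ with hh₁
  set h₂ := b₁⁻¹ * b₂ with hh₂
  have hh₁H : h₁ ∈ H := H.mul_mem ha₂ (H.inv_mem ha₁)
  have hh₂H : h₂ ∈ H := H.mul_mem (H.inv_mem hb₁) hb₂
  have e : g₂ = h₁ * g₁ * h₂ := by rw [e₁, e₂, hh₁, hh₂]; group
  have hpar : h₁ ∈ L ↔ h₂ ∈ L := same_parity hL hg₁ (e ▸ hg₂)
  by_cases hh : h₁ ∈ L
  · exact ⟨h₁, ⟨hh₁H, hh⟩, h₂, ⟨hh₂H, hpar.1 hh⟩, e⟩
  haveI := normal_of_index_eq_two hL
  have hnorm : ∀ v w : G, v ∈ L ↔ w * v * w⁻¹ ∈ L := fun v w =>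
    ⟨fun h => Normal.conj_mem inferInstance v h w, fun h => by
      have := Normal.conj_mem inferInstance _ h w⁻¹
      simpa [mul_assoc] using this⟩
  set v := a₁ * u * a₁⁻¹ with hv
  have hvH : v ∈ H := H.mul_mem (H.mul_mem ha₁ huH) (H.inv_mem ha₁)
  have hvL : v ∉ L := fun h => huL ((hnorm u a₁).2 h)
  have hwH : g₁⁻¹ * v⁻¹ * g₁ ∈ H := by
    rw [show g₁⁻¹ * v⁻¹ * g₁ = b₁⁻¹ * (x⁻¹ * u * x)⁻¹ * b₁ by rw [e₁, hv]; group]
    exact H.mul_mem (H.mul_mem (H.inv_mem hb₁) (H.inv_mem hux)) hb₁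
  have hwL : g₁⁻¹ * v⁻¹ * g₁ ∉ L := fun h => hvL (L.inv_mem_iff.1 ((hnorm v⁻¹ g₁⁻¹).2 (by rwa [inv_inv])))
  refine ⟨h₁ * v, ⟨H.mul_mem hh₁H hvH, ?_⟩, g₁⁻¹ * v⁻¹ * g₁ * h₂, ⟨H.mul_mem hwH hh₂H, ?_⟩, ?_⟩
  · exact (mul_mem_iff_of_index_two hL).2 (by tauto)
  · exact (mul_mem_iff_of_index_two hL).2 (by tauto)
  · rw [e]; group

/-- **Simplicity from three double cosets.** -/
theorem isSimple_of_three_cosets [Finite G] {H L : Subgroup G} (hL : L.index = 2)
    (hH : ∀ Y : Subgroup G, H < Y → Y = ⊤) (hsimple : IsSimpleGroup ↥(H.subgroupOf L)) {h₀ : G} (hh₀ : h₀ ∈ H)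
    (hh₀L : h₀ ∉ L) {x y : G} (hx : ∃ u ∈ H, u ∉ L ∧ x⁻¹ * u * x ∈ H)
    (hy : ∃ u ∈ H, u ∉ L ∧ y⁻¹ * u * y ∈ H)
    (hcover : ∀ g : G, g ∈ H ∨ (∃ a ∈ H, ∃ b ∈ H, g = a * x * b) ∨ ∃ a ∈ H, ∃ b ∈ H, g = a * y * b)
    {n p q r : ℕ} (hn : H.index = n) (hp : p.Prime) (hq : q.Prime) (hr : r.Prime) (hpq : p < q) (hqr : q < r)
    (hpn : p ∣ n) (hqn : q ∣ n) (hrn : r ∣ n) : IsSimpleGroup L := by
  classical
  haveI := hsimple
  set M : Subgroup L := H.subgroupOf L with hM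
  -- the three classes
  obtain ⟨cls, h1, hcls⟩ : ∃ cls : L → Fin 3, (∀ g, cls g = 0 ↔ g ∈ M) ∧
      ∀ g g', cls g = cls g' → ∃ a ∈ M, ∃ b ∈ M, g' = a * g * b := by
    refine ⟨fun g => if (g : G) ∈ H then 0 else if ∃ a ∈ H, ∃ b ∈ H, (g : G) = a * x * b then 1 else 2,
      fun g => ?_, fun g g' h => ?_⟩
    · rw [hM, mem_subgroupOf]
      dsimp only
      split_ifs with h1 h2 <;> simp [h1]
    · dsimp only at h
      by_cases hg : (g : G) ∈ H
      · have hg' : (g' : G) ∈ H := by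
          by_contra hc
          rw [if_pos hg, if_neg hc] at h
          split_ifs at h <;> exact absurd h (by decide)
        exact ⟨g' * g⁻¹, by rw [hM, mem_subgroupOf]; exact H.mul_mem hg' (H.inv_mem hg), 1, M.one_mem,
          by group⟩
      have hg' : (g' : G) ∉ H := fun hc => by
        rw [if_neg hg, if_pos hc] at h
        split_ifs at h <;> exact absurd h (by decide)
      have key : ∀ z : G, (∃ u ∈ H, u ∉ L ∧ z⁻¹ * u * z ∈ H) → (∃ a ∈ H, ∃ b ∈ H, (g : G) = a * z * b) →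
          (∃ a ∈ H, ∃ b ∈ H, (g' : G) = a * z * b) → ∃ a ∈ M, ∃ b ∈ M, g' = a * g * b := by
        rintro z hz ⟨a, ha, b, hb, e⟩ ⟨a', ha', b', hb', e'⟩
        obtain ⟨m₁, ⟨hm₁, hm₁L⟩, m₂, ⟨hm₂, hm₂L⟩, e''⟩ := refine_coset hL hz g.2 g'.2 ha hb ha' hb' e e'
        exact ⟨⟨m₁, hm₁L⟩, hm₁, ⟨m₂, hm₂L⟩, hm₂, Subtype.ext e''⟩
      rw [if_neg hg, if_neg hg'] at h
      by_cases hgx : ∃ a ∈ H, ∃ b ∈ H, (g : G) = a * x * b
      · refine key x hx hgx ?_
        by_contra hc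
        rw [if_pos hgx, if_neg hc] at h
        exact absurd h (by decide)
      · have hgx' : ¬∃ a ∈ H, ∃ b ∈ H, (g' : G) = a * x * b := fun hc => by
          rw [if_neg hgx, if_pos hc] at h
          exact absurd h (by decide)
        exact key y hy (((hcover g).resolve_left hg).resolve_left hgx)
          (((hcover g').resolve_left hg').resolve_left hgx')
  haveI := normal_of_index_eq_two hL
  have hHL : ∀ g : G, ∃ h ∈ H, g * h ∈ L := fun g => by
    by_cases hg : g ∈ L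
    · exact ⟨1, H.one_mem, by rwa [mul_one]⟩
    · exact ⟨h₀, hh₀, (mul_mem_iff_of_index_two hL).2 (by tauto)⟩
  have hidx : M.index = n := by
    rw [← hn, hM]
    refine Nat.card_congr (Equiv.ofBijective
      (fun c => Quotient.liftOn' c (fun g : L => ((g : G) : G ⧸ H)) fun a b hab => ?_) ⟨?_, ?_⟩)
    · rw [QuotientGroup.leftRel_apply, mem_subgroupOf] at hab
      exact QuotientGroup.eq.2 (by simpa using hab)
    · intro c c' hcc
      induction c using QuotientGroup.induction_on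
      induction c' using QuotientGroup.induction_on
      rename_i a b
      exact QuotientGroup.eq.2 (mem_subgroupOf.2 (by simpa using QuotientGroup.eq.1 hcc))
    · intro c
      induction c using QuotientGroup.induction_on
      rename_i g
      obtain ⟨h, hh, hgh⟩ := hHL g
      refine ⟨QuotientGroup.mk (⟨g * h, hgh⟩ : L), QuotientGroup.eq.2 ?_⟩
      simpa using H.inv_mem hh
  have hn3 : 3 < n := by
    have hn0 : n ≠ 0 := by rw [← hn]; exact index_ne_zero_of_finite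
    have := Nat.le_of_dvd (Nat.pos_of_ne_zero hn0) hrn
    have := hp.two_le
    omega
  have hmax : ∀ X : Subgroup L, M < X → X = ⊤ := by
    intro X hX
    set Y : Subgroup G := X.map L.subtype with hY
    have hnormY : H ≤ normalizer (Y : Set G) := by
      intro h hh
      rw [mem_normalizer_iff]
      have key : ∀ h ∈ H, ∀ v ∈ Y, h * v * h⁻¹ ∈ Y := by
        rintro h hh _ ⟨g, hg, rfl⟩
        have hgL : h * (g : G) * h⁻¹ ∈ L := Normal.conj_mem inferInstance _ g.2 h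
        refine ⟨⟨_, hgL⟩, ?_, rfl⟩
        by_cases hgH : (g : G) ∈ H
        · exact hX.le (mem_subgroupOf.2 (H.mul_mem (H.mul_mem hh hgH) (H.inv_mem hh)))
        · obtain ⟨z, hz, a, ha, b, hb, e⟩ : ∃ z, (∃ u ∈ H, u ∉ L ∧ z⁻¹ * u * z ∈ H) ∧
              ∃ a ∈ H, ∃ b ∈ H, (g : G) = a * z * b := by
            rcases (hcover g).resolve_left hgH with h' | h'
            · exact ⟨x, hx, h'⟩
            · exact ⟨y, hy, h'⟩
          obtain ⟨m₁, ⟨hm₁, hm₁L⟩, m₂, ⟨hm₂, hm₂L⟩, e'⟩ := refine_coset hL hz g.2 hgL ha hb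
            (H.mul_mem hh ha) (H.mul_mem hb (H.inv_mem hh)) e (by rw [e]; group)
          rw [show (⟨h * (g : G) * h⁻¹, hgL⟩ : L) = ⟨m₁, hm₁L⟩ * g * ⟨m₂, hm₂L⟩ from Subtype.ext e']
          exact X.mul_mem (X.mul_mem (hX.le hm₁) hg) (hX.le hm₂)
      refine fun v => ⟨key h hh v, fun hv => ?_⟩
      have := key h⁻¹ (H.inv_mem hh) _ hv
      simpa [mul_assoc] using this
    obtain ⟨g, hgX, hgM⟩ := SetLike.exists_of_lt hX
    have hlt : H < Y ⊔ H := lt_of_le_of_ne le_sup_right fun e =>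
      hgM (mem_subgroupOf.2 (e.symm ▸ mem_sup_left ⟨g, hgX, rfl⟩))
    have htop := hH _ hlt
    refine eq_top_iff.2 fun v _ => ?_
    have hv : (v : G) ∈ ((Y ⊔ H : Subgroup G) : Set G) := by rw [htop]; exact mem_top _
    rw [coe_mul_of_right_le_normalizer_left _ _ hnormY] at hv
    obtain ⟨a, ⟨w, hw, rfl⟩, b, hb, e⟩ := Set.mem_mul.1 hv
    change (w : G) * b = (v : G) at e
    have hbw : b = (((w⁻¹ * v : L)) : G) := by simp [← e]
    have hm : w⁻¹ * v ∈ M := mem_subgroupOf.2 (hbw ▸ hb)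
    have := X.mul_mem hw (hX.le hm)
    rwa [mul_inv_cancel_left] at this
  have hMnn : ¬ M.Normal := fun hMn => by
    have : Nat.card (L ⧸ M) ≤ Nat.card (Fin 3) := Nat.card_le_card_of_injective (fun c => cls c.out) fun c c' h => by
      obtain ⟨a, ha, b, hb, e⟩ := hcls _ _ h
      have h2 : c.out⁻¹ * c'.out ∈ M := by
        rw [e, show c.out⁻¹ * (a * c.out * b) = c.out⁻¹ * a * c.out⁻¹⁻¹ * b by group]
        exact M.mul_mem (hMn.conj_mem a ha _) hb
      rw [← QuotientGroup.out_eq' c, ← QuotientGroup.out_eq' c']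
      exact QuotientGroup.eq.2 h2
    rw [Nat.card_fin, ← index_eq_card, hidx] at this
    omega
  haveI : Nontrivial L := by
    obtain ⟨w, hw⟩ := exists_ne (1 : M)
    exact ⟨(w : L), 1, fun h => hw (Subtype.ext h)⟩
  refine ⟨fun N hN => (eq_or_ne N ⊥).imp_right fun hne => ?_⟩
  haveI := hN
  rcases (hN.subgroupOf M).eq_bot_or_eq_top with h | h
  · exfalso
    have htriv : ∀ v ∈ N, v ∈ M → v = 1 := fun v hv hvM => by
      have : (⟨v, hvM⟩ : M) ∈ N.subgroupOf M := hv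
      rw [h, mem_bot] at this
      exact congrArg Subtype.val this
    have htop : N ⊔ M = ⊤ := hmax _ (lt_of_le_of_ne le_sup_right fun e => hne ((eq_bot_iff_forall _).2
      fun v hv => htriv v hv (e.symm ▸ mem_sup_left hv)))
    have hcard : Nat.card N = n := by
      rw [← hidx]
      refine Nat.card_congr (Equiv.ofBijective (fun v : N => ((v : L) : L ⧸ M)) ⟨fun v w hvw => ?_, fun c => ?_⟩)
      · have hm := QuotientGroup.eq.1 hvw
        exact Subtype.ext (inv_mul_eq_one.1 (htriv _ (N.mul_mem (N.inv_mem v.2) w.2) hm))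
      · induction c using QuotientGroup.induction_on
        rename_i g
        have hg : g ∈ ((N ⊔ M : Subgroup L) : Set L) := by rw [htop]; exact mem_top _
        rw [normal_mul] at hg
        obtain ⟨v, hv, m, hm, rfl⟩ := Set.mem_mul.1 hg
        exact ⟨⟨v, hv⟩, QuotientGroup.eq.2 (by rwa [inv_mul_cancel_left])⟩
    have hord : ∀ v w : N, cls v = cls w → orderOf v = orderOf w := by
      intro v w hvw
      obtain ⟨a, ha, b, hb, e⟩ := hcls _ _ hvw
      have hab : a * b = 1 := by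
        refine htriv _ ?_ (M.mul_mem ha hb)
        rw [show a * b = (a * (v : L) * a⁻¹)⁻¹ * (w : L) by rw [e]; group]
        exact N.mul_mem (N.inv_mem (hN.conj_mem _ v.2 a)) w.2
      have e' : (w : L) = MulAut.conj a (v : L) := by
        rw [e, MulAut.conj_apply, eq_inv_of_mul_eq_one_right hab]
      rw [← orderOf_coe v, ← orderOf_coe w, e']
      exact (orderOf_injective (MulAut.conj a).toMonoidHom (MulAut.conj a).injective _).symm
    have hnz : ∀ {k : ℕ}, k.Prime → k ∣ n → ∃ v : N, orderOf v = k ∧ cls v ≠ 0 := fun {k} hk hkn => by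
      haveI := Fact.mk hk
      obtain ⟨v, hv⟩ := exists_prime_orderOf_dvd_card' (G := N) k (hcard ▸ hkn)
      refine ⟨v, hv, fun h0 => ?_⟩
      have h1' := htriv v v.2 ((h1 _).1 h0)
      rw [← orderOf_coe v, h1', orderOf_one] at hv
      exact hk.one_lt.ne hv
    obtain ⟨u, hu, hu0⟩ := hnz hp hpn
    obtain ⟨v, hv, hv0⟩ := hnz hq hqn
    obtain ⟨w, hw, hw0⟩ := hnz hr hrn
    have pigeon : ∀ i j k : Fin 3, i ≠ 0 → j ≠ 0 → k ≠ 0 → i = j ∨ i = k ∨ j = k := by decide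
    rcases pigeon _ _ _ hu0 hv0 hw0 with e | e | e <;> have := hord _ _ e <;> omega
  · have hle : M ≤ N := fun v hv => (h.ge (mem_top (⟨v, hv⟩ : M)) : _)
    rcases eq_or_lt_of_le hle with e | e
    · exact absurd (e ▸ hN) hMnn
    · exact hmax N e

end Cfsg.Agent.Fi24Pres
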