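import Cfsg.Agent.Lib.Fi24Pres.Basic
import Cfsg.Agent.Lib.FischerClassTy.StepM23
import Cfsg.Agent.Lib.Fi23Type.Type
import Cfsg.Agent.S5361

/-!
A group on twelve generators with the relations of Fi24, given the index of the subgroup on the generators other
than k and the three double cosets of it: the conjugates of l are a class of 3-transpositions of type M(24) and
the centraliser of l is the product of l and Fi23.
-/

set_option autoImplicit false
set_option linter.unusedSectionVars false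
set_option maxRecDepth 100000

namespace Cfsg.Agent.Fi24Pres.Transp

open Cfsg.Agent.CosetCert
open Cfsg.Agent.CosetData
open Cfsg.Agent.FischerPresented
open Cfsg.Agent.Fischer.Factor

local notation "FT" => Setup.G Fi23A.setup

noncomputable section

variable {G : Type} [Group G]

/-- The subgroup on the generators other than k. -/
def HH (g : ℕ → G) : Subgroup G := Subgroup.closure (g '' {x | x < 11})

/-- The facts about the enumeration used here. -/
structure Core (g : ℕ → G) : Prop where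
  gens : Gens g
  closure_gen : Subgroup.closure (g '' {x | x < 12}) = ⊤
  spider : wprod g spiderW = 1
  index : (HH g).index = 306936
  cover : ∀ x : G, x ∈ HH g ∨ (∃ h₁ ∈ HH g, ∃ h₂ ∈ HH g, x = h₁ * g 11 * h₂) ∨
    ∃ h₁ ∈ HH g, ∃ h₂ ∈ HH g, x = h₁ * (g 11 * g 10 * g 0 * g 11) * h₂

/-- Two braiding involutions are conjugate. -/
theorem isConj_of_braid {a b : G} (ha : a * a = 1) (hb : b * b = 1) (h : a * b * a = b * a * b) :
    IsConj a b := by
  refine isConj_iff.2 ⟨a * b, ?_⟩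
  rw [mul_inv_rev, inv_eq_of_mul_eq_one_right ha, inv_eq_of_mul_eq_one_right hb]
  calc a * b * a * (b * a) = b * a * b * (b * a) := by rw [h]
    _ = b * a * (b * b) * a := by group
    _ = b := by rw [hb, mul_one, mul_assoc, ha, mul_one]

/-- The relators of Fi23 in the numbering used here. -/
theorem label23 : ∀ x y : Fin 10,
    Cfsg.Spor.coxLabel Cfsg.Spor.Fi23.edges (Fi23A.gi x.val) (Fi23A.gi y.val) =
      if x = y then 1 else if (x.val, y.val) ∈ edgesN ∨ (y.val, x.val) ∈ edgesN then 3 else 2 := by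
  decide +kernel

theorem gens_wprod_mul {g : ℕ → G} (hg : Gens g) : ∀ w : List ℕ, (∀ x ∈ w, x < 10) →
    wprod (fun x => g x * g 10) w = wprod g w * g 10 ^ w.length ∧ Commute (g 10) (wprod g w) := by
  intro w
  induction w with
  | nil => intro _; simp [wprod_nil]
  | cons x w ih =>
    intro hw
    obtain ⟨h1, h2⟩ := ih fun y hy => hw y (List.mem_cons_of_mem _ hy)
    have hx : x < 10 := hw x List.mem_cons_self
    have hc : Commute (g 10) (g x) := hg.comm 10 (by norm_num) x (by omega)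
      (fun h => by
        have : ∀ y : Fin 10, (10, y.val) ∉ edgesN := by decide
        exact this ⟨x, hx⟩ h)
      (fun h => by
        have : ∀ y : Fin 10, (y.val, 10) ∉ edgesN := by decide
        exact this ⟨x, hx⟩ h)
    refine ⟨?_, by rw [wprod_cons]; exact hc.mul_right h2⟩
    rw [wprod_cons, wprod_cons, h1, List.length_cons, pow_succ']
    calc g x * g 10 * (wprod g w * g 10 ^ w.length) = g x * (g 10 * wprod g w) * g 10 ^ w.length := by group
      _ = g x * (wprod g w * g 10) * g 10 ^ w.length := by rw [h2.eq]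
      _ = _ := by group

namespace Core

variable {g : ℕ → G} (C : Core g)
include C

local notation "lg" => g 10
local notation "kg" => g 11

theorem gen_inv (x : ℕ) : (g x)⁻¹ = g x := inv_eq_of_mul_eq_one_right (C.gens.sq x)

theorem comm_fin : ∀ x y : Fin 12, (x.val, y.val) ∉ edgesN → (y.val, x.val) ∉ edgesN →
    Commute (g x.val) (g y.val) := fun x y h1 h2 => C.gens.comm x x.2 y y.2 h1 h2

theorem l_comm {x : ℕ} (hx : x < 10) : Commute lg (g x) := by
  have : ∀ y : Fin 10, (10, y.val) ∉ edgesN ∧ (y.val, 10) ∉ edgesN := by decide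
  exact C.gens.comm 10 (by norm_num) x (by omega) (this ⟨x, hx⟩).1 (this ⟨x, hx⟩).2

theorem l_comm_H {h : G} (hh : h ∈ HH g) : Commute lg h := by
  have hle : HH g ≤ Subgroup.centralizer ({lg} : Set G) := by
    rw [HH, Subgroup.closure_le]
    rintro _ ⟨x, hx, rfl⟩
    refine Subgroup.mem_centralizer_singleton_iff.2 ?_
    rcases Nat.lt_or_ge x 10 with h10 | h10
    · exact (C.l_comm h10).symm
    · obtain rfl : x = 10 := by simp only [Set.mem_ofPred_eq] at hx; omega
      rfl
  exact (Subgroup.mem_centralizer_singleton_iff.1 (hle hh)).symm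

theorem gen_mem {x : ℕ} (hx : x < 11) : g x ∈ HH g := Subgroup.subset_closure ⟨x, hx, rfl⟩

theorem H_ne_top : HH g ≠ ⊤ := fun h => by
  have := C.index
  rw [h, Subgroup.index_top] at this
  omega

theorem k_not_mem : kg ∉ HH g := fun hk => C.H_ne_top (top_le_iff.1 (C.closure_gen.ge.trans (by
  rw [Subgroup.closure_le]
  rintro _ ⟨x, hx, rfl⟩
  rcases Nat.lt_or_ge x 11 with h | h
  · exact C.gen_mem h
  · obtain rfl : x = 11 := by simp only [Set.mem_ofPred_eq] at hx; omega
    exact hk)))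

theorem k_ne_l : kg ≠ lg := fun h => C.k_not_mem (h ▸ C.gen_mem (by norm_num))

theorem isConj_gen : ∀ x < 12, IsConj lg (g x) := by
  have step : ∀ p ∈ edgesN, IsConj (g p.1) (g p.2) := fun p hp =>
    isConj_of_braid (C.gens.sq _) (C.gens.sq _) (C.gens.braid p hp)
  have s10 := step (10, 11) (by decide)
  have s0 := s10.trans (step (11, 0) (by decide))
  have s1 := s0.trans (step (0, 1) (by decide))
  have s2 := s1.trans (step (1, 2) (by decide))
  have s3 := s2.trans (step (2, 3) (by decide))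
  have s4 := s3.trans (step (3, 4) (by decide))
  have s5 := s4.trans (step (4, 5) (by decide))
  have s6 := s5.trans (step (5, 6) (by decide))
  have s7 := s3.trans (step (3, 7) (by decide))
  intro x hx
  interval_cases x
  exacts [s0, s1, s2, s3, s4, s5, s6, s7, s7.trans (step (7, 8) (by decide)),
    s6.trans (step (6, 9) (by decide)), IsConj.refl _, s10]

theorem conj_k_l : kg * lg * kg = lg * kg * lg := (C.gens.braid (10, 11) (by decide)).symm

theorem conj_klak : kg * lg * g 0 * kg * lg * (kg * lg * g 0 * kg)⁻¹ = g 0 := by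
  have hla : lg * g 0 = g 0 * lg := C.l_comm (by norm_num)
  have hbr : lg * kg * lg = kg * lg * kg := C.gens.braid (10, 11) (by decide)
  have hka : kg * g 0 * kg = g 0 * kg * g 0 := C.gens.braid (11, 0) (by decide)
  rw [mul_inv_rev, mul_inv_rev, mul_inv_rev, C.gen_inv, C.gen_inv, C.gen_inv]
  calc kg * lg * g 0 * kg * lg * (kg * (g 0 * (lg * kg)))
      = kg * (lg * g 0) * kg * lg * kg * (g 0 * lg) * kg := by group
    _ = kg * (g 0 * lg) * kg * lg * kg * (lg * g 0) * kg := by rw [← hla]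
    _ = kg * g 0 * (lg * kg * lg) * (kg * lg) * g 0 * kg := by group
    _ = kg * g 0 * (kg * lg * kg) * (kg * lg) * g 0 * kg := by rw [hbr]
    _ = kg * g 0 * kg * (lg * (kg * kg) * lg) * g 0 * kg := by group
    _ = kg * g 0 * kg * g 0 * kg := by rw [C.gens.sq, mul_one, C.gens.sq, mul_one]
    _ = g 0 * kg * g 0 * g 0 * kg := by rw [hka]
    _ = g 0 * kg * (g 0 * g 0) * kg := by group
    _ = g 0 := by rw [C.gens.sq, mul_one, mul_assoc, C.gens.sq, mul_one]

theorem a_ne_l : g 0 ≠ lg := fun h => by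
  have hk : kg * g 0 * kg = g 0 * kg * g 0 := C.gens.braid (11, 0) (by decide)
  have hb : g 0 * g 1 * g 0 = g 1 * g 0 * g 1 := C.gens.braid (0, 1) (by decide)
  -- then b = l, so k commutes with l
  have h1 : g 1 = lg := by
    have hc : lg * g 1 = g 1 * lg := C.l_comm (by norm_num)
    rw [h] at hb
    calc g 1 = lg * lg * g 1 := by rw [C.gens.sq, one_mul]
      _ = lg * (g 1 * lg) := by rw [mul_assoc, hc]
      _ = g 1 * lg * g 1 := by rw [← mul_assoc]; exact hb
      _ = lg * (g 1 * g 1) := by rw [← hc, mul_assoc]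
      _ = lg := by rw [C.gens.sq, mul_one]
  have hkc : kg * lg = lg * kg := by
    rw [← h1]
    exact C.comm_fin ⟨11, by norm_num⟩ ⟨1, by norm_num⟩ (by decide) (by decide)
  have hbr : lg * kg * lg = kg * lg * kg := C.gens.braid (10, 11) (by decide)
  refine C.k_ne_l ?_
  calc kg = kg * (lg * lg) := by rw [C.gens.sq, mul_one]
    _ = lg * kg * lg := by rw [← mul_assoc, hkc]
    _ = kg * lg * kg := hbr
    _ = lg * (kg * kg) := by rw [hkc, mul_assoc]
    _ = lg := by rw [C.gens.sq, mul_one]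

/-- The image of a generator of Fi23. -/
def tau (_ : Core g) (a : Cfsg.Spor.Fi23.Gen) : G := g (Fi23A.ix a) * g 10

theorem rels23 : ∀ r ∈ Cfsg.Spor.coxRelators Cfsg.Spor.Fi23.edges ∪ {r | r ∈ Cfsg.Spor.Fi23.extra},
    FreeGroup.lift C.tau r = 1 := by
  have hgi : ∀ a, Fi23A.gi (Fi23A.ix a) = a := fun a => by cases a <;> rfl
  have hlt : ∀ a, Fi23A.ix a < 10 := fun a => by cases a <;> decide
  have hll : lg * lg = 1 := C.gens.sq 10
  rintro r (⟨a, -, b, -, rfl⟩ | hr)
  · rw [map_pow, map_mul, FreeGroup.lift_apply_of, FreeGroup.lift_apply_of, tau, tau]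
    have hmul : g (Fi23A.ix a) * lg * (g (Fi23A.ix b) * lg) = g (Fi23A.ix a) * g (Fi23A.ix b) := by
      calc g (Fi23A.ix a) * lg * (g (Fi23A.ix b) * lg) = g (Fi23A.ix a) * (lg * g (Fi23A.ix b)) * lg := by group
        _ = g (Fi23A.ix a) * g (Fi23A.ix b) * (lg * lg) := by rw [(C.l_comm (hlt b)).eq]; group
        _ = _ := by rw [hll, mul_one]
    have hl := label23 ⟨_, hlt a⟩ ⟨_, hlt b⟩
    simp only [hgi, Fin.mk.injEq] at hl
    rw [hl, hmul]
    split_ifs with h1 h2
    · rw [h1, pow_one, C.gens.sq]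
    · rw [pow_succ, pow_two]
      rcases h2 with h2 | h2
      · have := C.gens.braid _ h2
        calc g (Fi23A.ix a) * g (Fi23A.ix b) * (g (Fi23A.ix a) * g (Fi23A.ix b)) * (g (Fi23A.ix a) * g (Fi23A.ix b))
            = (g (Fi23A.ix a) * g (Fi23A.ix b) * g (Fi23A.ix a)) *
              (g (Fi23A.ix b) * g (Fi23A.ix a) * g (Fi23A.ix b)) := by group
          _ = (g (Fi23A.ix a) * g (Fi23A.ix b) * g (Fi23A.ix a))⁻¹⁻¹ *
              (g (Fi23A.ix a) * g (Fi23A.ix b) * g (Fi23A.ix a)) := by rw [← this, inv_inv]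
          _ = _ := by
              rw [inv_inv, ← mul_eq_one_iff_eq_inv'.2]
              simp only [mul_inv_rev, C.gen_inv, mul_assoc]
      · have := C.gens.braid _ h2
        calc g (Fi23A.ix a) * g (Fi23A.ix b) * (g (Fi23A.ix a) * g (Fi23A.ix b)) * (g (Fi23A.ix a) * g (Fi23A.ix b))
            = (g (Fi23A.ix a) * g (Fi23A.ix b) * g (Fi23A.ix a)) *
              (g (Fi23A.ix b) * g (Fi23A.ix a) * g (Fi23A.ix b)) := by group
          _ = _ := by
              rw [this, ← mul_eq_one_iff_eq_inv'.2]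
              simp only [mul_inv_rev, C.gen_inv, mul_assoc]
    · rw [pow_two]
      push Not at h2
      have := C.gens.comm _ (by have := hlt a; omega) _ (by have := hlt b; omega) h2.1 h2.2
      calc g (Fi23A.ix a) * g (Fi23A.ix b) * (g (Fi23A.ix a) * g (Fi23A.ix b))
          = g (Fi23A.ix a) * g (Fi23A.ix b) * (g (Fi23A.ix b) * g (Fi23A.ix a)) := by rw [this]
        _ = g (Fi23A.ix a) * (g (Fi23A.ix b) * g (Fi23A.ix b)) * g (Fi23A.ix a) := by group
        _ = 1 := by rw [C.gens.sq, mul_one, C.gens.sq]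
  · have hinv : ∀ a, C.tau a * C.tau a = 1 := fun a => by
      rw [tau]
      calc g (Fi23A.ix a) * lg * (g (Fi23A.ix a) * lg) = g (Fi23A.ix a) * (lg * g (Fi23A.ix a)) * lg := by group
        _ = (g (Fi23A.ix a) * g (Fi23A.ix a)) * (lg * lg) := by rw [(C.l_comm (hlt a)).eq]; group
        _ = 1 := by rw [C.gens.sq, hll, one_mul]
    have key := Fi23A.setup.spec C.tau hinv
    have hw : ∀ w : List ℕ, (∀ x ∈ w, x < 10) →
        wprod (fun x => C.tau (Fi23A.gi x)) w = wprod g w * lg ^ w.length := fun w hw => by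
      rw [← (gens_wprod_mul C.gens w hw).1]
      have hix : ∀ x < 10, Fi23A.ix (Fi23A.gi x) = x := fun x hx => by interval_cases x <;> rfl
      exact congrArg List.prod (List.map_congr_left fun x hx => by rw [tau, hix x (hw x hx)])
    have hev : ∀ n, lg ^ (2 * n) = 1 := fun n => by rw [pow_mul, pow_two, hll, one_pow]
    have h63 : lg ^ 63 = lg := by rw [show 63 = 2 * 31 + 1 by norm_num, pow_succ, hev, one_mul]
    have e1 : wprod (fun x => C.tau (Fi23A.gi x)) (rep 10 [3, 2, 1, 3, 4, 5, 3, 7, 8]) = 1 := by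
      rw [hw _ (by decide)]
      exact mul_eq_one_iff_eq_inv.2 (by
        rw [show (rep 10 [3, 2, 1, 3, 4, 5, 3, 7, 8]).length = 2 * 45 from by decide, hev, inv_one]
        exact C.spider)
    have e2 : wprod (fun x => C.tau (Fi23A.gi x)) (rep 9 [0, 1, 2, 3, 4, 5, 7]) = 1 := by
      rw [hw _ (by decide), show (rep 9 [0, 1, 2, 3, 4, 5, 7]).length = 63 from by decide, h63]
      have := C.gens.l_eq
      rw [eW] at this
      rw [← this, hll]
    simp only [Set.mem_ofPred_eq] at hr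
    obtain ⟨t, ht, rfl⟩ := List.getElem_of_mem hr
    have ht' : t < Fi23A.setup.extraW.length := key.length_eq ▸ ht
    have h1 := List.Forall₂.get key ht ht'
    simp only [List.get_eq_getElem] at h1
    refine h1.trans ?_
    have hmem : Fi23A.setup.extraW[t] ∈ Fi23A.extraW := List.getElem_mem ht'
    simp only [Fi23A.extraW, List.mem_cons, List.not_mem_nil, or_false] at hmem
    rcases hmem with h | h <;> rw [h]
    exacts [e1, e2]

/-- The homomorphism from Fi23. -/
def psi : FT →* G := PresentedGroup.toGroup C.rels23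

theorem psi_gen {x : ℕ} (hx : x < 10) : C.psi (Setup.gen Fi23A.setup x) = g x * lg := by
  refine (PresentedGroup.toGroup.of C.rels23).trans ?_
  show C.tau (Fi23A.gi x) = _
  interval_cases x <;> rfl

theorem psi_mem (q : FT) : C.psi q ∈ HH g := by
  have hle : (⊤ : Subgroup FT) ≤ (HH g).comap C.psi := by
    rw [← Setup.closure_gen, Subgroup.closure_le]
    rintro _ ⟨x, hx, rfl⟩
    show C.psi (Setup.gen Fi23A.setup x) ∈ HH g
    have hx' : x < 10 := hx
    rw [C.psi_gen hx']
    exact mul_mem (C.gen_mem (by omega)) (C.gen_mem (by norm_num))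
  exact hle (Subgroup.mem_top q)

theorem mem_H_iff {h : G} : h ∈ HH g ↔ ∃ q, h = C.psi q ∨ h = C.psi q * lg := by
  refine ⟨fun hh => ?_, ?_⟩
  swap
  · rintro ⟨q, rfl | rfl⟩
    · exact C.psi_mem q
    · exact mul_mem (C.psi_mem q) (C.gen_mem (by norm_num))
  have hc : ∀ q, Commute lg (C.psi q) := fun q => C.l_comm_H (C.psi_mem q)
  have hll : lg * lg = 1 := C.gens.sq 10
  induction hh using Subgroup.closure_induction with
  | mem y hy =>
    obtain ⟨x, hx, rfl⟩ := hy
    rcases Nat.lt_or_ge x 10 with h10 | h10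
    · exact ⟨Setup.gen Fi23A.setup x, Or.inr (by rw [C.psi_gen h10, mul_assoc, hll, mul_one])⟩
    · obtain rfl : x = 10 := by simp only [Set.mem_ofPred_eq] at hx; omega
      exact ⟨1, Or.inr (by rw [map_one, one_mul])⟩
  | one => exact ⟨1, Or.inl (map_one _).symm⟩
  | mul a b _ _ ha hb =>
    obtain ⟨q, rfl | rfl⟩ := ha <;> obtain ⟨r, rfl | rfl⟩ := hb <;> refine ⟨q * r, ?_⟩ <;> rw [map_mul]
    · exact Or.inl rfl
    · exact Or.inr (mul_assoc _ _ _).symm
    · exact Or.inr (by rw [mul_assoc, (hc r).eq, ← mul_assoc])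
    · refine Or.inl ?_
      calc C.psi q * lg * (C.psi r * lg) = C.psi q * (lg * C.psi r) * lg := by group
        _ = C.psi q * C.psi r * (lg * lg) := by rw [(hc r).eq]; group
        _ = _ := by rw [hll, mul_one]
  | inv a _ ha =>
    obtain ⟨q, rfl | rfl⟩ := ha <;> refine ⟨q⁻¹, ?_⟩ <;> rw [map_inv]
    · exact Or.inl rfl
    · exact Or.inr (by rw [mul_inv_rev, C.gen_inv, ((hc q).inv_right).eq])

theorem psi_inj : Function.Injective C.psi := by
  haveI := Fi23.isSimpleGroup
  rw [← MonoidHom.ker_eq_bot_iff]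
  refine (MonoidHom.normal_ker C.psi).eq_bot_or_eq_top.resolve_right fun h => C.a_ne_l ?_
  have h0 : C.psi (Setup.gen Fi23A.setup 0) = 1 := MonoidHom.mem_ker.1 (h ▸ Subgroup.mem_top _)
  rw [C.psi_gen (by norm_num), mul_eq_one_iff_eq_inv, C.gen_inv] at h0
  exact h0

theorem gen_ne_l {x : ℕ} (hx : x < 10) : g x ≠ lg := fun h => by
  have h1 : C.psi (Setup.gen Fi23A.setup x) = 1 := by rw [C.psi_gen hx, h, C.gens.sq]
  have h2 := C.psi_inj (h1.trans (map_one C.psi).symm)
  have hconj : ∀ p ∈ FischerPresented.Fi23.braid ++ [(6, 9)],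
      (Setup.gen Fi23A.setup p.1 = 1 ↔ Setup.gen Fi23A.setup p.2 = 1) := by
    intro p hp
    have hr := FischerPresented.Fi23.braid_rel hp
    constructor <;> intro he <;> rw [he] at hr
    · rw [one_mul, pow_succ, pow_two, Setup.gen_invol, one_mul] at hr
      exact hr
    · rw [mul_one, pow_succ, pow_two, Setup.gen_invol, one_mul] at hr
      exact hr
  have a1 := hconj (0, 1) (by decide)
  have a2 := hconj (1, 2) (by decide)
  have a3 := hconj (2, 3) (by decide)
  have a4 := hconj (3, 4) (by decide)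
  have a7 := hconj (3, 7) (by decide)
  have a5 := hconj (4, 5) (by decide)
  have a6 := hconj (5, 6) (by decide)
  have a8 := hconj (7, 8) (by decide)
  have a9 := hconj (6, 9) (by decide)
  have h0 : Setup.gen Fi23A.setup 0 = 1 := by
    interval_cases x <;> simp_all
  refine FischerPresented.Fi23.z_ne_one ?_
  rw [FischerPresented.Fi23.z_eq, h0, mul_one, mul_inv_cancel]

theorem l_not_range (q : FT) : C.psi q ≠ lg := fun h => by
  have hq : q ∈ Subgroup.center FT := Subgroup.mem_center_iff.2 fun r => C.psi_inj (by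
    rw [map_mul, map_mul, h]
    exact (C.l_comm_H (C.psi_mem r)).eq.symm)
  rw [Fi23Type.center_GT, Subgroup.mem_bot] at hq
  rw [hq, map_one] at h
  have hk : kg = 1 := by
    have hc := C.conj_k_l
    rw [← h, mul_one, one_mul, C.gens.sq, mul_one] at hc
    exact hc.symm
  exact C.k_not_mem (hk ▸ one_mem _)

theorem l_ne_one : lg ≠ 1 := fun h => C.l_not_range 1 (by rw [map_one, h])

theorem H_cases {h : G} (hh : h ∈ HH g) (hc : ∀ q, Commute h (C.psi q)) : h = 1 ∨ h = lg := by
  obtain ⟨q, hq | hq⟩ := C.mem_H_iff.1 hh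
  all_goals
    have hz : q ∈ Subgroup.center FT := Subgroup.mem_center_iff.2 fun r => C.psi_inj (by
      rw [map_mul, map_mul]
      have h1 := (hc r).eq
      rw [hq] at h1
      first
        | exact h1.symm
        | exact mul_right_cancel (b := lg) (by
            calc C.psi r * C.psi q * lg = C.psi r * (C.psi q * lg) := mul_assoc _ _ _
              _ = C.psi q * lg * C.psi r := h1.symm
              _ = C.psi q * C.psi r * lg := by rw [mul_assoc, (C.l_comm_H (C.psi_mem r)).eq, ← mul_assoc]))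
    rw [Fi23Type.center_GT, Subgroup.mem_bot] at hz
    rw [hz, map_one] at hq
  · exact Or.inl hq
  · exact Or.inr (by rw [hq, one_mul])

theorem l_not_central : lg ∉ Subgroup.center G := fun h => C.k_ne_l (by
  have hc := Subgroup.mem_center_iff.1 h kg
  have hb := C.conj_k_l
  rw [hc, mul_assoc, C.gens.sq, mul_one, mul_assoc, hc, ← mul_assoc, C.gens.sq, one_mul] at hb
  exact hb.symm)

theorem centralizer_l : Subgroup.centralizer ({lg} : Set G) = HH g := by
  refine le_antisymm (fun c hc => ?_) fun h hh => Subgroup.mem_centralizer_singleton_iff.2 (C.l_comm_H hh).eq.symm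
  have hc' : Commute c lg := Subgroup.mem_centralizer_singleton_iff.1 hc
  rcases C.cover c with h | ⟨h₁, hh₁, h₂, hh₂, rfl⟩ | ⟨h₁, hh₁, h₂, hh₂, rfl⟩
  · exact h
  all_goals
    exfalso
    have h3 : ∀ r, h₁ * r * h₂ ∈ Subgroup.centralizer ({lg} : Set G) → Commute r lg := fun r hr => by
      have h := mul_mem (mul_mem (inv_mem (Subgroup.mem_centralizer_singleton_iff.2 (C.l_comm_H hh₁).eq.symm)) hr)
        (inv_mem (Subgroup.mem_centralizer_singleton_iff.2 (C.l_comm_H hh₂).eq.symm))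
      rw [show h₁⁻¹ * (h₁ * r * h₂) * h₂⁻¹ = r by group] at h
      exact Subgroup.mem_centralizer_singleton_iff.1 h
    have hr := h3 _ hc
  · have hb := C.conj_k_l
    rw [hr.eq, mul_assoc, C.gens.sq, mul_one, mul_assoc, hr.eq, ← mul_assoc, C.gens.sq, one_mul] at hb
    exact C.k_ne_l hb.symm
  · exact C.a_ne_l (by rw [← C.conj_klak, hr.eq, mul_inv_cancel_right])

theorem center_bot : Subgroup.center G = ⊥ := by
  refine eq_bot_iff.2 fun c hc => Subgroup.mem_bot.2 ?_
  have hH : c ∈ HH g := C.centralizer_l ▸ Subgroup.mem_centralizer_singleton_iff.2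
    (Subgroup.mem_center_iff.1 hc lg).symm
  rcases C.H_cases hH fun q => (Subgroup.mem_center_iff.1 hc _).symm with h | h
  · exact h
  · exact absurd (h ▸ hc) C.l_not_central

theorem eq_top_of_ne {M : Subgroup G} (hle : HH g ≤ M) (hne : M ≠ HH g) : M = ⊤ := by
  have hk : kg ∈ M := by
    obtain ⟨x, hx, hxH⟩ := SetLike.exists_of_lt (lt_of_le_of_ne hle (Ne.symm hne))
    have h3 : ∀ r h₁ h₂ : G, h₁ ∈ HH g → h₂ ∈ HH g → h₁ * r * h₂ ∈ M → r ∈ M := fun r h₁ h₂ a b c => by
      have h := mul_mem (mul_mem (inv_mem (hle a)) c) (inv_mem (hle b))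
      rwa [show h₁⁻¹ * (h₁ * r * h₂) * h₂⁻¹ = r by group] at h
    rcases C.cover x with h | ⟨h₁, hh₁, h₂, hh₂, rfl⟩ | ⟨h₁, hh₁, h₂, hh₂, rfl⟩
    · exact absurd h hxH
    · exact h3 _ h₁ h₂ hh₁ hh₂ hx
    · have hr := h3 _ h₁ h₂ hh₁ hh₂ hx
      have ha : g 0 ∈ M := hle (C.gen_mem (by norm_num))
      have hb : g 1 ∈ M := hle (C.gen_mem (by norm_num))
      have hkb : kg * g 1 = g 1 * kg := C.comm_fin ⟨11, by norm_num⟩ ⟨1, by norm_num⟩ (by decide) (by decide)
      have hlb : lg * g 1 = g 1 * lg := C.l_comm (by norm_num)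
      have hla : lg * g 0 = g 0 * lg := C.l_comm (by norm_num)
      have hab : g 0 * g 1 * g 0 = g 1 * g 0 * g 1 := C.gens.braid (0, 1) (by decide)
      have hka : kg * g 0 * kg = g 0 * kg * g 0 := C.gens.braid (11, 0) (by decide)
      have h1 : kg * g 0 * kg * g 1 ∈ M := by
        have hm := mul_mem (mul_mem (mul_mem hb hr) hb) hr
        have e : g 1 * (kg * lg * g 0 * kg) * g 1 * (kg * lg * g 0 * kg) = kg * g 0 * kg * g 1 := by
          calc g 1 * (kg * lg * g 0 * kg) * g 1 * (kg * lg * g 0 * kg)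
              = (g 1 * kg) * lg * g 0 * (kg * g 1) * kg * lg * g 0 * kg := by group
            _ = (kg * g 1) * lg * g 0 * (g 1 * kg) * kg * lg * g 0 * kg := by rw [hkb]
            _ = kg * (g 1 * lg) * g 0 * g 1 * (kg * kg) * lg * g 0 * kg := by group
            _ = kg * (lg * g 1) * g 0 * g 1 * lg * g 0 * kg := by rw [C.gens.sq, mul_one, hlb]
            _ = kg * lg * (g 1 * g 0 * g 1) * (lg * g 0) * kg := by group
            _ = kg * lg * (g 0 * g 1 * g 0) * (g 0 * lg) * kg := by rw [hab, hla]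
            _ = kg * lg * g 0 * g 1 * (g 0 * g 0) * lg * kg := by group
            _ = kg * (lg * g 0) * (g 1 * lg) * kg := by rw [C.gens.sq]; group
            _ = kg * (g 0 * lg) * (lg * g 1) * kg := by rw [hla, hlb]
            _ = kg * g 0 * (lg * lg) * (g 1 * kg) := by group
            _ = kg * g 0 * kg * g 1 := by rw [C.gens.sq, mul_one, ← hkb]; group
        rwa [e] at hm
      have h2 := mul_mem h1 hb
      rw [mul_assoc, C.gens.sq, mul_one, hka] at h2
      have h4 := mul_mem (mul_mem ha h2) ha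
      rwa [show g 0 * (g 0 * kg * g 0) * g 0 = (g 0 * g 0) * kg * (g 0 * g 0) by group, C.gens.sq, one_mul,
        mul_one] at h4
  refine top_le_iff.1 (C.closure_gen.ge.trans ?_)
  rw [Subgroup.closure_le]
  rintro _ ⟨x, hx, rfl⟩
  rcases Nat.lt_or_ge x 11 with h | h
  · exact hle (C.gen_mem h)
  · obtain rfl : x = 11 := by simp only [Set.mem_ofPred_eq] at hx; omega
    exact hk

theorem card_H : Nat.card ↥(HH g) = 2 * 4089470473293004800 := by
  haveI := Fi23.order_facts.1
  let f : FT × Bool → ↥(HH g) := fun p => ⟨C.psi p.1 * (if p.2 then lg else 1), C.mem_H_iff.2 ⟨p.1, by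
    cases p.2 <;> simp⟩⟩
  have hf : Function.Bijective f := by
    constructor
    · rintro ⟨q, s⟩ ⟨r, t⟩ hst
      have h : C.psi q * (if s then lg else 1) = C.psi r * (if t then lg else 1) := congrArg Subtype.val hst
      cases s <;> cases t <;> simp at h
      · exact Prod.ext (C.psi_inj h) rfl
      · refine absurd ?_ (C.l_not_range (r⁻¹ * q))
        rw [map_mul, map_inv, h, inv_mul_cancel_left]
      · refine absurd ?_ (C.l_not_range (q⁻¹ * r))
        rw [map_mul, map_inv, ← h, inv_mul_cancel_left]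
      · exact Prod.ext (C.psi_inj h) rfl
    · rintro ⟨h, hh⟩
      obtain ⟨q, rfl | rfl⟩ := C.mem_H_iff.1 hh
      · exact ⟨(q, false), Subtype.ext (mul_one _)⟩
      · exact ⟨(q, true), Subtype.ext rfl⟩
  rw [← Nat.card_congr (Equiv.ofBijective f hf), Nat.card_prod, Fi23.order_facts.2.1, Nat.card_eq_fintype_card,
    Fintype.card_bool, mul_comm]

theorem card_G : Nat.card G = 2 * 1255205709190661721292800 := by
  rw [← (HH g).card_mul_index, C.card_H, C.index]

theorem finite : Finite G := Nat.finite_of_card_ne_zero (by rw [C.card_G]; norm_num)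

/-- The transpositions. -/
def D (_ : Core g) : Set G := conjugatesOf (g 10)

theorem mem_D {d : G} : d ∈ C.D ↔ ∃ x, x * lg * x⁻¹ = d := by
  show IsConj lg d ↔ _
  rw [isConj_iff]

theorem gen_mem_D {x : ℕ} (hx : x < 12) : g x ∈ C.D := C.isConj_gen x hx

theorem l_mem_D : lg ∈ C.D := C.gen_mem_D (by norm_num)

theorem card_D : Nat.card C.D = 306936 := by
  rw [← C.index, Subgroup.index_eq_card]
  symm
  let F : G ⧸ HH g → C.D := fun q => ⟨q.out * lg * q.out⁻¹, C.mem_D.2 ⟨_, rfl⟩⟩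
  refine Nat.card_eq_of_bijective F ⟨fun a b h => ?_, fun d => ?_⟩
  · rw [← QuotientGroup.out_eq' a, ← QuotientGroup.out_eq' b, QuotientGroup.eq]
    refine (SetLike.ext_iff.1 C.centralizer_l _).1 (Subgroup.mem_centralizer_singleton_iff.2 ?_)
    have h' : a.out * lg * a.out⁻¹ = b.out * lg * b.out⁻¹ := congrArg Subtype.val h
    calc a.out⁻¹ * b.out * lg = a.out⁻¹ * (b.out * lg * b.out⁻¹) * b.out := by group
      _ = lg * (a.out⁻¹ * b.out) := by rw [← h']; group
  · obtain ⟨x, hx⟩ := C.mem_D.1 d.2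
    refine ⟨(x : G ⧸ HH g), Subtype.ext ?_⟩
    show ((x : G ⧸ HH g)).out * lg * ((x : G ⧸ HH g)).out⁻¹ = (d : G)
    obtain ⟨k, hk⟩ := QuotientGroup.mk_out_eq_mul (HH g) x
    rw [hk, ← hx, mul_inv_rev]
    calc x * (k : G) * lg * ((k : G)⁻¹ * x⁻¹) = x * ((k : G) * lg * (k : G)⁻¹) * x⁻¹ := by group
      _ = x * lg * x⁻¹ := by rw [(C.l_comm_H k.2).eq.symm, mul_inv_cancel_right]

/-- A member is l, or a conjugate under H of k l k or of a. -/
theorem D_cases {y : G} (hy : y ∈ C.D) : y = lg ∨ (∃ h ∈ HH g, y = h * (kg * lg * kg) * h⁻¹) ∨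
    ∃ h ∈ HH g, y = h * g 0 * h⁻¹ := by
  obtain ⟨x, rfl⟩ := C.mem_D.1 hy
  have hfix : ∀ h ∈ HH g, h * lg * h⁻¹ = lg := fun h hh => by rw [(C.l_comm_H hh).eq.symm, mul_inv_cancel_right]
  rcases C.cover x with h | ⟨h₁, hh₁, h₂, hh₂, rfl⟩ | ⟨h₁, hh₁, h₂, hh₂, rfl⟩
  · exact Or.inl (hfix x h)
  · refine Or.inr (Or.inl ⟨h₁, hh₁, ?_⟩)
    calc h₁ * kg * h₂ * lg * (h₁ * kg * h₂)⁻¹ = h₁ * (kg * (h₂ * lg * h₂⁻¹) * kg⁻¹) * h₁⁻¹ := by group
      _ = _ := by rw [hfix h₂ hh₂, C.gen_inv]
  · refine Or.inr (Or.inr ⟨h₁, hh₁, ?_⟩)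
    calc h₁ * (kg * lg * g 0 * kg) * h₂ * lg * (h₁ * (kg * lg * g 0 * kg) * h₂)⁻¹
        = h₁ * ((kg * lg * g 0 * kg) * (h₂ * lg * h₂⁻¹) * (kg * lg * g 0 * kg)⁻¹) * h₁⁻¹ := by group
      _ = _ := by rw [hfix h₂ hh₂, C.conj_klak]

theorem pair_rel {y : G} (hy : y ∈ C.D) : (lg * y) ^ 2 = 1 ∨ (lg * y) ^ 3 = 1 := by
  have hll : lg * lg = 1 := C.gens.sq 10
  rcases C.D_cases hy with rfl | ⟨h, hh, rfl⟩ | ⟨h, hh, rfl⟩
  · exact Or.inl (by rw [hll, one_pow])
  all_goals
    have e : ∀ u : G, lg * (h * u * h⁻¹) = h * (lg * u) * h⁻¹ := fun u => by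
      rw [← mul_assoc, ← mul_assoc, (C.l_comm_H hh).eq]; simp only [mul_assoc]
    rw [e, conj_pow, conj_pow]
  · refine Or.inr ?_
    rw [C.conj_k_l, ← mul_assoc, ← mul_assoc, hll, one_mul, pow_succ, pow_two]
    have : kg * lg * (kg * lg) * (kg * lg) = 1 := by
      calc kg * lg * (kg * lg) * (kg * lg) = (kg * lg * kg) * (lg * kg * lg) := by group
        _ = (lg * kg * lg) * (lg * kg * lg) := by rw [C.conj_k_l]
        _ = lg * kg * (lg * lg) * kg * lg := by group
        _ = lg * (kg * kg) * lg := by rw [hll]; group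
        _ = 1 := by rw [C.gens.sq, mul_one, hll]
    rw [this, mul_one, mul_inv_cancel]
  · refine Or.inl ?_
    have : (lg * g 0) ^ 2 = 1 := by
      rw [(C.l_comm (show 0 < 10 by norm_num)).mul_pow, pow_two, pow_two, hll, C.gens.sq, one_mul]
    rw [this, mul_one, mul_inv_cancel]

theorem isClass : Cfsg.IsThreeTranspositionClass C.D := by
  refine ⟨⟨fun d hd => ?_, fun d hd e he => ?_⟩, ⟨lg, C.l_mem_D, rfl⟩, ?_⟩
  · obtain ⟨x, rfl⟩ := C.mem_D.1 hd
    refine (orderOf_injective (MulAut.conj x).toMonoidHom (MulAut.conj x).injective lg).trans ?_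
    exact orderOf_eq_prime (by rw [pow_two, C.gens.sq]) C.l_ne_one
  · obtain ⟨x, rfl⟩ := C.mem_D.1 hd
    obtain ⟨y, rfl⟩ := C.mem_D.1 he
    have e1 : x * lg * x⁻¹ * (y * lg * y⁻¹) = x * (lg * ((x⁻¹ * y) * lg * (x⁻¹ * y)⁻¹)) * x⁻¹ := by group
    rw [e1, conj_pow, conj_pow]
    rcases C.pair_rel (C.mem_D.2 ⟨x⁻¹ * y, rfl⟩) with h | h
    · left; rw [h]; group
    · right; rw [h]; group
  · refine top_le_iff.1 (C.closure_gen.ge.trans (Subgroup.closure_mono ?_))
    rintro _ ⟨x, hx, rfl⟩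
    exact C.gen_mem_D hx

theorem tgroup : Cfsg.IsThreeTranspositionGroup C.D :=
  ⟨C.isClass.1, fun x d hd => by
    obtain ⟨y, rfl⟩ := C.mem_D.1 hd
    exact C.mem_D.2 ⟨x * y, by group⟩, C.isClass.2.2⟩

theorem pgroup_bot {p : ℕ} [Fact p.Prime] {N : Subgroup G} (hN : N.Normal) (hp : IsPGroup p ↥N) : N = ⊥ := by
  haveI := Fi23.order_facts.1
  haveI := C.finite
  haveI := hN
  have hl : lg ∉ N := fun hl => by
    have htop : N = ⊤ := top_le_iff.1 (C.isClass.2.2.ge.trans ((Subgroup.closure_le _).2 fun d hd => by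
      obtain ⟨x, rfl⟩ := C.mem_D.1 hd
      exact hN.conj_mem lg hl x))
    subst htop
    obtain ⟨n, hn⟩ := hp.exists_card_eq
    rw [Subgroup.card_top, C.card_G] at hn
    have h2 : 2 ∣ p ^ n := hn ▸ dvd_mul_right 2 _
    have h3 : 3 ∣ p ^ n := hn ▸ (by norm_num : 3 ∣ 2 * 1255205709190661721292800)
    have e2 := (Nat.prime_dvd_prime_iff_eq Nat.prime_two Fact.out).1 (Nat.prime_two.dvd_of_dvd_pow h2)
    have e3 := (Nat.prime_dvd_prime_iff_eq Nat.prime_three Fact.out).1 (Nat.prime_three.dvd_of_dvd_pow h3)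
    omega
  have hK : N.comap C.psi = ⊥ := by
    haveI := Fi23.isSimpleGroup
    haveI : (N.comap C.psi).Normal := hN.comap C.psi
    refine (inferInstance : (N.comap C.psi).Normal).eq_bot_or_eq_top.resolve_right fun h => ?_
    have hle : Nat.card FT ∣ Nat.card ↥N := by
      rw [Nat.card_congr (C.psi.ofInjective C.psi_inj).toEquiv]
      exact Subgroup.card_dvd_of_le (by
        rintro _ ⟨q, rfl⟩
        exact (h ▸ Subgroup.mem_top q : q ∈ N.comap C.psi))
    obtain ⟨n, hn⟩ := hp.exists_card_eq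
    rw [hn, Fi23.order_facts.2.1] at hle
    have e2 := (Nat.prime_dvd_prime_iff_eq Nat.prime_two Fact.out).1
      (Nat.prime_two.dvd_of_dvd_pow ((by norm_num : 2 ∣ 4089470473293004800).trans hle))
    have e3 := (Nat.prime_dvd_prime_iff_eq Nat.prime_three Fact.out).1
      (Nat.prime_three.dvd_of_dvd_pow ((by norm_num : 3 ∣ 4089470473293004800).trans hle))
    omega
  have hNH : N ⊓ HH g = ⊥ := eq_bot_iff.2 fun n hn => by
    obtain ⟨hnN, hnH⟩ := Subgroup.mem_inf.1 hn
    refine Subgroup.mem_bot.2 ((C.H_cases hnH fun r => ?_).resolve_right fun h => hl (h ▸ hnN))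
    obtain ⟨q, hq | hq⟩ := C.mem_H_iff.1 hnH
    all_goals
      have hm : C.psi (q * r * q⁻¹ * r⁻¹) ∈ N := by
        have e : n * C.psi r * n⁻¹ * (C.psi r)⁻¹ ∈ N := by
          rw [show n * C.psi r * n⁻¹ * (C.psi r)⁻¹ = n * (C.psi r * n⁻¹ * (C.psi r)⁻¹) by group]
          exact mul_mem hnN (hN.conj_mem _ (inv_mem hnN) _)
        have hc : n * C.psi r * n⁻¹ = C.psi q * C.psi r * (C.psi q)⁻¹ := by
          subst hq
          first
            | rfl
            | (calc C.psi q * lg * C.psi r * (C.psi q * lg)⁻¹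
                  = C.psi q * (lg * C.psi r) * lg⁻¹ * (C.psi q)⁻¹ := by group
                _ = _ := by rw [(C.l_comm_H (C.psi_mem r)).eq]; group)
        rw [hc] at e
        simpa [map_mul, map_inv] using e
      have h1 : q * r * q⁻¹ * r⁻¹ = 1 := Subgroup.mem_bot.1 (hK ▸ hm)
      have h2 : q * r = r * q := mul_inv_eq_iff_eq_mul.1 (mul_inv_eq_one.1 h1)
    · subst hq
      show C.psi q * C.psi r = C.psi r * C.psi q
      rw [← map_mul, h2, map_mul]
    · subst hq
      show C.psi q * lg * C.psi r = C.psi r * (C.psi q * lg)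
      rw [mul_assoc, (C.l_comm_H (C.psi_mem r)).eq, ← mul_assoc, ← map_mul, h2, map_mul, mul_assoc]
  by_contra hne
  have hsup : N ⊔ HH g = ⊤ := C.eq_top_of_ne le_sup_right fun h => hne (eq_bot_iff.2
    (le_trans (le_inf le_rfl (h ▸ le_sup_left)) hNH.le))
  have hc : Nat.card ↥N = 306936 := by
    have hcomp : Subgroup.IsComplement' N (HH g) := by
      haveI := hN
      exact Subgroup.isComplement'_of_disjoint_and_mul_eq_univ (disjoint_iff.2 hNH)
        (by rw [← Subgroup.normal_mul, hsup, Subgroup.coe_top])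
    have := hcomp.card_mul
    rw [← (HH g).index_mul_card, C.index] at this
    exact Nat.eq_of_mul_eq_mul_right (by rw [C.card_H]; norm_num) this
  obtain ⟨n, hn⟩ := hp.exists_card_eq
  rw [hc] at hn
  have e2 := (Nat.prime_dvd_prime_iff_eq Nat.prime_two Fact.out).1
    (Nat.prime_two.dvd_of_dvd_pow (hn ▸ (by norm_num : 2 ∣ 306936)))
  have e3 := (Nat.prime_dvd_prime_iff_eq Nat.prime_three Fact.out).1
    (Nat.prime_three.dvd_of_dvd_pow (hn ▸ (by norm_num : 3 ∣ 306936)))
  omega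

theorem pCore_bot (p : ℕ) [Fact p.Prime] : Cfsg.pCore p G = ⊥ :=
  eq_bot_iff.2 (sSup_le fun _ h => (C.pgroup_bot h.1 h.2).le)

theorem width : ∃ a ∈ C.D, ∃ b ∈ C.D, a ≠ b ∧ Commute a b :=
  ⟨lg, C.l_mem_D, g 0, C.gen_mem_D (by norm_num), C.a_ne_l.symm, C.l_comm (by norm_num)⟩

theorem klk_not_comm : ¬ Commute lg (kg * lg * kg) := fun h => by
  have h2 := h.eq
  rw [C.conj_k_l] at h2
  have h3 : kg * lg = lg * kg := by
    calc kg * lg = lg * (lg * kg * lg) := by rw [← mul_assoc, ← mul_assoc, C.gens.sq, one_mul]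
      _ = lg * kg * lg * lg := h2
      _ = lg * kg := by rw [mul_assoc, C.gens.sq, mul_one]
  refine C.k_ne_l ?_
  calc kg = kg * (lg * lg) := by rw [C.gens.sq, mul_one]
    _ = lg * kg * lg := by rw [← mul_assoc, h3]
    _ = kg * lg * kg := C.gens.braid (10, 11) (by decide)
    _ = lg * (kg * kg) := by rw [h3, mul_assoc]
    _ = lg := by rw [C.gens.sq, mul_one]

theorem connected : (Cfsg.commutingGraph C.D).Connected := by
  rw [SimpleGraph.connected_iff_exists_forall_reachable]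
  refine ⟨⟨lg, C.l_mem_D⟩, fun ⟨y, hy⟩ => ?_⟩
  have hadj : ∀ a b : ↥C.D, (a : G) ≠ b → Commute (a : G) b → (Cfsg.commutingGraph C.D).Reachable a b :=
    fun a b hne hc => SimpleGraph.Adj.reachable (by
      rw [Cfsg.commutingGraph, SimpleGraph.fromRel_adj]
      exact ⟨fun e => hne (congrArg Subtype.val e), Or.inl hc⟩)
  rcases C.D_cases hy with rfl | ⟨h, hh, rfl⟩ | ⟨h, hh, rfl⟩
  · exact SimpleGraph.Reachable.refl _
  · have hc2 : h * g 2 * h⁻¹ ∈ C.D := C.tgroup.2.1 h _ (C.gen_mem_D (by norm_num))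
    have hl2 : Commute lg (h * g 2 * h⁻¹) :=
      ((C.l_comm_H hh).mul_right (C.l_comm (by norm_num))).mul_right ((C.l_comm_H hh).inv_right)
    have hk2 : Commute kg (g 2) := C.comm_fin ⟨11, by norm_num⟩ ⟨2, by norm_num⟩ (by decide) (by decide)
    have hk2' : Commute (g 2) (kg * lg * kg) :=
      (hk2.symm.mul_right (C.l_comm (show 2 < 10 by norm_num)).symm).mul_right hk2.symm
    refine (hadj _ ⟨_, hc2⟩ (fun e => ?_) hl2).trans (hadj _ _ (fun e => ?_) ?_)
    · refine C.gen_ne_l (show 2 < 10 by norm_num) ?_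
      have e' : lg = h * g 2 * h⁻¹ := e
      calc g 2 = h⁻¹ * (h * g 2 * h⁻¹) * h := by group
        _ = lg := by rw [← e', mul_assoc, (C.l_comm_H hh).eq, inv_mul_cancel_left]
    · have e' : h * g 2 * h⁻¹ = h * (kg * lg * kg) * h⁻¹ := e
      have e2 : g 2 = kg * lg * kg := mul_left_cancel (mul_right_cancel e')
      exact C.klk_not_comm (e2 ▸ C.l_comm (by norm_num))
    · exact hk2'.conj h
  · refine hadj _ _ (fun e => C.a_ne_l ?_)
      (((C.l_comm_H hh).mul_right (C.l_comm (by norm_num))).mul_right ((C.l_comm_H hh).inv_right))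
    have e' : lg = h * g 0 * h⁻¹ := e
    calc g 0 = h⁻¹ * (h * g 0 * h⁻¹) * h := by group
      _ = lg := by rw [← e', mul_assoc, (C.l_comm_H hh).eq, inv_mul_cancel_left]

theorem prim : Cfsg.IsPrimitiveUnderConj C.D := by
  haveI := C.finite
  haveI : Fact (Nat.Prime 2) := ⟨Nat.prime_two⟩
  haveI : Fact (Nat.Prime 3) := ⟨Nat.prime_three⟩
  exact (S5361.result C.isClass C.center_bot C.width).2.2 ⟨C.pCore_bot 2, C.pCore_bot 3, C.connected⟩

theorem mem_nb {y : G} : y ∈ Nb C.D lg ↔ ∃ h ∈ HH g, y = h * g 0 * h⁻¹ := by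
  constructor
  · rintro ⟨hy, hne, hc⟩
    rcases C.D_cases hy with h | ⟨h, hh, rfl⟩ | h
    · exact absurd h hne
    · refine absurd ?_ C.klk_not_comm
      have := hc.conj h⁻¹
      rw [show h⁻¹ * lg * h⁻¹⁻¹ = lg by rw [inv_inv, mul_assoc, (C.l_comm_H hh).eq, inv_mul_cancel_left],
        show h⁻¹ * (h * (kg * lg * kg) * h⁻¹) * h⁻¹⁻¹ = kg * lg * kg by group] at this
      exact this
    · exact h
  · rintro ⟨h, hh, rfl⟩
    refine ⟨C.tgroup.2.1 h _ (C.gen_mem_D (by norm_num)), fun e => C.a_ne_l ?_,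
      ((C.l_comm_H hh).mul_right (C.l_comm (by norm_num))).mul_right ((C.l_comm_H hh).inv_right)⟩
    calc g 0 = h⁻¹ * (h * g 0 * h⁻¹) * h := by group
      _ = lg := by rw [e, mul_assoc, (C.l_comm_H hh).eq, inv_mul_cancel_left]

theorem closure_nb : Subgroup.closure (Nb C.D lg) = HH g := by
  refine le_antisymm ?_ ?_
  · rw [Subgroup.closure_le]
    intro y hy
    obtain ⟨h, hh, rfl⟩ := C.mem_nb.1 hy
    exact mul_mem (mul_mem hh (C.gen_mem (by norm_num))) (inv_mem hh)
  · have hgen : ∀ x < 10, g x ∈ Subgroup.closure (Nb C.D lg) := fun x hx =>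
      Subgroup.subset_closure ⟨C.gen_mem_D (by omega), C.gen_ne_l hx, C.l_comm hx⟩
    rw [HH, Subgroup.closure_le]
    rintro _ ⟨x, hx, rfl⟩
    rcases Nat.lt_or_ge x 10 with h | h
    · exact hgen x h
    · obtain rfl : x = 10 := by simp only [Set.mem_ofPred_eq] at hx; omega
      show lg ∈ Subgroup.closure (Nb C.D lg)
      have hw : wprod g eW ∈ Subgroup.closure (Nb C.D lg) := by
        refine Subgroup.list_prod_mem _ fun y hy => ?_
        obtain ⟨i, hi, rfl⟩ := List.mem_map.1 hy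
        have hlt : ∀ i ∈ eW, i < 10 := by decide
        exact hgen i (hlt i hi)
      rwa [← C.gens.l_eq] at hw

/-- The neighbour quotient is Fi23 with its transpositions. -/
theorem type_m24 : Cfsg.IsOfTypeM24 G C.D := by
  haveI := C.finite
  set N := Subgroup.closure (Nb C.D lg) with hN
  have hmem : ∀ x : G, x ∈ N ↔ x ∈ HH g := fun x => by rw [hN, C.closure_nb]
  let ι : FT →* ↥N := C.psi.codRestrict N fun q => (hmem _).2 (C.psi_mem q)
  let π : FT →* Q C.D lg := (QuotientGroup.mk' (Subgroup.center ↥N)).comp ι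
  have hlN : lg ∈ N := (hmem _).2 (C.gen_mem (by norm_num))
  have hlc : (⟨lg, hlN⟩ : ↥N) ∈ Subgroup.center ↥N := Subgroup.mem_center_iff.2 fun x =>
    Subtype.ext (C.l_comm_H ((hmem _).1 x.2)).eq.symm
  have hsurj : Function.Surjective π := fun y => by
    obtain ⟨⟨x, hx⟩, rfl⟩ := QuotientGroup.mk'_surjective _ y
    obtain ⟨q, rfl | rfl⟩ := C.mem_H_iff.1 ((hmem _).1 hx)
    · exact ⟨q, rfl⟩
    · refine ⟨q, (QuotientGroup.eq (s := Subgroup.center ↥N)).2 ?_⟩
      have e : (ι q)⁻¹ * ⟨C.psi q * lg, hx⟩ = (⟨lg, hlN⟩ : ↥N) := Subtype.ext (inv_mul_cancel_left _ _)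
      rw [e]
      exact hlc
  have hinj : Function.Injective π := (injective_iff_map_eq_one π).2 fun q hq => by
    have hc : ι q ∈ Subgroup.center ↥N := (QuotientGroup.eq_one_iff _).1 hq
    have hz : q ∈ Subgroup.center FT := Subgroup.mem_center_iff.2 fun r => C.psi_inj (by
      rw [map_mul, map_mul]
      exact congrArg Subtype.val (Subgroup.mem_center_iff.1 hc (ι r)))
    rwa [Fi23Type.center_GT, Subgroup.mem_bot] at hz
  let e : FT ≃* Q C.D lg := MulEquiv.ofBijective π ⟨hinj, hsurj⟩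
  haveI := Fi23.isSimpleGroup
  have hQs : IsSimpleGroup (Q C.D lg) := MulEquiv.isSimpleGroup e.symm
  have hcore : ∀ p : ℕ, [Fact p.Prime] → Cfsg.pCore p ↥N ≤ Subgroup.center ↥N := fun p _ => by
    refine sSup_le ?_
    rintro M ⟨hMn, hMp⟩
    haveI := hMn.map (QuotientGroup.mk' (Subgroup.center ↥N)) (QuotientGroup.mk'_surjective _)
    rcases Subgroup.Normal.eq_bot_or_eq_top (H := M.map (QuotientGroup.mk' (Subgroup.center ↥N))) inferInstance
      with h | h
    · exact ((Subgroup.map_eq_bot_iff _).1 h).trans (QuotientGroup.ker_mk' _).le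
    · exfalso
      obtain ⟨n, hn⟩ := (hMp.map (QuotientGroup.mk' (Subgroup.center ↥N))).exists_card_eq
      rw [h, Subgroup.card_top, ← Nat.card_congr e.toEquiv, Fi23.order_facts.2.1] at hn
      have e2 := (Nat.prime_dvd_prime_iff_eq Nat.prime_two Fact.out).1
        (Nat.prime_two.dvd_of_dvd_pow (hn ▸ (by norm_num : 2 ∣ 4089470473293004800)))
      have e3 := (Nat.prime_dvd_prime_iff_eq Nat.prime_three Fact.out).1
        (Nat.prime_three.dvd_of_dvd_pow (hn ▸ (by norm_num : 3 ∣ 4089470473293004800)))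
      omega
  haveI : Fact (Nat.Prime 2) := ⟨Nat.prime_two⟩
  haveI : Fact (Nat.Prime 3) := ⟨Nat.prime_three⟩
  have hL : FischerClass.Loc C.D := FischerClass.Loc.of_one
    ⟨C.tgroup, C.prim, C.center_bot, C.width⟩ C.l_mem_D (hcore 2) (hcore 3)
  refine FischerClassTy.step_m23 hL C.l_mem_D (Fi23Type.type_m23 e ?_)
  have hgm : ∀ q : FT, ∀ hy : C.psi q * g 0 * (C.psi q)⁻¹ ∈ N,
      e (q * Setup.gen Fi23A.setup 0 * q⁻¹) =
        QuotientGroup.mk' (Subgroup.center ↥N) ⟨C.psi q * g 0 * (C.psi q)⁻¹, hy⟩ := fun q hy => by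
    show QuotientGroup.mk' (Subgroup.center ↥N) (ι _) = _
    refine (QuotientGroup.eq (s := Subgroup.center ↥N)).2 ?_
    have e0 : (ι (q * Setup.gen Fi23A.setup 0 * q⁻¹))⁻¹ * ⟨C.psi q * g 0 * (C.psi q)⁻¹, hy⟩ = (⟨lg, hlN⟩ : ↥N) := by
      refine Subtype.ext ?_
      show (C.psi (q * Setup.gen Fi23A.setup 0 * q⁻¹))⁻¹ * (C.psi q * g 0 * (C.psi q)⁻¹) = lg
      rw [map_mul, map_mul, map_inv, C.psi_gen (by norm_num)]
      calc (C.psi q * (g 0 * lg) * (C.psi q)⁻¹)⁻¹ * (C.psi q * g 0 * (C.psi q)⁻¹)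
          = C.psi q * lg⁻¹ * (C.psi q)⁻¹ := by group
        _ = lg := by
            rw [C.gen_inv, ← (C.l_comm_H (C.psi_mem q)).eq, mul_inv_cancel_right]
    rw [e0]
    exact hlc
  ext y
  constructor
  · rintro ⟨d, hd, rfl⟩
    obtain ⟨x, rfl⟩ := FischerPresented.Fi23.mem_D.1 hd
    set q := x * FischerPresented.Fi23.U
    have hy : C.psi q * g 0 * (C.psi q)⁻¹ ∈ N :=
      (hmem _).2 (mul_mem (mul_mem (C.psi_mem q) (C.gen_mem (by norm_num))) (inv_mem (C.psi_mem q)))
    refine ⟨⟨_, hy⟩, C.mem_nb.2 ⟨C.psi q, C.psi_mem q, rfl⟩, ?_⟩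
    rw [show x * FischerPresented.Fi23.z * x⁻¹ = q * Setup.gen Fi23A.setup 0 * q⁻¹ by
      rw [FischerPresented.Fi23.z_eq]; simp only [q]; group, hgm q hy]
    rfl
  · rintro ⟨⟨w, hw⟩, hwn, rfl⟩
    obtain ⟨h, hh, rfl⟩ := C.mem_nb.1 hwn
    obtain ⟨q, hq | hq⟩ := C.mem_H_iff.1 hh
    all_goals
      have e1 : h * g 0 * h⁻¹ = C.psi q * g 0 * (C.psi q)⁻¹ := by
        subst hq
        first
          | rfl
          | (calc C.psi q * lg * g 0 * (C.psi q * lg)⁻¹ = C.psi q * (lg * g 0) * lg⁻¹ * (C.psi q)⁻¹ := by group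
              _ = _ := by rw [(C.l_comm (show 0 < 10 by norm_num)).eq]; group)
      refine ⟨q * Setup.gen Fi23A.setup 0 * q⁻¹, FischerPresented.Fi23.mem_D.2
        ⟨q * FischerPresented.Fi23.U⁻¹, by rw [FischerPresented.Fi23.z_eq]; group⟩, ?_⟩
      rw [hgm q ((hmem _).2 (mul_mem (mul_mem (C.psi_mem q) (C.gen_mem (by norm_num))) (inv_mem (C.psi_mem q))))]
      exact congrArg (QuotientGroup.mk' (Subgroup.center ↥N)) (Subtype.ext e1.symm)

/-- The witness of type M(24). -/
theorem exists_m24 : ∃ (X : Type) (_ : Group X) (_ : Finite X) (E : Set X), Cfsg.IsThreeTranspositionClass E ∧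
    Cfsg.IsPrimitiveUnderConj E ∧ Cfsg.IsOfTypeM24 X E :=
  ⟨G, inferInstance, C.finite, C.D, C.isClass, C.prim, C.type_m24⟩

end Core

end

end Cfsg.Agent.Fi24Pres.Transp
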