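import Cfsg.Prelude.Def_Sporadic
import Cfsg.Prelude.Def_SporadicB
import Cfsg.Agent.Lib.Fi24Pres.Core
import Cfsg.Agent.Lib.Fi24Pres.Transp
import Cfsg.Agent.Lib.Fi24Pres.Sign
import Cfsg.Agent.Lib.Fi24Pres.SimpleRankThree
import Cfsg.Agent.Lib.Fi24Pres.Spider
import Cfsg.Agent.Lib.FischerHe24.Main
import Cfsg.Agent.Lib.FischerPresented.Transport
import Cfsg.Agent.S1695

/-!
The commutator subgroup of the presented Fi24 is simple; the presented Fi24 realises the largest Fischer
3-transposition group.
-/

set_option autoImplicit false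

namespace Cfsg.Agent.Fi24Pres.Realization

open Cfsg.Agent.CosetCert
open Cfsg.Agent.CosetData

noncomputable section

local notation "FS" => Fi23A.setup

/-- The facts of the enumeration for the presented group. -/
theorem core : Transp.Core gen where
  gens := gens
  closure_gen := closure_gen
  spider := Fi24Pres.spider gens
  index := index_HH
  cover x := (double_cosets x).imp_right fun ⟨h₁, hh₁, h₂, hh₂, e⟩ =>
    e.imp (fun e => ⟨h₁, hh₁, h₂, hh₂, e⟩) fun e => ⟨h₁, hh₁, h₂, hh₂, e⟩

theorem sgn_psi (q : Setup.G FS) : sgnHom (core.psi q) = 1 := by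
  have hq : q ∈ (sgnHom.comp core.psi).ker := by
    suffices h : (⊤ : Subgroup (Setup.G FS)) ≤ (sgnHom.comp core.psi).ker from h (Subgroup.mem_top q)
    rw [← Setup.closure_gen FS, Subgroup.closure_le]
    rintro _ ⟨x, hx, rfl⟩
    rw [SetLike.mem_coe, MonoidHom.mem_ker, MonoidHom.comp_apply, core.psi_gen (show x < 10 from hx), map_mul,
      sgnHom_gen, sgnHom_gen]
    decide
  exact hq

theorem isFi23_psi_range : Cfsg.IsFi23 ↥core.psi.range := by
  let e := MonoidHom.ofInjective core.psi_inj
  haveI := FischerPresented.Fi23.isSimpleGroup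
  exact ⟨e.symm.isSimpleGroup, (Nat.card_congr e.symm.toEquiv).trans FischerPresented.Fi23.order_facts.2.1⟩

theorem psi_range_eq : core.psi.range = Transp.HH gen ⊓ commutator Cfsg.Spor.Fi24 := by
  ext h
  constructor
  · rintro ⟨q, rfl⟩
    exact ⟨core.psi_mem q, mem_commutator_iff.2 (sgn_psi q)⟩
  · rintro ⟨hh, hc⟩
    obtain ⟨q, rfl | rfl⟩ := core.mem_H_iff.1 hh
    · exact ⟨q, rfl⟩
    · have hc' := mem_commutator_iff.1 hc
      rw [map_mul, sgn_psi, one_mul, sgnHom_gen] at hc'
      exact absurd hc' (by decide)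

theorem comm_gen {x y : ℕ} (hx : x < 12) (hy : y < 12) (h : ((x, y) ∉ edgesN ∧ (y, x) ∉ edgesN)) :
    gen x * gen y = gen y * gen x := gens.comm x hx y hy h.1 h.2

/-- **The commutator subgroup of the presented Fi24 is simple of the expected order.** -/
theorem isFi24' : Cfsg.IsFi24' ↥(commutator Cfsg.Spor.Fi24) := by
  haveI : Finite Cfsg.Spor.Fi24 := core.finite
  refine ⟨?_, ?_⟩
  · have inv : ∀ x, (gen x)⁻¹ = gen x := fun x => inv_eq_of_mul_eq_one_right (gen_sq x)
    have hmem : ∀ x < 11, gen x ∈ Transp.HH gen := fun x hx => core.gen_mem hx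
    have hsimple : IsSimpleGroup ↥((Transp.HH gen).subgroupOf (commutator Cfsg.Spor.Fi24)) := by
      haveI := isFi23_psi_range.1
      refine MulEquiv.isSimpleGroup (H := ↥core.psi.range) ?_
      refine MulEquiv.trans
        (((Transp.HH gen).subgroupOf (commutator Cfsg.Spor.Fi24)).equivMapOfInjective
          (commutator Cfsg.Spor.Fi24).subtype (commutator Cfsg.Spor.Fi24).subtype_injective)
        (MulEquiv.subgroupCongr ?_)
      rw [Subgroup.subgroupOf_map_subtype, psi_range_eq]
    refine isSimple_of_three_cosets (H := Transp.HH gen) commutator_index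
      (fun Y hY => core.eq_top_of_ne hY.le hY.ne') hsimple (h₀ := gen 10) (hmem 10 (by norm_num))
      (gen_not_mem 10) (x := gen 11) (y := gen 11 * gen 10 * gen 0 * gen 11)
      ⟨gen 1, hmem 1 (by norm_num), gen_not_mem 1, ?_⟩ ⟨gen 2, hmem 2 (by norm_num), gen_not_mem 2, ?_⟩
      core.cover core.index (p := 2) (q := 3) (r := 7) Nat.prime_two Nat.prime_three (by norm_num) (by norm_num)
      (by norm_num) (by norm_num) (by norm_num) (by norm_num)
    · rw [mul_assoc, comm_gen (x := 1) (y := 11) (by norm_num) (by norm_num) (by decide), inv_mul_cancel_left]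
      exact hmem 1 (by norm_num)
    · have c11 := comm_gen (x := 2) (y := 11) (by norm_num) (by norm_num) (by decide)
      have c10 := comm_gen (x := 2) (y := 10) (by norm_num) (by norm_num) (by decide)
      have c0 := comm_gen (x := 2) (y := 0) (by norm_num) (by norm_num) (by decide)
      have hc : Commute (gen 2) (gen 11 * gen 10 * gen 0 * gen 11) :=
        (((show Commute (gen 2) (gen 11) from c11).mul_right c10).mul_right c0).mul_right c11
      rw [mul_assoc, hc.eq, inv_mul_cancel_left]
      exact hmem 2 (by norm_num)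
  · have h := Subgroup.card_mul_index (commutator Cfsg.Spor.Fi24)
    rw [commutator_index, core.card_G] at h
    omega

/-- A simple subgroup of non-prime order lies in every subgroup of index two. -/
theorem le_of_simple {G : Type*} [Group G] {L K : Subgroup G} (hL : L.index = 2) [hK : IsSimpleGroup ↥K]
    (hcard : 2 < Nat.card K) : K ≤ L := by
  haveI := Subgroup.normal_of_index_eq_two hL
  rcases (inferInstance : (L.subgroupOf K).Normal).eq_bot_or_eq_top with h | h
  · exfalso
    have hinj : Function.Injective fun k : K => (QuotientGroup.mk (k : G) : G ⧸ L) := fun a b hab => by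
      dsimp only at hab
      have hm : a⁻¹ * b ∈ L.subgroupOf K := (QuotientGroup.eq (s := L)).1 hab
      rw [h, Subgroup.mem_bot] at hm
      exact inv_mul_eq_one.1 hm
    haveI : Finite (G ⧸ L) := Nat.finite_of_card_ne_zero (by rw [← Subgroup.index_eq_card, hL]; norm_num)
    have := Nat.card_le_card_of_injective _ hinj
    rw [← Subgroup.index_eq_card, hL] at this
    omega
  · exact Subgroup.subgroupOf_eq_top.1 h

/-- **The largest Fischer 3-transposition group.** -/
theorem realization : ∃ (G : Type) (_ : Group G) (_ : Finite G),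
    Nat.card G = 2 * 1255205709190661721292800 ∧ ∃ D : Set G, Cfsg.IsThreeTranspositionClass D ∧
      Nat.card D = 306936 ∧ (∀ d ∈ D, Nat.card (Subgroup.centralizer ({d} : Set G)) = 2 * 4089470473293004800 ∧
        ∃ K : Subgroup G, K ≤ Subgroup.centralizer ({d} : Set G) ∧ Cfsg.IsFi23 K) ∧
      ∃ H : Subgroup G, H.index = 2 ∧ Cfsg.IsFi24' H ∧ (∃ K : Subgroup H, Cfsg.IsFi23 K) ∧
        (∃ K : Subgroup H, Cfsg.IsHe K) := by
  haveI : Finite Cfsg.Spor.Fi24 := core.finite
  have hfi : ∀ {A B : Type} [Group A] [Group B], (A ≃* B) → Cfsg.IsFi23 B → Cfsg.IsFi23 A :=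
    fun {A B} _ _ e h => by
      haveI := h.1
      exact ⟨e.isSimpleGroup, (Nat.card_congr e.toEquiv).trans h.2⟩
  refine ⟨Cfsg.Spor.Fi24, inferInstance, core.finite, core.card_G, core.D, core.isClass, core.card_D,
    fun d hd => ?_, commutator Cfsg.Spor.Fi24, commutator_index, isFi24', ?_, ?_⟩
  · obtain ⟨x, rfl⟩ := core.mem_D.1 hd
    obtain ⟨ι⟩ := FischerPresented.nonempty_centralizer_conj x (gen 10)
    refine ⟨?_, core.psi.range.map (MulAut.conj x).toMonoidHom, ?_, hfi
      (core.psi.range.equivMapOfInjective _ (MulAut.conj x).injective).symm isFi23_psi_range⟩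
    · rw [← Nat.card_congr ι.toEquiv, core.centralizer_l, core.card_H]
    · rintro _ ⟨_, ⟨q, rfl⟩, rfl⟩
      refine Subgroup.mem_centralizer_singleton_iff.2 ?_
      show x * core.psi q * x⁻¹ * (x * gen 10 * x⁻¹) = x * gen 10 * x⁻¹ * (x * core.psi q * x⁻¹)
      calc x * core.psi q * x⁻¹ * (x * gen 10 * x⁻¹) = x * (core.psi q * gen 10) * x⁻¹ := by group
        _ = x * (gen 10 * core.psi q) * x⁻¹ := by rw [(core.l_comm_H (core.psi_mem q)).eq]
        _ = _ := by group
  · refine ⟨core.psi.range.subgroupOf (commutator Cfsg.Spor.Fi24),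
      hfi (Subgroup.subgroupOfEquivOfLe ?_) isFi23_psi_range⟩
    rw [psi_range_eq]
    exact inf_le_right
  · obtain ⟨d, hd, C⟩ := FischerUnique24.exists_ctx core.tgroup core.prim core.type_m24
    obtain ⟨K, ⟨e⟩⟩ := FischerHe24.exists_subgroup C core.type_m24
    have hHe := S1695.result
    haveI := hHe.1
    haveI hKs : IsSimpleGroup ↥K := e.isSimpleGroup
    have hKc : Nat.card K = 4030387200 := (Nat.card_congr e.toEquiv).trans hHe.2
    have hle : K ≤ commutator Cfsg.Spor.Fi24 := le_of_simple commutator_index (by rw [hKc]; norm_num)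
    refine ⟨K.subgroupOf (commutator Cfsg.Spor.Fi24), ?_, ?_⟩
    · exact (Subgroup.subgroupOfEquivOfLe hle).isSimpleGroup
    · rw [Nat.card_congr (Subgroup.subgroupOfEquivOfLe hle).toEquiv, hKc]

end

end Cfsg.Agent.Fi24Pres.Realization
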