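import Cfsg.Agent.Lib.Fi24Pres.UpperData

/-!
Walking along a word through named right cosets.
-/

set_option autoImplicit false
set_option maxRecDepth 100000

namespace Cfsg.Agent.Fi24Pres

open Cfsg.Agent.CosetCert

noncomputable section

/-- The word of the coset underlying a kind. -/
def bw : ℕ → List ℕ
  | 0 => []
  | 1 => [11, 0, 10, 11]
  | _ => [11]

/-- The point underlying a kind. -/
def bp : ℕ → ℕ
  | 0 => 0
  | 1 => 26626
  | _ => 31672

/-- The word lies among a, ..., j, l. -/
def inH (w : List ℕ) : Bool := w.all fun x => Nat.blt x 11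

/-- The word lies among b, ..., j. -/
def inK (w : List ℕ) : Bool := w.all fun x => Nat.ble 1 x && Nat.blt x 10

/-- An entry of the table. -/
def row (i : ℕ) : ℕ × List ℕ × ℕ × List ℕ := table.getD i (0, [], 0, [])

/-- A letter or one step by k, using a table row and an orbit word. -/
def walk (lim : ℕ) (chk : ℕ → List ℕ → Bool) : List ℕ → List (ℕ × List ℕ) → ℕ → List ℕ → Option (ℕ × List ℕ)
  | [], _, k, h => some (k, h)
  | x :: w, st, k, h =>
    if x == 11 then
      match st with
      | [] => none
      | (i, κ) :: st =>
        if i < lim && i < 9 && k == (row i).1 && inK κ && (k == 0 || chk k (h ++ ((row i).2.1 ++ κ).reverse)) then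
          walk lim chk w st (row i).2.2.1 (if (row i).2.2.1 == 0 then [] else (row i).2.2.2 ++ κ)
        else none
    else if x < 11 then walk lim chk w st k (if k == 0 then [] else h ++ [x]) else none

theorem inH_spec {w : List ℕ} (h : inH w = true) : ∀ x ∈ w, x < 11 := fun x hx => by
  simpa using List.all_eq_true.1 h x hx

theorem inK_spec {w : List ℕ} (h : inK w = true) : ∀ x ∈ w, 1 ≤ x ∧ x < 10 := fun x hx => by
  simpa using List.all_eq_true.1 h x hx

theorem table_letters : ∀ i < 9, inH (row i).2.1 = true ∧ inH (row i).2.2.2 = true := by decide +kernel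

theorem eqv_zero {h : List ℕ} (hh : ∀ x ∈ h, x < 11) : Eqv h [] := by
  simpa [Eqv, wprod_nil] using wprod_mem hh

theorem eqv_strip {k : ℕ} {h v : List ℕ} (e : Eqv (bw k ++ (h ++ v.reverse)) (bw k)) :
    Eqv (bw k ++ h) (bw k ++ v) := by
  refine (eqv_congr ?_).trans (e.append v)
  simp only [wprod_append, mul_assoc]
  rw [wprod_reverse gens.sq, inv_mul_cancel, mul_one]

theorem eqv_k_past {w κ : List ℕ} (hκ : inK κ = true) : Eqv (w ++ κ ++ [11]) (w ++ [11] ++ κ) := by
  refine eqv_congr ?_
  simp only [wprod_append, wprod_cons, wprod_nil, mul_one, mul_assoc]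
  rw [(k_comm_word (inK_spec hκ)).eq]

/-- Soundness of a walk. -/
theorem walk_sound {chk : ℕ → List ℕ → Bool}
    (hchk : ∀ k u, 1 ≤ k → (∀ x ∈ u, x < 11) → chk k u = true → Eqv (bw k ++ u) (bw k))
    {lim : ℕ} (hrow : ∀ i < 9, i < lim →
      Eqv (bw (row i).1 ++ (row i).2.1 ++ [11]) (bw (row i).2.2.1 ++ (row i).2.2.2)) :
    ∀ (w : List ℕ) (st : List (ℕ × List ℕ)) (k : ℕ) (h : List ℕ) (r : ℕ × List ℕ),
      (k = 0 → h = []) → (∀ x ∈ h, x < 11) → walk lim chk w st k h = some r →
      Eqv (bw k ++ h ++ w) (bw r.1 ++ r.2) := by
  intro w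
  induction w with
  | nil =>
    intro st k h r _ _ hr
    rw [walk, Option.some.injEq] at hr
    subst hr
    rw [List.append_nil]
    exact Eqv.refl _
  | cons x w ih =>
    intro st k h r hk0 hh hr
    rw [walk.eq_def] at hr
    simp only at hr
    by_cases hx : x = 11
    · subst hx
      rw [if_pos (by rfl)] at hr
      cases st with
      | nil => simp at hr
      | cons p st =>
        obtain ⟨i, κ⟩ := p
        simp only at hr
        obtain ⟨hc, hr⟩ := Option.ite_none_right_eq_some.mp hr
        simp only [Bool.and_eq_true, decide_eq_true_eq, beq_iff_eq, Bool.or_eq_true] at hc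
        obtain ⟨⟨⟨⟨hlim, hi⟩, hk⟩, hκ⟩, hgood⟩ := hc
        obtain ⟨hu, hu'⟩ := table_letters i hi
        have hκ' : ∀ x ∈ κ, x < 11 := fun x hx => by have := inK_spec hκ x hx; omega
        have huκ : ∀ x ∈ (row i).2.1 ++ κ, x < 11 := fun x hx =>
          (List.mem_append.1 hx).elim (inH_spec hu x) (hκ' x)
        have h1 : Eqv (bw k ++ h) (bw k ++ ((row i).2.1 ++ κ)) := by
          rcases hgood with hz | hg
          · subst hz
            exact (eqv_zero hh).trans (eqv_zero huκ).symm
          · rcases Nat.eq_zero_or_pos k with hz | hpos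
            · subst hz
              exact (eqv_zero hh).trans (eqv_zero huκ).symm
            · exact eqv_strip (hchk k _ hpos (fun x hx => (List.mem_append.1 hx).elim (hh x)
                fun hx => huκ x (List.mem_reverse.1 hx)) hg)
        have h2 := hrow i hi hlim
        have h3 : Eqv (bw k ++ h ++ [11]) (bw (row i).2.2.1 ++ ((row i).2.2.2 ++ κ)) := by
          refine (h1.append [11]).trans ?_
          rw [← List.append_assoc]
          refine (eqv_k_past hκ).trans ?_
          rw [hk, ← List.append_assoc (bw (row i).2.2.1)]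
          exact h2.append κ
        have hnew : ∀ x ∈ (if (row i).2.2.1 == 0 then [] else (row i).2.2.2 ++ κ), x < 11 := by
          intro x hx
          split_ifs at hx with hz
          · simp at hx
          · exact (List.mem_append.1 hx).elim (inH_spec hu' x) (hκ' x)
        have h4 := ih st _ _ r (fun e => by rw [if_pos (by simp [e])]) hnew hr
        refine Eqv.trans ?_ h4
        rw [show bw k ++ h ++ 11 :: w = bw k ++ h ++ [11] ++ w by simp]
        refine (h3.append w).trans (Eqv.append ?_ w)
        split_ifs with hz
        · simp only [beq_iff_eq] at hz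
          rw [hz]
          simp only [bw, List.nil_append]
          exact eqv_zero fun x hx => (List.mem_append.1 hx).elim (inH_spec hu' x) (hκ' x)
        · exact Eqv.refl _
    · rw [if_neg (by simpa using hx)] at hr
      obtain ⟨hlt, hr⟩ := Option.ite_none_right_eq_some.mp hr
      have hnew : ∀ y ∈ (if k == 0 then [] else h ++ [x]), y < 11 := by
        intro y hy
        split_ifs at hy
        · simp at hy
        · rcases List.mem_append.1 hy with h' | h'
          exacts [hh y h', by rw [List.mem_singleton] at h'; omega]
      have h4 := ih st k _ r (fun e => by rw [if_pos (by simp [e])]) hnew hr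
      refine Eqv.trans ?_ h4
      rw [show bw k ++ h ++ x :: w = bw k ++ h ++ [x] ++ w by simp]
      refine Eqv.append ?_ w
      split_ifs with hz
      · simp only [beq_iff_eq] at hz
        subst hz
        rw [hk0 rfl]
        simpa [bw] using eqv_zero (h := [x]) (by intro y hy; rw [List.mem_singleton] at hy; omega)
      · rw [List.append_assoc]
        exact Eqv.refl _

end

end Cfsg.Agent.Fi24Pres
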