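import Cfsg.Agent.Lib.Fi24Pres.HomAct
import Cfsg.Agent.Lib.Fi24Pres.Walk
import Cfsg.Agent.Lib.Fi24Pres.Check.Cover

/-!
Point stabilisers in Fi23 × 2 and their orders; when a subgroup of a point stabiliser fills it.
-/

set_option autoImplicit false
set_option maxRecDepth 100000

namespace Cfsg.Agent.Fi24Pres

open Cfsg.Agent.CosetCert
open Cfsg.Agent.CosetData
open Cfsg.Agent.FischerPresented

noncomputable section

instance : Finite W2 := by
  have := Fi23.order_facts.1
  infer_instance

theorem card_W2 : Nat.card W2 = 2 * 4089470473293004800 := by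
  rw [Nat.card_prod, Fi23.order_facts.2.1, Nat.card_eq_fintype_card (α := Multiplicative (ZMod 2)),
    Fintype.card_multiplicative, ZMod.card, mul_comm]

/-- The permutation of an element of Fi23 × 2, as a left action. -/
def rho : W2 →* Equiv.Perm Pt where
  toFun u := ((eta (theta u)).unop)⁻¹
  map_one' := by simp
  map_mul' u v := by simp [map_mul, mul_inv_rev]

theorem rho_apply (u : W2) (c : Pt) : rho u c = pA (theta u)⁻¹ c := by
  show ((eta (theta u)).unop)⁻¹ c = (eta (theta u)⁻¹).unop c
  rw [map_inv, MulOpposite.unop_inv]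

/-- A point by number. -/
def pt (c : ℕ) (h : c < NP := by norm_num) : Pt := ⟨c, h⟩

/-- The elements fixing a point. -/
def stab (c : Pt) : Subgroup W2 where
  carrier := {u | pA (theta u) c = c}
  one_mem' := by simp [pA_one]
  mul_mem' {u v} hu hv := by
    show pA (theta (u * v)) c = c
    rw [map_mul, pA_mul, hu, hv]
  inv_mem' {u} hu := by
    show pA (theta u⁻¹) c = c
    rw [map_inv]
    exact pA_inv hu

theorem mem_stab {u : W2} {c : Pt} : u ∈ stab c ↔ pA (theta u) c = c := Iff.rfl

/-- The orbit of a point. -/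
def orb (c : Pt) : Set Pt := {d | ∃ u : W2, pA (theta u) c = d}

theorem card_stab (c : Pt) : Nat.card (stab c) * (orb c).ncard = 2 * 4089470473293004800 := by
  letI : MulAction W2 Pt := MulAction.compHom Pt rho
  have hs : MulAction.stabilizer W2 c = stab c := by
    ext u
    rw [MulAction.mem_stabilizer_iff, mem_stab]
    show rho u c = c ↔ _
    rw [rho_apply]
    exact ⟨fun h => by simpa using pA_inv h, fun h => pA_inv h⟩
  have ho : MulAction.orbit W2 c = orb c := by
    ext d
    constructor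
    · rintro ⟨u, rfl⟩
      exact ⟨u⁻¹, by rw [map_inv]; exact (rho_apply u c).symm⟩
    · rintro ⟨u, rfl⟩
      refine ⟨u⁻¹, ?_⟩
      show rho u⁻¹ c = _
      rw [rho_apply, map_inv, inv_inv]
  rw [← card_W2, ← ho, ← hs, ← MulAction.index_stabilizer, Subgroup.card_mul_index]

theorem pA_H_region {x : G24} (hx : x ∈ HH) (c : Pt) :
    ((c : ℕ) = 0 ↔ (pA x c : ℕ) = 0) ∧ ((c : ℕ) < 31672 ↔ (pA x c : ℕ) < 31672) := by
  induction hx using Subgroup.closure_induction generalizing c with
  | mem g hg =>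
    obtain ⟨y, hy, rfl⟩ := hg
    have hy' : y < 11 := hy
    have h := pA_word (w := [y]) (by intro z hz; rw [List.mem_singleton] at hz; omega) c
    rw [wprod_cons, wprod_nil, mul_one] at h
    rw [h, show comp (mapsW [y]) (c : ℕ) = act y c from rfl]
    rcases point_cases c.2 with e | ⟨x, hx, e⟩ | ⟨q, hq, e⟩ <;> rw [e] <;>
      rcases (show y < 10 ∨ y = 10 by omega) with h' | rfl
    · rw [act_h h', hAct_zero]; simp
    · rw [act_l, actL_low (by norm_num)]; simp
    · rw [act_h h', hAct_one y hx]; have := (invT1 y h').lt x hx; omega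
    · rw [act_l, actL_low (by omega)]; omega
    · rw [act_h h', hAct_two]; omega
    · rw [act_l, actL_two]; omega
  | one => simp [pA_one]
  | mul a b _ _ ha hb => rw [pA_mul]; exact ⟨(ha c).1.trans (hb _).1, (ha c).2.trans (hb _).2⟩
  | inv a _ ha =>
    have h := ha (pA a⁻¹ c)
    rw [← pA_mul, inv_mul_cancel, pA_one] at h
    exact ⟨h.1.symm, h.2.symm⟩

theorem comp_mapsW_append (u v : List ℕ) (c : ℕ) :
    comp (mapsW (u ++ v)) c = comp (mapsW v) (comp (mapsW u) c) := by
  rw [mapsW, mapsW, mapsW, List.map_append, comp_append]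

theorem bp_lt : ∀ k, bp k < NP
  | 0 => show 0 < 306936 by norm_num
  | 1 => show 26626 < 306936 by norm_num
  | _ + 2 => show 31672 < 306936 by norm_num

theorem cover (c : Pt) : ∃ i < 9, ∃ κ, inK κ = true ∧ comp (mapsW κ) (namedPts.getD i 0) = c := by
  suffices h : ∀ d, ∀ c < NP, cov.get c >>> 4 = d →
      ∃ i < 9, ∃ κ, inK κ = true ∧ comp (mapsW κ) (namedPts.getD i 0) = c from h _ c c.2 rfl
  intro d
  induction d using Nat.strong_induction_on with
  | _ d ih =>
    intro c hc hd
    have h := cov_ok c hc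
    rw [covAt] at h
    cases hb : Nat.beq (Nat.shiftRight (cov.get c) 4) 0 with
    | true =>
      rw [hb] at h
      obtain ⟨r, hr, he⟩ := List.any_eq_true.1 h
      obtain ⟨i, hi, rfl⟩ := List.getElem_of_mem hr
      exact ⟨i, hi, [], rfl, by rw [List.getD_eq_getElem _ _ hi]; exact Nat.eq_of_beq_eq_true he⟩
    | false =>
      rw [hb] at h
      simp only [Bool.and_eq_true, Nat.ble_eq, Nat.blt_eq] at h
      obtain ⟨⟨h1, h2⟩, h3⟩ := h
      set g := Nat.land (cov.get c) 15
      have hg : g < 10 := by omega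
      obtain ⟨i, hi, κ, hκ, e⟩ := ih _ (hd ▸ h3) (hAct g c) ((invH hg).lt c hc) rfl
      refine ⟨i, hi, κ ++ [g], ?_, ?_⟩
      · rw [inK, List.all_append, ← inK, hκ]
        simp only [List.all_cons, List.all_nil, Bool.and_true, Bool.true_and, Bool.and_eq_true, Nat.ble_eq,
          Nat.blt_eq]
        exact ⟨h1, hg⟩
      · rw [comp_mapsW_append, e, mapsW, List.map_cons, List.map_nil, comp_cons, comp_nil,
          act_h hg, (invH hg).inv c hc]

theorem pA_theta_word {w : List ℕ} (hw : inH w = true) (c : Pt) :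
    (pA (theta (wprod gW w)) c : ℕ) = comp (mapsW w) c := by
  rw [theta_word (inH_spec hw), pA_word fun x hx => by have := inH_spec hw x hx; omega]

theorem named_spec : ∀ i < 9, inH (row i).2.1 = true ∧
    comp (mapsW (row i).2.1) (bp (row i).1) = namedPts.getD i 0 := by
  decide +kernel

theorem reach_spec (c : Pt) : ∃ k, k < 3 ∧ ∃ u : W2, (pA (theta u) (pt (bp k) (bp_lt k)) : ℕ) = c := by
  obtain ⟨i, hi, κ, hκ, e⟩ := cover c
  have hk : ∀ i < 9, (row i).1 < 3 := by decide +kernel
  obtain ⟨hu, hp⟩ := named_spec i hi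
  refine ⟨(row i).1, hk i hi, wprod gW ((row i).2.1 ++ κ), ?_⟩
  rw [pA_theta_word (by
    rw [inH, List.all_append, ← inH, ← inH, hu, Bool.true_and]
    exact List.all_eq_true.2 fun x hx => by have := inK_spec hκ x hx; simp; omega)]
  show comp (mapsW ((row i).2.1 ++ κ)) (bp (row i).1) = c
  rw [comp_mapsW_append, hp, e]

theorem bp_region {k : ℕ} (hk : k < 3) :
    (bp k = 0 ↔ k = 0) ∧ (bp k < 31672 ↔ k < 2) ∧ bp k < NP := by
  interval_cases k <;> simp [bp, NP]

theorem orb_eq {k : ℕ} (hk : k < 3) :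
    orb (pt (bp k) (bp_lt k)) =
      {c : Pt | ((c : ℕ) = 0 ↔ k = 0) ∧ ((c : ℕ) < 31672 ↔ k < 2)} := by
  ext c
  constructor
  · rintro ⟨u, rfl⟩
    obtain ⟨h1, h2⟩ := pA_H_region (theta_mem u) (pt (bp k) (bp_lt k))
    exact ⟨h1.symm.trans (bp_region hk).1, h2.symm.trans (bp_region hk).2.1⟩
  · rintro ⟨hc1, hc2⟩
    obtain ⟨m, hm, u, hu⟩ := reach_spec c
    obtain ⟨h1, h2⟩ := pA_H_region (theta_mem u) (pt (bp m) (bp_lt m))
    have hmk : m = k := by
      have a1 : (k = 0 ↔ m = 0) := by
        rw [← hc1, ← hu]; exact h1.symm.trans (bp_region hm).1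
      have a2 : (k < 2 ↔ m < 2) := by
        rw [← hc2, ← hu]; exact h2.symm.trans (bp_region hm).2.1
      omega
    subst hmk
    exact ⟨u, Fin.ext hu⟩

theorem card_stab_p : Nat.card (stab (pt 26626)) * 31671 = 2 * 4089470473293004800 := by
  have e : (orb (pt 26626)).ncard = 31671 := by
    rw [show pt 26626 = pt (bp 1) (bp_lt 1) from rfl, orb_eq (by norm_num)]
    rw [show {c : Pt | ((c : ℕ) = 0 ↔ 1 = 0) ∧ ((c : ℕ) < 31672 ↔ 1 < 2)} =
      Set.range (fun i : Fin 31671 => (⟨1 + i, by have := i.2; simp only [NP]; omega⟩ : Pt)) from by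
        ext c
        constructor
        · rintro ⟨a, b⟩
          have a' : (c : ℕ) ≠ 0 := fun h => one_ne_zero (a.1 h)
          have b' : (c : ℕ) < 31672 := b.2 (by norm_num)
          exact ⟨⟨c - 1, by omega⟩, Fin.ext (by show 1 + ((c : ℕ) - 1) = c; omega)⟩
        · rintro ⟨i, rfl⟩
          refine ⟨?_, ?_⟩ <;> simp <;> omega]
    rw [Set.ncard_range_of_injective (fun i j h => by simpa [Fin.ext_iff] using h), Nat.card_fin]
  have := card_stab (pt 26626)
  rwa [e] at this

theorem card_stab_q : Nat.card (stab (pt 31672)) * 275264 = 2 * 4089470473293004800 := by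
  have e : (orb (pt 31672)).ncard = 275264 := by
    rw [show pt 31672 = pt (bp 2) (bp_lt 2) from rfl, orb_eq (by norm_num)]
    rw [show {c : Pt | ((c : ℕ) = 0 ↔ 2 = 0) ∧ ((c : ℕ) < 31672 ↔ 2 < 2)} =
      Set.range (fun i : Fin 275264 => (⟨31672 + i, by have := i.2; simp only [NP]; omega⟩ : Pt)) from by
        ext c
        constructor
        · rintro ⟨a, b⟩
          have b' : ¬ (c : ℕ) < 31672 := fun h => absurd (b.1 h) (by norm_num)
          have c' : (c : ℕ) < 306936 := c.2
          exact ⟨⟨c - 31672, by omega⟩, Fin.ext (by show 31672 + ((c : ℕ) - 31672) = c; omega)⟩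
        · rintro ⟨i, rfl⟩
          refine ⟨?_, ?_⟩ <;> simp]
    rw [Set.ncard_range_of_injective (fun i j h => by simpa [Fin.ext_iff] using h), Nat.card_fin]
  have := card_stab (pt 31672)
  rwa [e] at this

/-- The words carrying a coset into itself. -/
def fixer (k : ℕ) : Subgroup W2 :=
  HH.comap ((MulAut.conj (wprod gen (bw k))).toMonoidHom.comp theta)

theorem mem_fixer {k : ℕ} {w : List ℕ} (hw : ∀ x ∈ w, x < 11) :
    wprod gW w ∈ fixer k ↔ Eqv (bw k ++ w) (bw k) := by
  show wprod gen (bw k) * theta (wprod gW w) * (wprod gen (bw k))⁻¹ ∈ HH ↔ _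
  rw [theta_word hw, Eqv, wprod_append]

theorem half_or_third {a b : ℕ} (h : a ∣ b) (hb : 0 < b) (hlt : a < b) : 2 * a ≤ b := by
  obtain ⟨c, rfl⟩ := h
  have : 2 ≤ c := by
    by_contra hc
    interval_cases c <;> omega
  nlinarith

/-- A subgroup of index at most three in `S` and anything in `S` outside it generate `S`. -/
theorem fill {S K B : Subgroup W2} (hKB : K ≤ B) (hBS : B ≤ S) {σ : W2} (hσ : σ ∈ B) (hσK : σ ∉ K)
    (h3 : Nat.card S ≤ 3 * Nat.card K) : B = S := by
  by_contra hne
  have h1 : Nat.card K < Nat.card B := by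
    refine lt_of_le_of_ne (Subgroup.card_le_of_le hKB) fun e => hσK ?_
    rw [Subgroup.eq_of_le_of_card_ge hKB e.ge]
    exact hσ
  have h2 : Nat.card B < Nat.card S :=
    lt_of_le_of_ne (Subgroup.card_le_of_le hBS) fun e => hne (Subgroup.eq_of_le_of_card_ge hBS e.ge)
  have := half_or_third (Subgroup.card_dvd_of_le hKB) Nat.card_pos h1
  have := half_or_third (Subgroup.card_dvd_of_le hBS) Nat.card_pos h2
  have : 0 < Nat.card K := Nat.card_pos
  omega

/-- The points of the block. -/
def block : Set Pt := {c | bit blockBits c = true}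

open scoped Pointwise in
/-- Elements fixing the second base point and preserving the block. -/
def blockStab : Subgroup W2 :=
  stab (pt 31672) ⊓ (MulAction.stabilizer (Equiv.Perm Pt) block).comap rho

open scoped Pointwise in
theorem mem_blockStab {u : W2} (hu : u ∈ stab (pt 31672)) (h : ∀ c ∈ block, pA (theta u) c ∈ block) :
    u ∈ blockStab := by
  refine Subgroup.mem_inf.2 ⟨hu, ?_⟩
  rw [Subgroup.mem_comap, MulAction.mem_stabilizer_iff]
  have himg : (fun c => pA (theta u) c) '' block = block := by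
    refine Set.eq_of_subset_of_ncard_le ?_ (le_of_eq ?_) (Set.toFinite _)
    · rintro _ ⟨c, hc, rfl⟩; exact h c hc
    · exact (Set.ncard_image_of_injective _ fun a b e => by
        have := congrArg (pA (theta u)⁻¹) e
        rwa [← pA_mul, ← pA_mul, mul_inv_cancel, pA_one, pA_one] at this).symm
  ext d
  constructor
  · rintro ⟨c, hc, rfl⟩
    obtain ⟨c', hc', rfl⟩ := himg.ge hc
    show rho u _ ∈ block
    rw [rho_apply, ← pA_mul, mul_inv_cancel, pA_one]
    exact hc'
  · intro hd
    refine ⟨pA (theta u) d, h d hd, ?_⟩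
    show rho u _ = d
    rw [rho_apply, ← pA_mul, mul_inv_cancel, pA_one]

open scoped Pointwise in
theorem blockStab_spec {u : W2} (hu : u ∈ blockStab) : ∀ c ∈ block, pA (theta u) c ∈ block := by
  intro c hc
  have h := MulAction.mem_stabilizer_iff.1 (Subgroup.mem_comap.1 (Subgroup.mem_inf.1 hu).2)
  rw [← h] at hc
  obtain ⟨d, hd, rfl⟩ := hc
  show pA (theta u) (rho u d) ∈ block
  rw [rho_apply, ← pA_mul, inv_mul_cancel, pA_one]
  exact hd

end

end Cfsg.Agent.Fi24Pres
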