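import Cfsg.Agent.Lib.Fi24Pres.Basic
import Cfsg.Agent.Lib.Compute.CosetBound
import Cfsg.Agent.Lib.Compute.CosetData.Sub1080

/-!
Edge facts for Fi24 from the enumeration of the subgroup on a, b, c, d, e, f, h, i, l, k over the one on
a, b, c, d, e, f, h, i, l (1080 cosets, from the Coxeter relations and the definition of l only).
-/

set_option autoImplicit false

namespace Cfsg.Agent.Fi24Pres

open Cfsg.Agent.CosetCert
open Cfsg.Agent.CosetData

/-- The number in `Fi24Pres` of a letter of the table of 1080 cosets. -/
def subLetter : ℕ → ℕ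
  | 0 => 0 | 1 => 1 | 2 => 2 | 3 => 3 | 4 => 4 | 5 => 5 | 6 => 7 | 7 => 8 | 8 => 10 | _ => 11

/-- The letter of the table of a number. -/
def subCode (x : ℕ) : ℕ :=
  match x with
  | 7 => 6 | 8 => 7 | 10 => 8 | 11 => 9 | _ => x

/-- The letters allowed. -/
def subOK (w : List ℕ) : Bool :=
  w.all fun x => Nat.blt x 6 || Nat.beq x 7 || Nat.beq x 8 || Nat.beq x 10 || Nat.beq x 11

/-- The coset reached by a word. -/
noncomputable def subTrace (w : List ℕ) : ℕ := tact Sub1080.P (w.map subCode) 0

theorem sub_base_kind : (Sub1080.base.all fun w => wordEq w (eW.map subCode ++ [8]) ||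
    (List.range 10).any fun i => (List.range 10).any fun j =>
      !Nat.beq i j && wordEq (w.map subLetter) (pairW (subLetter i) (subLetter j))) = true := by
  decide +kernel

theorem sub_base_one {G : Type*} [Group G] {g : ℕ → G} (hg : Gens g) :
    ∀ w ∈ Sub1080.base, wprod (fun x => g (subLetter x)) w = 1 := by
  intro w hw
  have hmap : ∀ u : List ℕ, wprod (fun x => g (subLetter x)) u = wprod g (u.map subLetter) := fun u => by
    simp [wprod, List.map_map, Function.comp_def]
  have h := List.all_eq_true.1 sub_base_kind w hw
  simp only [Bool.or_eq_true, List.any_eq_true, List.mem_range, Bool.and_eq_true, Bool.not_eq_true'] at h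
  rcases h with h | ⟨i, hi, j, hj, hne, he⟩
  · rw [eq_of_wordEq h, hmap, List.map_append, wprod_append, show (eW.map subCode).map subLetter = eW ++ [] from ?_,
      List.append_nil, ← hg.l_eq]
    · show g 10 * wprod g [subLetter 8] = 1
      rw [wprod_cons, wprod_nil, mul_one]
      exact hg.sq 10
    · rw [List.append_nil]
      decide
  · rw [hmap, eq_of_wordEq he, pairW]
    have h12 : ∀ x < 10, subLetter x < 12 := fun x hx => by interval_cases x <;> decide
    split_ifs with hedge
    · rw [wprod_rep, wprod_cons, wprod_cons, wprod_nil, mul_one]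
      have key : ∀ {a b : G}, a * a = 1 → b * b = 1 → a * b * a = b * a * b → (a * b) ^ 3 = 1 := by
        intro a b ha hb h
        calc (a * b) ^ 3 = (a * b * a) * (b * a * b) := by rw [pow_succ, pow_two]; group
          _ = b * a * (b * b) * a * b := by rw [h]; group
          _ = 1 := by rw [hb, mul_one, show b * a * a * b = b * (a * a) * b by group, ha, mul_one, hb]
      rcases hedge with h | h
      · exact key (hg.sq _) (hg.sq _) (hg.braid _ h)
      · exact key (hg.sq _) (hg.sq _) (hg.braid _ h).symm
    · rw [wprod_rep, wprod_cons, wprod_cons, wprod_nil, mul_one]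
      have hn := not_or.1 hedge
      rw [(show Commute _ _ from hg.comm _ (h12 i hi) _ (h12 j hj) hn.1 hn.2).mul_pow, pow_two, pow_two, hg.sq,
        hg.sq, one_mul]

/-- **Words with the same trace lie in the same right coset of the subgroup missing k.** -/
theorem sub_trace {G : Type*} [Group G] {g : ℕ → G} (hg : Gens g) {w₁ w₂ : List ℕ} (h₁ : subOK w₁ = true)
    (h₂ : subOK w₂ = true) (h : Nat.beq (subTrace w₁) (subTrace w₂) = true) :
    wprod g w₁ * (wprod g w₂)⁻¹ ∈ Subgroup.closure (g '' {x | x < 11}) := by
  classical
  set H := Subgroup.closure (g '' {x | x < 11}) with hH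
  set m : ℕ → G := fun x => g (subLetter x) with hm
  have hinv : ∀ x, m x * m x = 1 := fun x => hg.sq _
  have hs : ∀ x (c : G ⧸ H), m x • m x • c = c := fun x c => by rw [smul_smul, hinv, one_smul]
  obtain ⟨q, hq0, hq⟩ := checkCert_sound (P := Sub1080.P) (s := fun x (c : G ⧸ H) => m x • c)
    (q₀ := ((1 : G) : G ⧸ H))
    (fun w hw c => by
      rw [act_eq_wprod, wprod_reverse hinv, rotsOK_spec hinv (sub_base_one hg) _ _ Sub1080.rots_ok w hw,
        inv_one, one_smul])
    (fun w hw => by
      rw [act_eq_wprod, wprod_reverse hinv]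
      have hmem : wprod m w ∈ H := by
        change w ∈ Sub1080.subs at hw
        simp only [Sub1080.subs, List.mem_cons, List.not_mem_nil, or_false] at hw
        rcases hw with rfl | rfl | rfl | rfl | rfl | rfl | rfl | rfl | rfl <;>
          (rw [wprod_cons, wprod_nil, mul_one]; exact Subgroup.subset_closure ⟨_, by decide, rfl⟩)
      show ((((wprod m w)⁻¹ * 1 : G)) : G ⧸ H) = _
      rw [QuotientGroup.eq]
      simpa using hmem)
    hs Sub1080.cert_ok
  have hget : ∀ i < 1080 * 10, Sub1080.P.T.get i < 1080 := fun i hi => by
    have := tableOK_spec Sub1080.P Sub1080.tab_ok (n := 1080) (i := i) hi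
    simp only [Bool.and_eq_true, Nat.blt_eq] at this
    exact this.1
  have hwalk : ∀ (w : List ℕ), (w.all fun y => Nat.blt y 10) = true → ∀ c < 1080,
      act (fun x (c : G ⧸ H) => m x • c) w (q c) = q (tact Sub1080.P w c) := by
    intro w
    induction w with
    | nil => intro _ c _; rfl
    | cons y w ih =>
      intro hall c hc
      rw [List.all_cons, Bool.and_eq_true, Nat.blt_eq] at hall
      have h1 : c * 10 + y < 1080 * 10 := by omega
      have h2 := hq (c * 10 + y) h1
      rw [show (c * 10 + y) % Sub1080.P.k = y from by show (c * 10 + y) % 10 = y; omega,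
        show (c * 10 + y) / Sub1080.P.k = c from by show (c * 10 + y) / 10 = c; omega] at h2
      rw [tact_cons, act_cons]
      show act _ w (m y • q c) = _
      rw [h2]
      exact ih hall.2 _ (hget _ h1)
  have hval : ∀ w, subOK w = true →
      (((wprod g w)⁻¹ : G) : G ⧸ H) = q (subTrace w) := by
    intro w hw
    rw [subOK, List.all_eq_true] at hw
    have hlt : ((w.map subCode).all fun y => Nat.blt y 10) = true := by
      rw [List.all_eq_true]
      intro y hy
      obtain ⟨x, hx, rfl⟩ := List.mem_map.1 hy
      have := hw x hx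
      simp only [Bool.or_eq_true, Nat.blt_eq, Nat.beq_eq] at this
      rw [Nat.blt_eq]
      rcases this with (((h | rfl) | rfl) | rfl) | rfl
      · interval_cases x <;> decide
      all_goals decide
    have hback : wprod m (w.map subCode) = wprod g w := by
      unfold wprod
      rw [List.map_map]
      refine congrArg List.prod (List.map_congr_left fun x hx => ?_)
      have := hw x hx
      simp only [Bool.or_eq_true, Nat.blt_eq, Nat.beq_eq] at this
      show g (subLetter (subCode x)) = g x
      rcases this with (((h | rfl) | rfl) | rfl) | rfl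
      · interval_cases x <;> rfl
      all_goals rfl
    have h3 := hwalk _ hlt 0 (by norm_num)
    rw [hq0, act_eq_wprod, wprod_reverse hinv, hback] at h3
    rw [subTrace, ← h3]
    show _ = (((wprod g w)⁻¹ * 1 : G) : G ⧸ H)
    rw [mul_one]
  have e := (hval w₁ h₁).trans ((congrArg q (Nat.eq_of_beq_eq_true h)).trans (hval w₂ h₂).symm)
  rw [QuotientGroup.eq, inv_inv] at e
  exact e

end Cfsg.Agent.Fi24Pres
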