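import Cfsg.Agent.Lib.Compute.CosetCert

/-!
Packed tables of permutations of up to `2 ^ 20` points and kernel checks of relations between them.
A relation is checked only at the least point of each orbit of the two maps involved.
-/

set_option autoImplicit false

namespace Cfsg.Agent.Fi24Pres

open Cfsg.Agent.CosetCert

noncomputable section

/-- A packed table with entries of twenty bits: leaves hold chunks, a node splits on parity. -/
inductive T20 where
  | leaf (v : ℕ)
  | node (l r : T20)

/-- Entry `i`. -/
def T20.get (t : T20) : ℕ → ℕ :=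
  T20.rec (fun v i => Nat.land (Nat.shiftRight v (Nat.mul 20 i)) 1048575)
    (fun _ _ l r i => Bool.rec (r (Nat.shiftRight i 1)) (l (Nat.shiftRight i 1)) (Nat.beq (Nat.land i 1) 0)) t

/-- The Boolean `p` holds on the `len` numbers from `a` on. -/
def allIn (p : ℕ → Bool) (a : ℕ) : ℕ → Bool :=
  Nat.rec true (fun i r => Bool.rec false r (p (Nat.add a i)))

theorem allIn_spec {p : ℕ → Bool} {a : ℕ} : ∀ {len : ℕ}, allIn p a len = true →
    ∀ i, a ≤ i → i < a + len → p i = true := by
  intro len
  induction len with
  | zero => intro _ i h1 h2; omega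
  | succ n ih =>
    intro h i h1 h2
    change Bool.rec false (allIn p a n) (p (a + n)) = true at h
    cases hp : p (a + n) with
    | false => rw [hp] at h; exact absurd h Bool.false_ne_true
    | true =>
      rw [hp] at h
      rcases Nat.lt_succ_iff_lt_or_eq.1 (show i < a + n + 1 by omega) with hi | hi
      · exact ih h i h1 hi
      · rw [hi]; exact hp

theorem allIn_glue {p : ℕ → Bool} {a b c : ℕ} (h1 : allIn p a b = true)
    (h2 : ∀ i, a + b ≤ i → i < c → p i = true) : ∀ i, a ≤ i → i < c → p i = true := fun i hi hc =>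
  if h : i < a + b then allIn_spec h1 i hi h else h2 i (by omega) hc

/-- An involution of the numbers below `N`. -/
structure Inv (f : ℕ → ℕ) (N : ℕ) : Prop where
  lt : ∀ x < N, f x < N
  inv : ∀ x < N, f (f x) = x

theorem Inv.inj {f : ℕ → ℕ} {N : ℕ} (h : Inv f N) {x y : ℕ} (hx : x < N) (hy : y < N) (e : f x = f y) :
    x = y := by rw [← h.inv x hx, e, h.inv y hy]

/-- Check of an involution at the point with key `c`. -/
def invAt (lift f : ℕ → ℕ) (N : ℕ) (c : ℕ) : Bool :=
  Bool.rec false (Nat.beq (f (f (lift c))) (lift c)) (Nat.blt (f (lift c)) N)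

/-- Check of commutation at the point with key `c`. -/
def commAt (key lift f g : ℕ → ℕ) (c : ℕ) : Bool :=
  Bool.rec (Bool.rec (Nat.beq (f (g (lift c))) (g (f (lift c)))) true (Nat.blt (key (g (lift c))) c)) true
    (Nat.blt (key (f (lift c))) c)

/-- Check of a braid relation at the point with key `c`. -/
def braidAt (key lift f g : ℕ → ℕ) (c : ℕ) : Bool :=
  Bool.rec (Bool.rec (Nat.beq (f (g (f (lift c)))) (g (f (g (lift c))))) true (Nat.blt (key (g (lift c))) c))
    true (Nat.blt (key (f (lift c))) c)

/-- Follow `f` from `d` until a smaller key or for `e` steps. -/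
def powGo (key f : ℕ → ℕ) (c tgt : ℕ) : ℕ → ℕ → Bool :=
  Nat.rec (fun d => Nat.beq d tgt) (fun _ r d => Bool.rec (r (f d)) true (Nat.blt (key d) c))

/-- Check of `f ^ e = σ` at the point with key `c`. -/
def powAt (key lift f σ : ℕ → ℕ) (e c : ℕ) : Bool := powGo key f c (σ (lift c)) e (lift c)

/-- `key` and `lift` reduce a property to one point per key. -/
structure KeyLift (key lift : ℕ → ℕ) (N n : ℕ) : Prop where
  key_lt : ∀ x < N, key x < n
  lift_lt : ∀ c < n, lift c < N
  key_lift : ∀ c < n, key (lift c) = c

theorem KeyLift.id (N : ℕ) : KeyLift (fun x => x) (fun x => x) N N :=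
  ⟨fun _ h => h, fun _ h => h, fun _ _ => rfl⟩

/-- The points of a double cover, by sheets. -/
theorem KeyLift.double (n : ℕ) : KeyLift (fun x => Nat.shiftRight x 1) (fun c => Nat.mul 2 c) (2 * n) n := by
  refine ⟨fun x hx => ?_, fun c hc => ?_, fun c _ => ?_⟩
  · change x >>> 1 < n
    rw [Nat.shiftRight_eq_div_pow, pow_one]
    omega
  · change 2 * c < 2 * n
    omega
  · change (2 * c) >>> 1 = c
    rw [Nat.shiftRight_eq_div_pow, pow_one]
    omega

/-- The property is the same at all points with one key. -/
def KeyProp (key lift : ℕ → ℕ) (N : ℕ) (P : ℕ → Prop) : Prop := ∀ x < N, P x ↔ P (lift (key x))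

variable {key lift f g : ℕ → ℕ} {N n : ℕ}

theorem by_key {P : ℕ → Prop} (hK : KeyLift key lift N n) (hP : KeyProp key lift N P)
    (step : ∀ c < n, (∀ x < N, key x < c → P x) → P (lift c)) : ∀ x < N, P x := by
  have main : ∀ c, ∀ x < N, key x = c → P x := fun c => by
    induction c using Nat.strong_induction_on with
    | _ c ih =>
      intro x hx hc
      rw [hP x hx, hc]
      exact step c (hc ▸ hK.key_lt x hx) fun y hy hlt => ih _ hlt y hy rfl
  exact fun x hx => main _ x hx rfl

theorem inv_of_checks (hK : KeyLift key lift N n)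
    (hP : KeyProp key lift N fun x => f x < N ∧ f (f x) = x)
    (hc : ∀ c < n, invAt lift f N c = true) : Inv f N := by
  have h : ∀ x < N, f x < N ∧ f (f x) = x := by
    refine by_key hK hP fun c hcn _ => ?_
    have h := hc c hcn
    rw [invAt] at h
    cases hb : Nat.blt (f (lift c)) N with
    | false => rw [hb] at h; exact absurd h Bool.false_ne_true
    | true => rw [hb] at h; exact ⟨by simpa using hb, Nat.eq_of_beq_eq_true h⟩
  exact ⟨fun x hx => (h x hx).1, fun x hx => (h x hx).2⟩

theorem comm_of_checks (hK : KeyLift key lift N n) (hf : Inv f N) (hg : Inv g N)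
    (hP : KeyProp key lift N fun x => f (g x) = g (f x))
    (hc : ∀ c < n, commAt key lift f g c = true) : ∀ x < N, f (g x) = g (f x) := by
  refine by_key hK hP fun c hcn ih => ?_
  have h := hc c hcn
  have hl := hK.lift_lt c hcn
  rw [commAt] at h
  cases h1 : Nat.blt (key (f (lift c))) c with
  | true =>
    simp only [Nat.blt_eq] at h1
    have e := ih _ (hf.lt _ hl) h1
    rw [hf.inv _ hl] at e
    have e' := congrArg f e
    rw [hf.inv _ (hg.lt _ (hf.lt _ hl))] at e'
    exact e'.symm
  | false =>
    rw [h1] at h
    cases h2 : Nat.blt (key (g (lift c))) c with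
    | false => rw [h2] at h; exact Nat.eq_of_beq_eq_true h
    | true =>
      simp only [Nat.blt_eq] at h2
      have e := ih _ (hg.lt _ hl) h2
      rw [hg.inv _ hl] at e
      have e' := congrArg g e
      rw [hg.inv _ (hf.lt _ (hg.lt _ hl))] at e'
      exact e'.symm

theorem braid_of_checks (hK : KeyLift key lift N n) (hf : Inv f N) (hg : Inv g N)
    (hP : KeyProp key lift N fun x => f (g (f x)) = g (f (g x)))
    (hc : ∀ c < n, braidAt key lift f g c = true) : ∀ x < N, f (g (f x)) = g (f (g x)) := by
  refine by_key hK hP fun c hcn ih => ?_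
  have h := hc c hcn
  have hl := hK.lift_lt c hcn
  have lf := hf.lt
  have lg := hg.lt
  rw [braidAt] at h
  cases h1 : Nat.blt (key (f (lift c))) c with
  | true =>
    simp only [Nat.blt_eq] at h1
    -- `f g x = g f g f x` gives the relation at `x`
    have e := ih _ (lf _ hl) h1
    rw [hf.inv _ hl] at e
    have e' := congrArg g e
    rw [hg.inv _ (lf _ (lg _ (lf _ hl)))] at e'
    have e'' := congrArg f e'
    rw [hf.inv _ (lg _ (lf _ hl))] at e''
    -- e'' : f (g (f (g x))) = g (f x)
    have e3 := congrArg f e''
    rw [hf.inv _ (lg _ (lf _ (lg _ hl)))] at e3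
    exact e3.symm
  | false =>
    rw [h1] at h
    cases h2 : Nat.blt (key (g (lift c))) c with
    | false => rw [h2] at h; exact Nat.eq_of_beq_eq_true h
    | true =>
      simp only [Nat.blt_eq] at h2
      have e := ih _ (lg _ hl) h2
      rw [hg.inv _ hl] at e
      -- e : f (g (f (g x))) = g (f x)
      have e' := congrArg f e
      rw [hf.inv _ (lg _ (lf _ (lg _ hl)))] at e'
      exact e'.symm

theorem pow_of_checks {σ : ℕ → ℕ} {e : ℕ} (hK : KeyLift key lift N n) (hlt : ∀ x < N, f x < N)
    (hinj : ∀ x < N, ∀ y < N, f x = f y → x = y) (hσ : ∀ x < N, σ x < N)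
    (hσf : ∀ x < N, σ (f x) = f (σ x))
    (hP : KeyProp key lift N fun x => f^[e] x = σ x)
    (hc : ∀ c < n, powAt key lift f σ e c = true) : ∀ x < N, f^[e] x = σ x := by
  refine by_key hK hP fun c hcn ih => ?_
  have hl := hK.lift_lt c hcn
  have itlt : ∀ i, f^[i] (lift c) < N := fun i => by
    induction i with
    | zero => exact hl
    | succ i hi => rw [Function.iterate_succ_apply']; exact hlt _ hi
  have back : ∀ i, f^[e] (f^[i] (lift c)) = σ (f^[i] (lift c)) → f^[e] (lift c) = σ (lift c) := by
    intro i
    induction i with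
    | zero => exact id
    | succ i hi =>
      intro h
      rw [Function.iterate_succ_apply', hσf _ (itlt i), ← Function.iterate_succ_apply f e,
        Function.iterate_succ_apply' f e] at h
      refine hi (hinj _ ?_ _ (hσ _ (itlt i)) h)
      rw [← Function.iterate_add_apply]
      exact itlt _
  have key' : ∀ j i, i + j = e → powGo key f c (σ (lift c)) j (f^[i] (lift c)) = true →
      f^[e] (lift c) = σ (lift c) := by
    intro j
    induction j with
    | zero =>
      intro i hi h
      obtain rfl : i = e := by omega
      exact Nat.eq_of_beq_eq_true h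
    | succ j ihj =>
      intro i hi h
      change Bool.rec (powGo key f c (σ (lift c)) j (f (f^[i] (lift c)))) true
        (Nat.blt (key (f^[i] (lift c))) c) = true at h
      cases hb : Nat.blt (key (f^[i] (lift c))) c with
      | true =>
        simp only [Nat.blt_eq] at hb
        exact back i (ih _ (itlt i) hb)
      | false =>
        rw [hb] at h
        refine ihj (i + 1) (by omega) ?_
        rw [Function.iterate_succ_apply']
        exact h
  exact key' e 0 (by omega) (hc c hcn)

end

end Cfsg.Agent.Fi24Pres
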