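import Cfsg.Agent.Lib.Fi24Pres.Core
import Cfsg.Agent.Lib.Fi24Pres.Spider
import Cfsg.Agent.Lib.Fi24Pres.Transp

/-!
The presented Fi24 has the facts used in the transposition development.
-/

set_option autoImplicit false

namespace Cfsg.Agent.Fi24Pres

/-- The facts hold for the presented group. -/
theorem transpCore : Transp.Core gen where
  gens := gens
  closure_gen := closure_gen
  spider := spider gens
  index := index_HH
  cover x := by
    rcases double_cosets x with h | ⟨h₁, hh₁, h₂, hh₂, h | h⟩
    · exact Or.inl h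
    · exact Or.inr (Or.inl ⟨h₁, hh₁, h₂, hh₂, h⟩)
    · exact Or.inr (Or.inr ⟨h₁, hh₁, h₂, hh₂, h⟩)

end Cfsg.Agent.Fi24Pres
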